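import Cfsg.Agent.H113.PSL.Facts
import Cfsg.Agent.H53.HC.Flag_m3
import Cfsg.Agent.S2580
import Cfsg.Agent.ClassicalGeometry.AutPSL.Auto
import Cfsg.Agent.H464.ExtQU
import Cfsg.Agent.CharactersDeep.MaxInduced
import Cfsg.Agent.LieClassical.SLGen
import Cfsg.Agent.S0148
import Cfsg.Agent.H525.ExtMult
import Cfsg.Agent.CharDeep.LinearChar
import Cfsg.Agent.H477.HC.Rk3Chars_m3
import Cfsg.Agent.AutOrth.Final
import Cfsg.Agent.Prune
set_option linter.all false

section
prune_inst 0x7fffedffbbe8c9deffff7e3fa6d4cff9d6aaafffe6dffdcbffe069bf2bdf6b00c9c52b8d0fea12fe1ff76a3410f87b43ffffeeffe26bdc7ffffd5ff41ffbffcfedf7b509519688340fbc0ff783f0778e6f3fffffffffffffffffffffffffffbeffbffbfeffff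

-- part: H732/ExtPSL/Twist
section
prune_inst 0x7322100000180510b00002101400000200030000810008000949a06228430e0116500000001080c04000000001100000000000000000040040010120808042008208a104060087000000000000000000000000000000000000000000000000000
set_option linter.all false
open scoped Cfsg.Agent.FastGrp

-- part: H732/ExtPSL/Flag
section
/-!
# Harish-Chandra induction from the stabiliser of a hyperplane of `SL(V)` (helper732, S4832)

`ρ : G →* GL(V)`, `dim V = m + 1`, `2 ≤ m`, the image of `ρ` contains `SL(V)` (`HasSL ρ`).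
For `c` a cuspidal irreducible character of `GL_m(K)`: `hyp ρ c g = ∑ c (g | W)` over the `g`-invariant hyperplanes.

* `isIrr_hyp` : `hyp ρ c` is irreducible;
* `sum_hyp_eq_zero` : `hyp ρ c`, `hyp ρ c'` are orthogonal if `c ≠ c'`.
-/

set_option autoImplicit false
set_option linter.unusedSectionVars false
set_option linter.style.haveILetI false

open scoped ComplexConjugate
open Cfsg

namespace Cfsg.Agent.H732.ExtPSL

open Cfsg.Agent.H53.HC Cfsg.Agent.Characters MulAction Module Cfsg.Agent.H113.PSL.Para Cfsg.Agent.H113.PSL.Hyper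

universe u v w

variable {K : Type u} [Field K] {V : Type v} [AddCommGroup V] [Module K V] {m : ℕ} {G : Type w} [Group G]

/-- the image of `ρ` contains the automorphisms of determinant one -/
def HasSL (ρ : G →* (V ≃ₗ[K] V)) : Prop := ∀ e : V ≃ₗ[K] V, LinearEquiv.det e = 1 → ∃ g : G, ρ g = e

/-- **`g ↦ ∑ c (g | W)`**, over the `g`-invariant hyperplanes `W` -/
noncomputable abbrev hyp (ρ : G →* (V ≃ₗ[K] V)) [Fintype (dimSet K V m)] (c : GL (Fin m) K → ℂ) : G → ℂ :=
  flagChar ρ (dimSet K V m) c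

/-- the determinant of the scalar `c` on a line -/
theorem det_smul_line {Q : Type*} [AddCommGroup Q] [Module K Q] (hQ : finrank K Q = 1) (c : Kˣ) :
    LinearEquiv.det (LinearEquiv.smulOfUnit c : Q ≃ₗ[K] Q) = c := by
  apply Units.ext
  rw [LinearEquiv.coe_det]
  have h1 : ((LinearEquiv.smulOfUnit c : Q ≃ₗ[K] Q) : Q →ₗ[K] Q) = (c : K) • LinearMap.id := by
    ext x
    rfl
  rw [h1, LinearMap.det_smul, LinearMap.det_id, hQ, pow_one, mul_one]

variable [FiniteDimensional K V]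

/-- an automorphism of a hyperplane extends to an automorphism of given determinant -/
theorem exists_ext_det (hn : finrank K V = m + 1) (W : Submodule K V) (hW : finrank K W = m) (α : W ≃ₗ[K] W) (d : Kˣ) :
    ∃ g : V ≃ₗ[K] V, (∀ w : W, g w = α w) ∧ LinearEquiv.det g = d := by
  have hQ : finrank K (V ⧸ W) = 1 := by
    have := Submodule.finrank_quotient_add_finrank W
    omega
  obtain ⟨g, h1, h2⟩ := exists_extension W α (LinearEquiv.smulOfUnit ((LinearEquiv.det α)⁻¹ * d))
  refine ⟨g, h1, ?_⟩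
  have hg : W.map (g : V →ₗ[K] V) = W := by
    apply Submodule.eq_of_le_of_finrank_eq
    · rintro _ ⟨w, hw, rfl⟩
      change g w ∈ W
      rw [h1 ⟨w, hw⟩]
      exact (α ⟨w, hw⟩).2
    · exact LinearEquiv.finrank_map_eq g W
  rw [det_quo g W hg]
  have e1 : res g W hg = α := by
    ext w
    exact h1 w
  have e2 : quo g W hg = LinearEquiv.smulOfUnit ((LinearEquiv.det α)⁻¹ * d) := by
    apply LinearEquiv.ext
    intro w
    obtain ⟨w, rfl⟩ := Submodule.Quotient.mk_surjective _ w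
    rw [quo_mk]
    exact h2 w
  rw [e1, e2, det_smul_line hQ, mul_inv_cancel_left]

/-- transitivity on the hyperplanes -/
theorem exists_map_det (hn : finrank K V = m + 1) {W W' : Submodule K V} (hW : finrank K W = m)
    (hW' : finrank K W' = m) : ∃ g : V ≃ₗ[K] V, W.map (g : V →ₗ[K] V) = W' ∧ LinearEquiv.det g = 1 := by
  obtain ⟨g, hg⟩ := exists_map_eq (K := K) (V := V) (W := W) (W' := W') (hW.trans hW'.symm)
  obtain ⟨h, h1, h2⟩ := exists_ext_det hn W hW 1 (LinearEquiv.det g)⁻¹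
  refine ⟨g * h, ?_, ?_⟩
  · have h3 : W.map (h : V →ₗ[K] V) = W := by
      apply Submodule.eq_of_le_of_finrank_eq
      · rintro _ ⟨w, hw, rfl⟩
        change h w ∈ W
        rw [h1 ⟨w, hw⟩]
        exact hw
      · exact LinearEquiv.finrank_map_eq h W
    have h4 : ((g * h : V ≃ₗ[K] V) : V →ₗ[K] V) = (g : V →ₗ[K] V).comp (h : V →ₗ[K] V) := rfl
    rw [h4, Submodule.map_comp, h3, hg]
  · rw [map_mul, h2, mul_inv_cancel]

variable (ρ : G →* (V ≃ₗ[K] V))

/-- the Mackey term of two different hyperplanes vanishes -/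
theorem exists_ortho_sl [Finite V] [Finite K] (hρ : HasSL ρ)
    (hn : finrank K V = m + 1) (hm : 2 ≤ m) {c : GL (Fin m) K → ℂ} (hc : IsIrrCharacter _ c) (hcusp : _root_.Cfsg.Agent.H53.HC.IsCusp c)
    {c' : GL (Fin m) K → ℂ} (hc' : IsIrrCharacter _ c') (W₀ W' : Submodule K V) (hW₀ : finrank K W₀ = m)
    (hW'' : finrank K W' = m) (hne' : W' ≠ W₀) [Fintype G] :
    ∃ L : Subgroup G, (∀ l ∈ L, W₀.map (ρ l : V →ₗ[K] V) = W₀) ∧ (∀ l ∈ L, W'.map (ρ l : V →ₗ[K] V) = W') ∧
      ∀ [Fintype L], ∑ l : L, flagTerm ρ c l W₀ * conj (flagTerm ρ c' l W') = 0 := by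
  classical
  have hcf := Core.isIrr_isClassFunction hc
  have hcf' := Core.isIrr_isClassFunction hc'
  have hGW0 : ∀ W : Submodule K V, Finite (W ≃ₗ[K] W) := fun W =>
    Finite.of_injective (fun e : W ≃ₗ[K] W => (e : W → W)) DFunLike.coe_injective
  have b₀ : Basis (Fin m) K W₀ := (finBasisOfFinrankEq K W₀ hW₀)
  have b₁ : Basis (Fin m) K W' := (finBasisOfFinrankEq K W' hW'')
  let D : Submodule K W₀ := W'.comap W₀.subtype
  have hD0 : D ≠ ⊥ := by
    intro h
    have hmeet : W₀ ⊓ W' = ⊥ := by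
      rw [Submodule.eq_bot_iff] at h ⊢
      rintro x ⟨hx, hx'⟩
      have := h ⟨x, hx⟩ hx'
      exact congrArg Subtype.val this
    have h2 := Submodule.finrank_sup_add_finrank_inf_eq W₀ W'
    rw [hmeet, finrank_bot] at h2
    have h3 := Submodule.finrank_le (W₀ ⊔ W')
    omega
  have hD1 : D ≠ ⊤ := by
    intro h
    apply hne'
    symm
    apply Submodule.eq_of_le_of_finrank_eq
    · intro x hx
      have : (⟨x, hx⟩ : W₀) ∈ D := by rw [h]; trivial
      exact this
    · rw [hW₀, hW'']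
  -- the subgroup
  let L : Subgroup G :=
    { carrier := {g | (∀ w' ∈ W', ρ g w' = w') ∧ ∀ v, ρ g v - v ∈ W₀ ⊓ W'}
      one_mem' := ⟨fun _ _ => by rw [map_one]; rfl, fun w => by rw [map_one]; simp only [_root_.LinearEquiv.coe_one, _root_.id_eq, _root_.sub_self, _root_.ZeroMemClass.zero_mem]⟩
      mul_mem' := by
        rintro x y ⟨hx, hx'⟩ ⟨hy, hy'⟩
        refine ⟨fun w' hw' => ?_, fun w => ?_⟩
        · rw [map_mul, LinearEquiv.mul_apply, hy w' hw', hx w' hw']
        · have : ρ (x * y) w - w = (ρ x (ρ y w) - ρ y w) + (ρ y w - w) := by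
            rw [map_mul, LinearEquiv.mul_apply]; abel
          rw [this]
          exact (W₀ ⊓ W').add_mem (hx' _) (hy' w)
      inv_mem' := by
        rintro x ⟨hx, hx'⟩
        have key : ∀ w' ∈ W', ρ x⁻¹ w' = w' := by
          intro w' hw'
          have h1 : ρ x⁻¹ (ρ x w') = w' := by
            rw [← LinearEquiv.mul_apply, ← map_mul, inv_mul_cancel, map_one]; rfl
          rwa [hx w' hw'] at h1
        refine ⟨key, fun w => ?_⟩
        have h1 := hx' w
        have h2 : ρ x⁻¹ (ρ x w - w) = ρ x w - w := key _ h1.2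
        have h3 : ρ x⁻¹ (ρ x w - w) = w - ρ x⁻¹ w := by
          rw [map_sub, ← LinearEquiv.mul_apply, ← map_mul, inv_mul_cancel, map_one]; rfl
        have h4 : ρ x⁻¹ w - w = -(ρ x w - w) := by rw [← h2, h3]; abel
        rw [h4]
        exact (W₀ ⊓ W').neg_mem h1 }
  have hL0 : ∀ l ∈ L, W₀.map (ρ l : V →ₗ[K] V) = W₀ := fun l hl => map_eq_of_le ρ fun w hw => by
    have := W₀.add_mem (hl.2 w).1 hw
    rwa [sub_add_cancel] at this
  have hL1 : ∀ l ∈ L, W'.map (ρ l : V →ₗ[K] V) = W' := fun l hl => map_eq_of_le ρ fun w hw => by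
    rw [hl.1 w hw]; exact hw
  refine ⟨L, hL0, hL1, fun {_} => ?_⟩
  letI : Fintype (radU D) := Fintype.ofFinite _
  let f : L →* radU D :=
    { toFun := fun l => ⟨res (ρ l) W₀ (hL0 l l.2), fun w => by
          change (ρ (l : G) w : V) - w ∈ W'
          exact (l.2.2 w).2, fun d hd => by
          apply Subtype.ext
          change ρ (l : G) d = d
          exact l.2.1 d hd⟩
      map_one' := by
        apply Subtype.ext
        ext w
        change (ρ 1) (w : V) = w
        rw [map_one]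
        rfl
      map_mul' := fun x y => by
        apply Subtype.ext
        ext w
        change (ρ ((x : G) * (y : G))) (w : V) = ρ x (ρ y w)
        rw [map_mul]
        rfl }
  have hf : Function.Surjective f := by
    rintro ⟨α, ha, ha'⟩
    let t : W₀ →ₗ[K] V := W₀.subtype.comp ((α : W₀ →ₗ[K] W₀) - LinearMap.id)
    have ht : ∀ w, t w = (α w : V) - w := fun w => rfl
    have htW : ∀ w, t w ∈ W₀ ⊓ W' := fun w => ⟨(α w - w).2, (show ((α w - w : W₀) : V) ∈ W' from ha w)⟩
    let t' : W₀ →ₗ[K] (W₀ ⊓ W' : Submodule K V) := LinearMap.codRestrict _ t htW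
    obtain ⟨s, hs⟩ := exists_factor (W'.mkQ.comp W₀.subtype) t' (by
      intro w hw
      rw [LinearMap.mem_ker] at hw ⊢
      have h1 : (w : V) ∈ W' := by
        have h2 : (Submodule.Quotient.mk (w : V) : V ⧸ W') = 0 := hw
        rwa [Submodule.Quotient.mk_eq_zero] at h2
      apply Subtype.ext
      change (α w : V) - w = 0
      rw [ha' w h1, sub_self])
    let N : V →ₗ[K] V := (W₀ ⊓ W').subtype.comp (s.comp W'.mkQ)
    have hN1 : ∀ v, N v ∈ W₀ ⊓ W' := fun v => (s (W'.mkQ v)).2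
    have hN2 : ∀ v ∈ W', N v = 0 := by
      intro v hv
      change ((s (Submodule.Quotient.mk v) : (W₀ ⊓ W' : Submodule K V)) : V) = 0
      rw [(Submodule.Quotient.mk_eq_zero W').2 hv, map_zero]
      rfl
    have hNN : ∀ v, N (N v) = 0 := fun v => hN2 _ (hN1 v).2
    let g : V ≃ₗ[K] V := LinearEquiv.ofLinearMap (LinearMap.id + N) (LinearMap.id - N)
      (by
        apply LinearMap.ext
        intro v
        simp [hNN])
      (by
        apply LinearMap.ext
        intro v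
        simp [hNN])
    have hg : ∀ v, g v = v + N v := fun v => rfl
    have hgW : W'.map (g : V →ₗ[K] V) = W' := by
      apply Submodule.eq_of_le_of_finrank_eq
      · rintro _ ⟨w, hw, rfl⟩
        change g w ∈ W'
        rw [hg, hN2 w hw, add_zero]
        exact hw
      · exact LinearEquiv.finrank_map_eq g W'
    have hdet : LinearEquiv.det g = 1 := by
      rw [det_quo g W' hgW]
      have e1 : res g W' hgW = 1 := by
        ext w
        change g w = w
        rw [hg, hN2 w w.2, add_zero]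
      have e2 : quo g W' hgW = 1 := by
        apply LinearEquiv.ext
        intro w
        obtain ⟨w, rfl⟩ := Submodule.Quotient.mk_surjective _ w
        rw [quo_mk]
        change _ = Submodule.Quotient.mk w
        rw [Submodule.Quotient.eq, hg, add_sub_cancel_left]
        exact (hN1 w).2
      rw [e1, e2, map_one, map_one, mul_one]
    obtain ⟨x, hx⟩ := hρ g hdet
    have hx' : ∀ v, ρ x v = v + N v := fun v => by rw [hx]; exact hg v
    have hxW : ∀ w : W₀, ρ x w = α w := by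
      intro w
      rw [hx']
      have h1 : N w = t w := by
        change ((s (W'.mkQ w) : (W₀ ⊓ W' : Submodule K V)) : V) = t w
        have := hs w
        change s (W'.mkQ w) = t' w at this
        rw [this]
        rfl
      rw [h1, ht]
      abel
    have hxL : x ∈ L := ⟨fun w' hw' => by rw [hx', hN2 w' hw', add_zero], fun v => by
      rw [hx', add_sub_cancel_left]; exact hN1 v⟩
    refine ⟨⟨x, hxL⟩, ?_⟩
    apply Subtype.ext
    ext w
    exact hxW w
  have e1 : ∀ l : L, flagTerm ρ c l W₀ * conj (flagTerm ρ c' l W') =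
      (fun u : radU D => cl c (u : W₀ ≃ₗ[K] W₀) * conj (c' 1)) (f l) := by
    intro l
    rw [flagTerm_of ρ c (hL0 l l.2), flagTerm_of ρ c' (hL1 l l.2)]
    have e2 : res (ρ (l : G)) W' (hL1 l l.2) = 1 := by
      ext w
      exact l.2.1 w w.2
    rw [e2, cl_one hcf' b₁]
    rfl
  change ∑ l : L, flagTerm ρ c l W₀ * conj (flagTerm ρ c' l W') = 0
  rw [Finset.sum_congr rfl fun l _ => e1 l,
    sum_comp_hom f hf (fun u : radU D => cl c (u : W₀ ≃ₗ[K] W₀) * conj (c' 1)), ← Finset.sum_mul,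
    hcusp.sum_eq hcf b₀ D hD0 hD1, zero_mul, mul_zero]

/-- the restriction to a hyperplane is surjective -/
theorem resHom_surjective (hρ : HasSL ρ) (hn : finrank K V = m + 1) (W : Submodule K V) (hW : finrank K W = m) :
    Function.Surjective (resHom ρ W) := by
  intro α
  obtain ⟨g, h1, h2⟩ := exists_ext_det hn W hW α 1
  obtain ⟨x, hx⟩ := hρ g h2
  have h3 : W.map (ρ x : V →ₗ[K] V) = W := map_eq_of_le ρ fun w hw => by
    rw [hx, h1 ⟨w, hw⟩]; exact (α ⟨w, hw⟩).2
  refine ⟨⟨x, h3⟩, ?_⟩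
  ext w
  change ρ x w = α w
  rw [hx]
  exact h1 w

/-- **Irreducibility.** -/
theorem isIrr_hyp [Finite V] [Finite K] [Fintype G] [Fintype (dimSet K V m)] (hρ : HasSL ρ)
    (hn : finrank K V = m + 1) (hm : 2 ≤ m) {c : GL (Fin m) K → ℂ} (hc : IsIrrCharacter _ c) (hcusp : _root_.Cfsg.Agent.H53.HC.IsCusp c) :
    IsIrrCharacter G (hyp ρ c) := by
  classical
  have hcf := Core.isIrr_isClassFunction hc
  letI := subAct ρ (dimSet K V m) (dimSet_map ρ)
  obtain ⟨W₀, hW₀⟩ := exists_dim (K := K) (V := V) (a := m) (by omega)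
  have : IsPretransitive G (dimSet K V m) := by
    refine ⟨fun W W' => ?_⟩
    obtain ⟨g, hg, hd⟩ := exists_map_det hn (W := W.1) (W' := W'.1) W.2 W'.2
    obtain ⟨g, rfl⟩ := hρ g hd
    exact ⟨g, Subtype.ext hg⟩
  unfold hyp
  rw [flagChar_eq_orbSum ρ (dimSet K V m) (dimSet_map ρ)]
  have hGW0 : ∀ W : Submodule K V, Finite (W ≃ₗ[K] W) := fun W =>
    Finite.of_injective (fun e : W ≃ₗ[K] W => (e : W → W)) DFunLike.coe_injective
  have b₀ : Basis (Fin m) K W₀ := (finBasisOfFinrankEq K W₀ hW₀)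
  letI : Fintype (GL (Fin m) K) := Fintype.ofFinite _
  refine isIrr_orbSum (fun g (W : dimSet K V m) => flagTerm ρ c g W.1)
    (fun x g W => flagTerm_conj ρ hcf x g W.1) ⟨W₀, hW₀⟩ ?_ ?_
  · have hst : ∀ g : stabilizer G (⟨W₀, hW₀⟩ : dimSet K V m), (g : G) ∈ stabW ρ W₀ := fun g =>
      congrArg Subtype.val (mem_stabilizer_iff.1 g.2)
    let f : stabilizer G (⟨W₀, hW₀⟩ : dimSet K V m) →* GL (Fin m) K :=
      (glE b₀).toMonoidHom.comp ((resHom ρ W₀).comp
        { toFun := fun g => ⟨g, hst g⟩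
          map_one' := rfl
          map_mul' := fun _ _ => rfl })
    have hf : Function.Surjective f := by
      intro A
      obtain ⟨a, rfl⟩ := (glE b₀).surjective A
      obtain ⟨⟨g, hg1⟩, hg⟩ := resHom_surjective ρ hρ hn W₀ hW₀ a
      refine ⟨⟨g, mem_stabilizer_iff.2 (Subtype.ext hg1)⟩, ?_⟩
      change glE b₀ (res (ρ g) W₀ hg1) = glE b₀ a
      congr 1
    have e1 : stabFun (fun g (W : dimSet K V m) => flagTerm ρ c g W.1) (⟨W₀, hW₀⟩ : dimSet K V m) = c ∘ f := by
      ext g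
      change flagTerm ρ c (g : G) W₀ = _
      rw [flagTerm_of ρ c (hst g), cl_eq hcf b₀]
      rfl
    rw [e1]
    exact Core.isIrr_comp f hf hc
  · rintro ⟨W', hW'⟩ hne
    have hW'' : finrank K W' = m := hW'
    have hne' : W' ≠ W₀ := fun e => hne (Subtype.ext e)
    obtain ⟨L, h1, h2, h3⟩ := exists_ortho_sl ρ hρ hn hm hc hcusp hc W₀ W' hW₀ hW'' hne'
    exact ⟨L, fun l hl => mem_stabilizer_iff.2 (Subtype.ext (h1 l hl)),
      fun l hl => mem_stabilizer_iff.2 (Subtype.ext (h2 l hl)), fun {_} => h3⟩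

/-- **Orthogonality.** -/
theorem sum_hyp_eq_zero [Finite V] [Finite K] [Fintype G] [Fintype (dimSet K V m)] (hρ : HasSL ρ)
    (hn : finrank K V = m + 1) (hm : 2 ≤ m) {c : GL (Fin m) K → ℂ} (hc : IsIrrCharacter _ c) (hcusp : _root_.Cfsg.Agent.H53.HC.IsCusp c)
    {c' : GL (Fin m) K → ℂ} (hc' : IsIrrCharacter _ c') (hne : c ≠ c') :
    ∑ g : G, hyp ρ c g * conj (hyp ρ c' g) = 0 := by
  classical
  have hcf := Core.isIrr_isClassFunction hc
  have hcf' := Core.isIrr_isClassFunction hc'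
  have hGW0 : ∀ W : Submodule K V, Finite (W ≃ₗ[K] W) := fun W =>
    Finite.of_injective (fun e : W ≃ₗ[K] W => (e : W → W)) DFunLike.coe_injective
  have hGL : Finite (GL (Fin m) K) := inferInstance
  letI : Fintype (GL (Fin m) K) := Fintype.ofFinite _
  have e0 : ∀ g : G, hyp ρ c g * conj (hyp ρ c' g) =
      ∑ W : dimSet K V m, ∑ W' : dimSet K V m, flagTerm ρ c g W.1 * conj (flagTerm ρ c' g W'.1) := by
    intro g
    unfold hyp flagChar
    rw [map_sum, Finset.sum_mul_sum]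
  rw [Finset.sum_congr rfl fun g _ => e0 g, Finset.sum_comm]
  refine Finset.sum_eq_zero fun W _ => ?_
  rw [Finset.sum_comm]
  refine Finset.sum_eq_zero fun W' _ => ?_
  -- reduction to the common stabiliser
  let P : Subgroup G := stabW ρ W.1 ⊓ stabW ρ W'.1
  letI : Fintype P := Fintype.ofFinite _
  have e1 : ∑ g : G, flagTerm ρ c g W.1 * conj (flagTerm ρ c' g W'.1) =
      ∑ g : P, flagTerm ρ c g W.1 * conj (flagTerm ρ c' g W'.1) := by
    apply Cfsg.Agent.OddOrderCharacters.Clifford.sum_eq_sum_subgroup P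
    intro g hg
    have h1 : g ∉ stabW ρ W.1 ∨ g ∉ stabW ρ W'.1 := by
      by_contra hcon
      push Not at hcon
      exact hg ⟨hcon.1, hcon.2⟩
    rcases h1 with h1 | h1
    · have : flagTerm ρ c g W.1 = 0 := by
        unfold flagTerm
        rw [dif_neg]
        exact h1
      rw [this, zero_mul]
    · have : flagTerm ρ c' g W'.1 = 0 := by
        unfold flagTerm
        rw [dif_neg]
        exact h1
      rw [this, map_zero, mul_zero]
  rw [e1]
  have b₀ : Basis (Fin m) K W.1 := (finBasisOfFinrankEq K W.1 W.2)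
  have b₁ : Basis (Fin m) K W'.1 := (finBasisOfFinrankEq K W'.1 W'.2)
  let f₀ : P →* GL (Fin m) K :=
    (glE b₀).toMonoidHom.comp ((resHom ρ W.1).comp (Subgroup.inclusion inf_le_left))
  let f₁ : P →* GL (Fin m) K :=
    (glE b₁).toMonoidHom.comp ((resHom ρ W'.1).comp (Subgroup.inclusion inf_le_right))
  have e2 : ∀ g : P, flagTerm ρ c g W.1 = c (f₀ g) := by
    intro g
    rw [flagTerm_of ρ c g.2.1, cl_eq hcf b₀]
    rfl
  have e3 : ∀ g : P, flagTerm ρ c' g W'.1 = c' (f₁ g) := by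
    intro g
    rw [flagTerm_of ρ c' g.2.2, cl_eq hcf' b₁]
    rfl
  by_cases hWW : W = W'
  · subst hWW
    have e4 : ∀ g : P, flagTerm ρ c g W.1 * conj (flagTerm ρ c' g W.1) = (fun A => c A * conj (c' A)) (f₀ g) := by
      intro g
      rw [e2, flagTerm_of ρ c' g.2.2, cl_eq hcf' b₀]
      rfl
    rw [Finset.sum_congr rfl fun g _ => e4 g]
    have hf : Function.Surjective f₀ := by
      intro A
      obtain ⟨a, rfl⟩ := (glE b₀).surjective A
      obtain ⟨⟨g, hg1⟩, hg⟩ := resHom_surjective ρ hρ hn W.1 W.2 a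
      refine ⟨⟨g, hg1, hg1⟩, ?_⟩
      change glE b₀ (res (ρ g) W.1 hg1) = glE b₀ a
      congr 1
    rw [sum_comp_hom f₀ hf (fun A => c A * conj (c' A))]
    have h4 := Core.classInner_irr_ne hc hc' hne
    rw [Core.classInner_def] at h4
    rcases mul_eq_zero.1 h4 with h5 | h5
    · exact absurd h5 (inv_ne_zero Cfsg.Agent.OddOrderCharacters.Clifford.card_ne_zero')
    · rw [h5, mul_zero]
  · obtain ⟨L, h1, h2, h3⟩ := exists_ortho_sl ρ hρ hn hm hc hcusp hc' W.1 W'.1 W.2 W'.2
      (fun h => hWW (Subtype.ext h.symm))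
    letI : Fintype L := Fintype.ofFinite _
    let i : L →* P :=
      { toFun := fun l => ⟨l, h1 l l.2, h2 l l.2⟩
        map_one' := rfl
        map_mul' := fun _ _ => rfl }
    have hα : IsCharacter P (c ∘ f₀) := Core.isCharacter_comp f₀ (Core.isIrr_isCharacter hc)
    have hβ : IsCharacter P (c' ∘ f₁) := Core.isCharacter_comp f₁ (Core.isIrr_isCharacter hc')
    have h5 : classInner (c ∘ f₀) (c' ∘ f₁) = 0 := by
      refine classInner_eq_zero_of_comp i hα hβ ?_
      rw [Core.classInner_def]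
      have h6 : ∑ l : L, ((c ∘ f₀) ∘ i) l * conj (((c' ∘ f₁) ∘ i) l) = 0 := by
        rw [← h3]
        refine Finset.sum_congr rfl fun l _ => ?_
        have e5 := e2 (i l)
        have e6 := e3 (i l)
        change flagTerm ρ c (l : G) W.1 = c (f₀ (i l)) at e5
        change flagTerm ρ c' (l : G) W'.1 = c' (f₁ (i l)) at e6
        rw [e5, e6]
        rfl
      rw [h6, mul_zero]
    rw [Core.classInner_def] at h5
    rcases mul_eq_zero.1 h5 with h6 | h6
    · exact absurd h6 (inv_ne_zero Cfsg.Agent.OddOrderCharacters.Clifford.card_ne_zero')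
    · rw [← h6]
      refine Finset.sum_congr rfl fun g _ => ?_
      rw [e2, e3]
      rfl

/-- if `hyp ρ c = hyp ρ c'` then `c = c'` -/
theorem eq_of_hyp_eq [Finite V] [Finite K] [Fintype G] [Fintype (dimSet K V m)] (hρ : HasSL ρ)
    (hn : finrank K V = m + 1) (hm : 2 ≤ m) {c : GL (Fin m) K → ℂ} (hc : IsIrrCharacter _ c) (hcusp : _root_.Cfsg.Agent.H53.HC.IsCusp c)
    {c' : GL (Fin m) K → ℂ} (hc' : IsIrrCharacter _ c') (h : hyp ρ c = hyp ρ c') : c = c' := by
  classical
  by_contra hne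
  have h1 := sum_hyp_eq_zero ρ hρ hn hm hc hcusp hc' hne
  rw [← h] at h1
  have h2 := Core.classInner_irr_self (isIrr_hyp ρ hρ hn hm hc hcusp)
  rw [Core.classInner_def, h1, mul_zero] at h2
  exact one_ne_zero h2.symm

end Cfsg.Agent.H732.ExtPSL
end

-- part: H732/ExtPSL/Twist
section
/-!
# The characters `X θ = Ind (psi θ ⊗ 1)` of `GL_{m+1}(q)` and the automorphisms of `SL_{m+1}(q)` (helper732, S4832)

`X θ g = ∑ psi θ (g | W)`, `W` running over the `g`-invariant hyperplanes, `[L : F] = m ≥ 2`, `θ` a regular character of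
`L^*`.

* `X_isIrr`, `X_sl_isIrr` : irreducibility on `GL_{m+1}(q)` and `SL_{m+1}(q)`; `psi_eq_of_X_eq`;
* `X_map` : `X θ' (σ g) = X θ g` if `θ' (σ x) = θ x`; `X_invT` : `X θ (g⁻ᵀ) = conj (X θ g)`; `X_conj`;
* `X_one`, `X_scalar`.
-/

set_option autoImplicit false
set_option linter.unusedSectionVars false
set_option linter.style.haveILetI false

open scoped ComplexConjugate
open Cfsg

namespace Cfsg.Agent.H732.ExtPSL

open Cfsg.Agent.H53.HC Cfsg.Agent.Characters MulAction Module Cfsg.Agent.H113.PSL.Para Cfsg.Agent.H113.PSL.Hyper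
open Cfsg.Agent.H139.Cusp Matrix

universe u v w

/-! ### the natural representation -/

section rep

variable {F : Type u} [Field F] {n : ℕ}

/-- the natural representation -/
noncomputable def rep (F : Type u) [Field F] (n : ℕ) : GL (Fin n) F →* ((Fin n → F) ≃ₗ[F] (Fin n → F)) :=
  (glE (Pi.basisFun F (Fin n))).symm.toMonoidHom

theorem rep_surjective : Function.Surjective (rep F n) := (glE (Pi.basisFun F (Fin n))).symm.surjective

theorem glE_rep (A : GL (Fin n) F) : glE (Pi.basisFun F (Fin n)) (rep F n A) = A :=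
  (glE (Pi.basisFun F (Fin n))).apply_symm_apply A

theorem rep_apply (A : GL (Fin n) F) (v : Fin n → F) : rep F n A v = (A : Matrix (Fin n) (Fin n) F) *ᵥ v := by
  have h := congrArg (fun B : GL (Fin n) F => (B : Matrix (Fin n) (Fin n) F)) (glE_rep A)
  simp only [coe_glE] at h
  rw [LinearMap.toMatrix_eq_toMatrix'] at h
  rw [← h, LinearMap.toMatrix'_mulVec]
  rfl

theorem det_rep (A : GL (Fin n) F) : LinearEquiv.det (rep F n A) = GeneralLinearGroup.det A := by
  rw [← det_glE (Pi.basisFun F (Fin n)), glE_rep]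

theorem hasSL_rep : HasSL (rep F n) := fun e _ => rep_surjective e

theorem hasSL_rep_sl : HasSL ((rep F n).comp (SpecialLinearGroup.toGL : _root_.Matrix.SpecialLinearGroup (Fin n) F →* GL (Fin n) F)) := by
  intro e he
  obtain ⟨A, rfl⟩ := rep_surjective e
  rw [det_rep] at he
  refine ⟨⟨(A : Matrix (Fin n) (Fin n) F), ?_⟩, ?_⟩
  · rw [← GeneralLinearGroup.val_det_apply, he, Units.val_one]
  · change rep F n (SpecialLinearGroup.toGL _) = rep F n A
    congr 1
    exact Units.ext rfl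

end rep

/-! ### semilinear maps -/

section smap

variable {F : Type u} [Field F] {n : ℕ}

/-- the coordinatewise action of a field automorphism on the subspaces -/
def smap (σ : F ≃+* F) (W : Submodule F (Fin n → F)) : Submodule F (Fin n → F) where
  carrier := {v | (fun i => σ.symm (v i)) ∈ W}
  add_mem' := by
    intro v w hv hw
    have := W.add_mem hv hw
    have e : ((fun i => σ.symm (v i)) + fun i => σ.symm (w i)) = fun i => σ.symm ((v + w) i) := by
      ext i
      simp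
    rwa [e] at this
  zero_mem' := by
    have e : (fun i => σ.symm ((0 : Fin n → F) i)) = 0 := by
      ext i
      simp
    change (fun i => σ.symm ((0 : Fin n → F) i)) ∈ W
    rw [e]
    exact W.zero_mem
  smul_mem' := by
    intro c v hv
    have := W.smul_mem (σ.symm c) hv
    have e : (σ.symm c • fun i => σ.symm (v i)) = fun i => σ.symm ((c • v) i) := by
      ext i
      simp
    rwa [e] at this

theorem mem_smap {σ : F ≃+* F} {W : Submodule F (Fin n → F)} {v : Fin n → F} :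
    v ∈ smap σ W ↔ (fun i => σ.symm (v i)) ∈ W := Iff.rfl

theorem smap_symm_smap (σ : F ≃+* F) (W : Submodule F (Fin n → F)) : smap σ.symm (smap σ W) = W := by
  ext v
  rw [mem_smap, mem_smap]
  simp

theorem smap_smap_symm (σ : F ≃+* F) (W : Submodule F (Fin n → F)) : smap σ (smap σ.symm W) = W := by
  ext v
  rw [mem_smap, mem_smap]
  simp

/-- the additive equivalence `W ≃ σ W` -/
def smapE (σ : F ≃+* F) (W : Submodule F (Fin n → F)) : W ≃+ smap σ W where
  toFun w := ⟨fun i => σ (((w : Fin n → F) i :)), by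
    rw [mem_smap]
    simp⟩
  invFun w := ⟨fun i => σ.symm (((w : Fin n → F) i :)), w.2⟩
  left_inv w := by
    apply Subtype.ext
    ext i
    simp
  right_inv w := by
    apply Subtype.ext
    ext i
    simp
  map_add' v w := by
    apply Subtype.ext
    ext i
    simp

theorem smapE_smul (σ : F ≃+* F) (W : Submodule F (Fin n → F)) (c : F) (w : W) :
    smapE σ W (c • w) = σ c • smapE σ W w := by
  apply Subtype.ext
  ext i
  change σ (c * (w : Fin n → F) i) = σ c * σ ((w : Fin n → F) i)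
  rw [map_mul]

theorem rep_map (σ : F ≃+* F) (g : GL (Fin n) F) (v : Fin n → F) :
    rep F n (GeneralLinearGroup.map (σ : F →+* F) g) (fun i => σ (v i)) = fun i => σ (rep F n g v i) := by
  rw [rep_apply, rep_apply]
  ext i
  change ∑ k, σ ((g : Matrix (Fin n) (Fin n) F) i k) * σ (v k) = σ (∑ k, (g : Matrix (Fin n) (Fin n) F) i k * v k)
  rw [map_sum]
  refine Finset.sum_congr rfl fun k _ => (map_mul _ _ _).symm

theorem map_rep_iff (g : GL (Fin n) F) (W : Submodule F (Fin n → F)) :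
    W.map (rep F n g : (Fin n → F) →ₗ[F] (Fin n → F)) = W ↔ ∀ w ∈ W, rep F n g w ∈ W := by
  constructor
  · intro h w hw
    have : (rep F n g : (Fin n → F) →ₗ[F] (Fin n → F)) w ∈ W.map (rep F n g : (Fin n → F) →ₗ[F] (Fin n → F)) := ⟨w, hw, rfl⟩
    rwa [h] at this
  · intro h
    exact map_eq_of_le (rep F n) h

theorem map_smap_iff (σ : F ≃+* F) (g : GL (Fin n) F) (W : Submodule F (Fin n → F)) :
    (smap σ W).map (rep F n (GeneralLinearGroup.map (σ : F →+* F) g) : (Fin n → F) →ₗ[F] (Fin n → F)) = smap σ W ↔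
      W.map (rep F n g : (Fin n → F) →ₗ[F] (Fin n → F)) = W := by
  rw [map_rep_iff, map_rep_iff]
  constructor
  · intro h w hw
    have h1 := h (fun i => σ (w i)) (by
      rw [mem_smap]
      simpa using hw)
    rw [rep_map, mem_smap] at h1
    simpa using h1
  · intro h w hw
    rw [mem_smap] at hw
    have h1 := h _ hw
    have h2 := rep_map σ g (fun i => σ.symm (w i))
    have e : (fun i => σ (σ.symm (w i))) = w := by
      ext i
      simp
    rw [e] at h2
    rw [h2, mem_smap]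
    simpa using h1

end smap

section X

variable {F : Type u} [Field F] [Finite F] {L : Type w} [Field L] [Finite L] [Algebra F L]

/-- **the Harish-Chandra induced characters** -/
noncomputable def X (F : Type u) [Field F] [Finite F] {L : Type w} [Field L] [Algebra F L] (m : ℕ) (θ : L →*₀ ℂ) :
    GL (Fin (m + 1)) F → ℂ :=
  letI : Fintype (dimSet F (Fin (m + 1) → F) m) := Fintype.ofFinite _
  hyp (m := m) (rep F (m + 1)) (psi L θ)

variable {m : ℕ}

theorem finrank_fin_succ : finrank F (Fin (m + 1) → F) = m + 1 := finrank_fin_fun F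

theorem X_isIrr (hm : 2 ≤ m) (hL : finrank F L = m) {θ : L →*₀ ℂ} (hθ : Regular F m θ) :
    IsIrrCharacter (GL (Fin (m + 1)) F) (X F m θ) := by
  classical
  letI : Fintype (dimSet F (Fin (m + 1) → F) m) := Fintype.ofFinite _
  letI : Fintype (GL (Fin (m + 1)) F) := Fintype.ofFinite _
  exact isIrr_hyp (rep F (m + 1)) hasSL_rep finrank_fin_succ hm (psi_isIrr θ hL hθ) (psi_isCusp L θ)

/-- the restriction to `SL` -/
theorem X_comp_sl (θ : L →*₀ ℂ) [inst : Fintype (dimSet F (Fin (m + 1) → F) m)] :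
    X F m θ ∘ (SpecialLinearGroup.toGL : _root_.Matrix.SpecialLinearGroup (Fin (m + 1)) F →* GL (Fin (m + 1)) F) =
      hyp (m := m) ((rep F (m + 1)).comp (SpecialLinearGroup.toGL : _root_.Matrix.SpecialLinearGroup (Fin (m + 1)) F →* GL (Fin (m + 1)) F))
        (psi L θ) := by
  have h : inst = Fintype.ofFinite _ := Subsingleton.elim _ _
  subst h
  rfl

theorem X_sl_isIrr (hm : 2 ≤ m) (hL : finrank F L = m) {θ : L →*₀ ℂ} (hθ : Regular F m θ) :
    IsIrrCharacter (_root_.Matrix.SpecialLinearGroup (Fin (m + 1)) F) (X F m θ ∘ SpecialLinearGroup.toGL) := by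
  classical
  letI : Fintype (dimSet F (Fin (m + 1) → F) m) := Fintype.ofFinite _
  letI : Fintype (_root_.Matrix.SpecialLinearGroup (Fin (m + 1)) F) := Fintype.ofFinite _
  rw [X_comp_sl]
  exact isIrr_hyp _ hasSL_rep_sl finrank_fin_succ hm (psi_isIrr θ hL hθ) (psi_isCusp L θ)

/-- the parameters can be recovered from the restriction to `SL` -/
theorem psi_eq_of_X_eq (hm : 2 ≤ m) (hL : finrank F L = m) {θ θ' : L →*₀ ℂ} (hθ : Regular F m θ) (hθ' : Regular F m θ')
    (h : X F m θ ∘ SpecialLinearGroup.toGL = X F m θ' ∘ SpecialLinearGroup.toGL) :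
    (psi L θ : GL (Fin m) F → ℂ) = psi L θ' := by
  classical
  letI : Fintype (dimSet F (Fin (m + 1) → F) m) := Fintype.ofFinite _
  letI : Fintype (_root_.Matrix.SpecialLinearGroup (Fin (m + 1)) F) := Fintype.ofFinite _
  rw [X_comp_sl, X_comp_sl] at h
  exact eq_of_hyp_eq _ hasSL_rep_sl finrank_fin_succ hm (psi_isIrr θ hL hθ) (psi_isCusp L θ) (psi_isIrr θ' hL hθ') h

theorem exists_frob_of_X_eq (hm : 2 ≤ m) (hL : finrank F L = m) {θ θ' : L →*₀ ℂ} (hθ : Regular F m θ)
    (hθ' : Regular F m θ') (h : X F m θ ∘ SpecialLinearGroup.toGL = X F m θ' ∘ SpecialLinearGroup.toGL) :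
    ∃ i < m, ∀ x : L, θ' x = θ (x ^ Nat.card F ^ i) := by
  have h1 := psi_eq_of_X_eq hm hL hθ hθ' h
  have h2 := (cusp_eq_iff (V := Fin m → F) θ θ' (by rw [Module.finrank_fin_fun, hL]) (by rw [hL]; exact hθ)).1 (by
    intro g
    have h3 := congrFun h1 (Matrix.GeneralLinearGroup.toLin.symm g)
    have h4 : ∀ θ : L →*₀ ℂ, psi L θ (Matrix.GeneralLinearGroup.toLin.symm g : GL (Fin m) F) =
        cusp L θ (g : (Fin m → F) →ₗ[F] (Fin m → F)) := by
      intro θ
      have h5 : Matrix.GeneralLinearGroup.toLin (Matrix.GeneralLinearGroup.toLin.symm g : GL (Fin m) F) = g :=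
        MulEquiv.apply_symm_apply _ g
      conv_rhs => rw [← h5]
      rfl
    rwa [h4, h4] at h3)
  rwa [hL] at h2

theorem X_class (θ : L →*₀ ℂ) : IsClassFunction (GL (Fin (m + 1)) F) (X F m θ) := by
  classical
  intro g h
  letI : Fintype (dimSet F (Fin (m + 1) → F) m) := Fintype.ofFinite _
  unfold X hyp flagChar
  let e : dimSet F (Fin (m + 1) → F) m ≃ dimSet F (Fin (m + 1) → F) m :=
    letI := subAct (rep F (m + 1)) (dimSet F (Fin (m + 1) → F) m) (dimSet_map (rep F (m + 1)))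
    MulAction.toPerm h
  symm
  refine Fintype.sum_equiv e _ _ fun W => ?_
  exact (flagTerm_conj (rep F (m + 1)) (psi_isClass L θ) h g W.1).symm

/-- **field automorphisms** -/
theorem X_map (hL : finrank F L = m) {σ : F ≃+* F} {τ : L ≃+* L}
    (hτ : ∀ c : F, τ (algebraMap F L c) = algebraMap F L (σ c)) {θ θ' : L →*₀ ℂ} (hθ : ∀ x, θ' (τ x) = θ x)
    (g : GL (Fin (m + 1)) F) : X F m θ' (GeneralLinearGroup.map (σ : F →+* F) g) = X F m θ g := by
  classical
  letI : Fintype (dimSet F (Fin (m + 1) → F) m) := Fintype.ofFinite _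
  unfold X hyp flagChar
  have hfr : ∀ (σ : F ≃+* F) (W : Submodule F (Fin (m + 1) → F)), finrank F (smap σ W) = finrank F W := fun σ W =>
    finrank_semilinear σ (smapE σ W)
  let e : dimSet F (Fin (m + 1) → F) m ≃ dimSet F (Fin (m + 1) → F) m :=
    { toFun := fun W => ⟨smap σ W.1, (hfr σ W.1).trans W.2⟩
      invFun := fun W => ⟨smap σ.symm W.1, (hfr σ.symm W.1).trans W.2⟩
      left_inv := fun W => Subtype.ext (smap_symm_smap σ W.1)
      right_inv := fun W => Subtype.ext (smap_smap_symm σ W.1) }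
  symm
  refine Fintype.sum_equiv e _ _ fun W => ?_
  change flagTerm (rep F (m + 1)) (psi L θ) g W.1 =
    flagTerm (rep F (m + 1)) (psi L θ') (GeneralLinearGroup.map (σ : F →+* F) g) (smap σ W.1)
  by_cases h : W.1.map (rep F (m + 1) g : (Fin (m + 1) → F) →ₗ[F] (Fin (m + 1) → F)) = W.1
  · have h' := (map_smap_iff σ g W.1).2 h
    have hW : finrank F W.1 = m := W.2
    rw [flagTerm_of _ _ h, flagTerm_of _ _ h', cl_psi L θ hW, cl_psi L θ' ((hfr σ W.1).trans hW)]
    symm
    refine cusp_semilinear σ (smapE σ W.1) (smapE_smul σ W.1) (fun v => ?_) τ hτ hθ (by rw [hW, hL])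
    apply Subtype.ext
    exact (rep_map σ g (v : Fin (m + 1) → F) :)
  · have h' : ¬ _ := fun h' => h ((map_smap_iff σ g W.1).1 h')
    unfold flagTerm
    rw [dif_neg h, dif_neg h']

/-- complex conjugation -/
theorem X_conj (θ : L →*₀ ℂ) (g : GL (Fin (m + 1)) F) : conj (X F m θ g) = X F m (conjTheta θ) g := by
  classical
  letI : Fintype (dimSet F (Fin (m + 1) → F) m) := Fintype.ofFinite _
  unfold X hyp flagChar
  rw [map_sum]
  refine Finset.sum_congr rfl fun W _ => ?_
  have hW : finrank F W.1 = m := W.2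
  unfold flagTerm
  split_ifs with h
  · rw [cl_psi L θ hW, cl_psi L _ hW, cusp_star]
  · rw [map_zero]

/-- inverse transpose -/
def invTr {n : ℕ} (g : GL (Fin n) F) : GL (Fin n) F where
  val := ((g⁻¹ : GL (Fin n) F) : Matrix (Fin n) (Fin n) F)ᵀ
  inv := ((g : GL (Fin n) F) : Matrix (Fin n) (Fin n) F)ᵀ
  val_inv := by rw [← transpose_mul, ← Units.val_mul, mul_inv_cancel, Units.val_one, transpose_one]
  inv_val := by rw [← transpose_mul, ← Units.val_mul, inv_mul_cancel, Units.val_one, transpose_one]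

theorem X_invTr (hm : 2 ≤ m) (hL : finrank F L = m) {θ : L →*₀ ℂ} (hθ : Regular F m θ) (g : GL (Fin (m + 1)) F) :
    X F m θ (invTr g) = X F m (conjTheta θ) g := by
  classical
  letI : Fintype (GL (Fin (m + 1)) F) := Fintype.ofFinite _
  obtain ⟨c, hc⟩ := Cfsg.Agent.S2580.result ((g⁻¹ : GL (Fin (m + 1)) F) : Matrix (Fin (m + 1)) (Fin (m + 1)) F)
  have h1 : invTr g = c * g⁻¹ * c⁻¹ := by
    rw [eq_mul_inv_iff_mul_eq]
    ext1
    exact hc.symm
  rw [h1, X_class θ, ← X_conj]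
  exact Core.isCharacter_apply_inv (Core.isIrr_isCharacter (X_isIrr hm hL hθ)) g

theorem X_one (hm : 2 ≤ m) (θ : L →*₀ ℂ) :
    X F m θ 1 = ((Nat.card {W : Submodule F (Fin (m + 1) → F) // finrank F W = m} *
      ∏ i ∈ Finset.Ico 1 m, (Nat.card F ^ i - 1) : ℕ) : ℂ) := by
  classical
  letI : Fintype (dimSet F (Fin (m + 1) → F) m) := Fintype.ofFinite _
  unfold X hyp
  rw [flagChar_one (rep F (m + 1)) (dimSet F (Fin (m + 1) → F) m) (psi_isClass L θ) (fun W hW => hW),
    psi_one L θ (by omega), degP_eq_Ico]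
  push_cast
  rfl

theorem rep_scalar {n : ℕ} (c : Fˣ) (v : Fin n → F) : rep F n (GeneralLinearGroup.scalar (Fin n) c) v = (c : F) • v := by
  have e1 : rep F n (GeneralLinearGroup.scalar (Fin n) c) = LinearEquiv.smulOfUnit c := by
    change (glE (Pi.basisFun F (Fin n))).symm _ = _
    rw [MulEquiv.symm_apply_eq]
    exact (glE_smul _ c _ (fun w => rfl)).symm
  rw [e1]
  rfl

theorem X_scalar (hL : finrank F L = m) (θ : L →*₀ ℂ) (h1 : ∀ a : F, a ≠ 0 → θ (algebraMap F L a) = 1) (c : Fˣ) :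
    X F m θ (GeneralLinearGroup.scalar (Fin (m + 1)) c) = X F m θ 1 := by
  classical
  letI : Fintype (dimSet F (Fin (m + 1) → F) m) := Fintype.ofFinite _
  refine flagChar_scalar (rep F (m + 1)) (dimSet F (Fin (m + 1) → F) m) (psi_isClass L θ) (fun W hW => hW) (c := c)
    (fun v => rep_scalar c v) ?_
  have h3 := psi_scalar θ hL c 1
  rw [mul_one, h1 (c : F) c.ne_zero, one_mul] at h3
  exact h3

end X

end Cfsg.Agent.H732.ExtPSL
end

private theorem dce_1776f2793be1 : _root_.True := by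
  try have : _root_.True := by simp only [_root_.Cfsg.Agent.H53.HC.res.congr_simp]
  try have : _root_.True := by simp only [_root_.Cfsg.Agent.H139.Cusp.psi.congr_simp]
  exact _root_.True.intro
end

-- part: H576/Ext/SemiL
section
prune_inst 0x4400300100000180000a0000214100000020003000008400000014082622d040e0100100000001088402000000000100000402000000000000000000000000002069048a100020080000000000000000000000000000000000000000000000000000
set_option linter.all false
open scoped Cfsg.Agent.FastGrp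

-- part: H576/Ext/OrbMF
section
/-!
# Sums over fixed points: orthogonality and multiplicity one (helper576, S4832)

* `inner_term_zero` : the inner product of two local terms vanishes if they are orthogonal on some subgroup;
* `orbSum_orth` : two-parameter orthogonality of `orbSum φ`, `orbSum φ'`;
* `orbSum_mf` : `orbSum φ` is multiplicity free if the local terms are irreducible and pairwise orthogonal.
-/

set_option autoImplicit false

open scoped ComplexConjugate
open Cfsg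

namespace Cfsg.Agent.H576.Ext

open Cfsg.Agent.OddOrderCharacters.Clifford Cfsg.Agent.Characters MulAction Cfsg.Agent.H53.HC

universe u v

variable {G : Type u} [Group G] {Ω : Type v} [MulAction G Ω]

open Classical in
theorem inner_term_zero [Fintype G] (φ φ' : G → Ω → ℂ) (ω ω' : Ω)
    (hc : IsCharacter (stabilizer G ω) (stabFun φ ω)) (hc' : IsCharacter (stabilizer G ω') (stabFun φ' ω'))
    (h : ∃ L : Subgroup G, L ≤ stabilizer G ω ∧ L ≤ stabilizer G ω' ∧
      ∀ [Fintype L], ∑ l : L, φ l ω * conj (φ' l ω') = 0) :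
    ∑ g : G, (if g • ω = ω then φ g ω else 0) * conj (if g • ω' = ω' then φ' g ω' else 0) = 0 := by
  obtain ⟨L, hL, hL', h0⟩ := h
  let M : Subgroup G := stabilizer G ω ⊓ stabilizer G ω'
  let _ : Fintype M := Fintype.ofFinite _
  let _ : Fintype L := Fintype.ofFinite _
  rw [sum_eq_sum_subgroup M]
  swap
  · intro g hg
    by_cases h1 : g • ω = ω
    · have h2 : ¬ g • ω' = ω' := fun h2 => hg ⟨mem_stabilizer_iff.2 h1, mem_stabilizer_iff.2 h2⟩
      rw [if_neg h2, map_zero, mul_zero]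
    · rw [if_neg h1, zero_mul]
  let α : M → ℂ := stabFun φ ω ∘ (Subgroup.inclusion (inf_le_left : M ≤ stabilizer G ω))
  let β : M → ℂ := stabFun φ' ω' ∘ (Subgroup.inclusion (inf_le_right : M ≤ stabilizer G ω'))
  have hα : IsCharacter M α := Core.isCharacter_comp _ hc
  have hβ : IsCharacter M β := Core.isCharacter_comp _ hc'
  have key : classInner α β = 0 := by
    refine classInner_eq_zero_of_comp (Subgroup.inclusion (le_inf hL hL' : L ≤ M)) hα hβ ?_
    rw [Core.classInner_def]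
    have : ∑ g : L, (α ∘ (Subgroup.inclusion (le_inf hL hL' : L ≤ M))) g *
        conj ((β ∘ (Subgroup.inclusion (le_inf hL hL' : L ≤ M))) g) = 0 := h0
    rw [this, mul_zero]
  rw [Core.classInner_def] at key
  have h3 := (mul_eq_zero.1 key).resolve_left (inv_ne_zero Core.card_ne_zero_complex)
  rw [← h3]
  refine Finset.sum_congr rfl fun m _ => ?_
  rw [if_pos (mem_stabilizer_iff.1 m.2.1), if_pos (mem_stabilizer_iff.1 m.2.2)]
  rfl

/-- **two-parameter orthogonality** -/
theorem orbSum_orth [Fintype G] [Fintype Ω] (φ φ' : G → Ω → ℂ)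
    (hc : ∀ ω, IsCharacter (stabilizer G ω) (stabFun φ ω)) (hc' : ∀ ω, IsCharacter (stabilizer G ω) (stabFun φ' ω))
    (h : ∀ ω ω' : Ω, ∃ L : Subgroup G, L ≤ stabilizer G ω ∧ L ≤ stabilizer G ω' ∧
      ∀ [Fintype L], ∑ l : L, φ l ω * conj (φ' l ω') = 0) :
    ∑ g : G, orbSum φ g * conj (orbSum φ' g) = 0 := by
  classical
  unfold orbSum
  have e1 : ∀ g : G, (∑ ω : Ω, if g • ω = ω then φ g ω else 0) * conj (∑ ω : Ω, if g • ω = ω then φ' g ω else 0) =
      ∑ ω : Ω, ∑ ω' : Ω, (if g • ω = ω then φ g ω else 0) * conj (if g • ω' = ω' then φ' g ω' else 0) := by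
    intro g
    rw [map_sum, Finset.sum_mul_sum]
  rw [Finset.sum_congr rfl fun g _ => e1 g, Finset.sum_comm]
  refine Finset.sum_eq_zero fun ω _ => ?_
  rw [Finset.sum_comm]
  refine Finset.sum_eq_zero fun ω' _ => ?_
  exact inner_term_zero φ φ' ω ω' (hc ω) (hc' ω') (h ω ω')

theorem orbSum_sigma [Fintype Ω] (φ : G → Ω → ℂ) [Fintype (orbitRel.Quotient G Ω)]
    [∀ X : orbitRel.Quotient G Ω, Fintype X.orbit] :
    orbSum φ = ∑ X : orbitRel.Quotient G Ω, orbSum (fun g (ω : X.orbit) => φ g ω) := by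
  classical
  ext g
  rw [Finset.sum_apply]
  unfold orbSum
  have h2 : ∑ ω : Ω, (if g • ω = ω then φ g ω else 0) =
      ∑ x : ((X : orbitRel.Quotient G Ω) × X.orbit), (if g • (x.2 : Ω) = x.2 then φ g x.2 else 0) :=
    (Fintype.sum_equiv (selfEquivSigmaOrbits' G Ω).symm _ _ (fun x => rfl)).symm
  rw [h2, Fintype.sum_sigma]
  refine Finset.sum_congr rfl fun X _ => Finset.sum_congr rfl fun ω _ => ?_
  congr 1
  rw [Subtype.ext_iff]
  rfl

/-- **multiplicity one** -/
theorem orbSum_mf [Fintype G] [Fintype Ω] (φ : G → Ω → ℂ)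
    (hφ : ∀ (x g : G) (ω : Ω), φ (x * g * x⁻¹) (x • ω) = φ g ω)
    (hirr : ∀ ω, IsIrrCharacter (stabilizer G ω) (stabFun φ ω))
    (h : ∀ ω ω' : Ω, ω' ≠ ω → ∃ L : Subgroup G, L ≤ stabilizer G ω ∧ L ≤ stabilizer G ω' ∧
      ∀ [Fintype L], ∑ l : L, φ l ω * conj (φ l ω') = 0) {θ : G → ℂ} (hθ : IsIrrCharacter G θ)
    (h0 : classInner (orbSum φ) θ ≠ 0) : classInner (orbSum φ) θ = 1 := by
  classical
  have hfin : Finite (orbitRel.Quotient G Ω) := Quotient.finite _
  let _ : Fintype (orbitRel.Quotient G Ω) := Fintype.ofFinite _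
  let _ : ∀ X : orbitRel.Quotient G Ω, Fintype X.orbit := fun X => Fintype.ofFinite _
  have hst : ∀ (X : orbitRel.Quotient G Ω) (ω : X.orbit) (g : G), g ∈ stabilizer G ω ↔ g ∈ stabilizer G (ω : Ω) := by
    intro X ω g
    rw [mem_stabilizer_iff, mem_stabilizer_iff, Subtype.ext_iff]
    rfl
  -- each part is irreducible
  have hpart : ∀ X : orbitRel.Quotient G Ω, IsIrrCharacter G (orbSum (fun g (ω : X.orbit) => φ g ω)) := by
    intro X
    have : IsPretransitive G X.orbit := by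
      refine ⟨fun a b => ?_⟩
      have ha : (Quotient.mk'' (a : Ω) : orbitRel.Quotient G Ω) = X := orbitRel.Quotient.mem_orbit.1 a.2
      have hb : (Quotient.mk'' (b : Ω) : orbitRel.Quotient G Ω) = X := orbitRel.Quotient.mem_orbit.1 b.2
      have h1 : (b : Ω) ∈ orbit G (a : Ω) := by
        rw [← orbitRel_apply]
        exact Quotient.exact (hb.trans ha.symm)
      obtain ⟨g, hg⟩ := h1
      exact ⟨g, Subtype.ext hg⟩
    obtain ⟨ω₀, hω₀⟩ : X.orbit.Nonempty := orbitRel.Quotient.nonempty_orbit X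
    refine isIrr_orbSum (fun g (ω : X.orbit) => φ g ω) (fun x g ω => hφ x g ω) ⟨ω₀, hω₀⟩ ?_ ?_
    · let f : stabilizer G (⟨ω₀, hω₀⟩ : X.orbit) →* stabilizer G ω₀ :=
        { toFun := fun g => ⟨g, (hst X _ _).1 g.2⟩
          map_one' := rfl
          map_mul' := fun _ _ => rfl }
      have hf : Function.Surjective f := fun g => ⟨⟨g, (hst X _ _).2 g.2⟩, rfl⟩
      exact Core.isIrr_comp f hf (hirr ω₀)
    · intro ω hω
      obtain ⟨L, h1, h2, h3⟩ := h ω₀ ω (fun e => hω (Subtype.ext e))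
      exact ⟨L, fun l hl => (hst X _ _).2 (h1 hl), fun l hl => (hst X _ _).2 (h2 hl), fun {_} => h3⟩
  -- different parts are orthogonal
  have horth : ∀ X Y : orbitRel.Quotient G Ω, X ≠ Y →
      classInner (orbSum (fun g (ω : X.orbit) => φ g ω)) (orbSum (fun g (ω : Y.orbit) => φ g ω)) = 0 := by
    intro X Y hXY
    rw [Core.classInner_def]
    have e1 : ∀ g : G, orbSum (fun g (ω : X.orbit) => φ g ω) g * conj (orbSum (fun g (ω : Y.orbit) => φ g ω) g) =
        ∑ ω : X.orbit, ∑ ω' : Y.orbit, (if g • (ω : Ω) = ω then φ g ω else 0) *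
          conj (if g • (ω' : Ω) = ω' then φ g ω' else 0) := by
      intro g
      unfold orbSum
      rw [map_sum, Finset.sum_mul_sum]
      refine Finset.sum_congr rfl fun ω _ => Finset.sum_congr rfl fun ω' _ => ?_
      simp only [Subtype.ext_iff, orbitRel.Quotient.orbit.coe_smul]
    rw [Finset.sum_congr rfl fun g _ => e1 g, Finset.sum_comm]
    rw [Finset.sum_eq_zero, mul_zero]
    intro ω _
    rw [Finset.sum_comm]
    refine Finset.sum_eq_zero fun ω' _ => ?_
    refine inner_term_zero φ φ ω ω' (Core.isIrr_isCharacter (hirr _)) (Core.isIrr_isCharacter (hirr _))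
      (h ω ω' fun e => hXY ?_)
    have ha : (Quotient.mk'' (ω : Ω) : orbitRel.Quotient G Ω) = X := orbitRel.Quotient.mem_orbit.1 ω.2
    have hb : (Quotient.mk'' (ω' : Ω) : orbitRel.Quotient G Ω) = Y := orbitRel.Quotient.mem_orbit.1 ω'.2
    rw [← ha, ← hb, e]
  rw [orbSum_sigma φ, Core.classInner_sum_left] at h0 ⊢
  obtain ⟨X₀, -, hX₀⟩ := Finset.exists_ne_zero_of_sum_ne_zero h0
  have he : orbSum (fun g (ω : X₀.orbit) => φ g ω) = θ := by
    by_contra hne
    exact hX₀ (Core.classInner_irr_ne (hpart X₀) hθ hne)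
  rw [Finset.sum_eq_single X₀]
  · rw [he]
    exact Core.classInner_irr_self hθ
  · intro X _ hX
    rw [← he]
    exact horth X X₀ hX
  · intro h1
    exact absurd (Finset.mem_univ _) h1

end Cfsg.Agent.H576.Ext
end

-- part: H576/Ext/Orth
section
/-!
# Two-parameter orthogonality of Harish-Chandra induced characters: the local terms (helper576, S4832)

`Van2 F N c c' W W'` : the local terms of `c` at `W` and of `c'` at `W'` are orthogonal on a subgroup of `N`.
`van2` : it holds for all `W`, `W'` if `N` contains the root elements and the Levi elements of determinant in `D`, `c`,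
`c'` are orthogonal on `DL D k` and `c`, `c' ∘ ι` as well.
-/

set_option autoImplicit false

open scoped ComplexConjugate
open Cfsg

namespace Cfsg.Agent.H576.Ext

open Cfsg.Agent.H477.HC Cfsg.Agent.H53.HC Cfsg.Agent.Characters Cfsg.Agent.OddOrderCharacters.Clifford Module
  Cfsg.Agent.H477.HC.CForm

universe u v w

variable {K : Type u} [Field K] {V : Type v} [AddCommGroup V] [Module K V] (F : CForm K V)

/-- the vanishing condition at a pair of subspaces -/
def Van2 {k : ℕ} (N : Subgroup F.iso) (c c' : GL (Fin k) K → ℂ) (W₀ W' : Submodule K V) : Prop :=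
  ∃ L : Subgroup F.iso, L ≤ N ∧ L ≤ stabW F.iso.subtype W₀ ∧ L ≤ stabW F.iso.subtype W' ∧
    ∀ [Fintype L], ∑ l : L, flagTerm F.iso.subtype c l W₀ * conj (flagTerm F.iso.subtype c' l W') = 0

variable {F}

theorem van2_of_root [FiniteDimensional K V] [Finite V] {k : ℕ} {N : Subgroup F.iso} {c c' : GL (Fin k) K → ℂ}
    (hcf : IsClassFunction _ c) (hcf' : IsClassFunction _ c')
    (hcusp : _root_.Cfsg.Agent.H53.HC.IsCusp c) {W₀ W' : Submodule K V} (hW₀ : finrank K W₀ = k)
    (hW' : finrank K W' = k) (D : Submodule K V) (hD : D ≤ W₀) (hD0 : D ≠ ⊥) (hD1 : D ≠ W₀)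
    (hgen : ∀ c ∈ D, ∀ f : W₀ →ₗ[K] K, (∀ w : W₀, (w : V) ∈ D → f w = 0) →
      ∃ g ∈ N, (∀ w' ∈ W', (g : V ≃ₗ[K] V) w' = w') ∧ ∀ w : W₀, (g : V ≃ₗ[K] V) w = w + f w • c) :
    Van2 F N c c' W₀ W' := by
  classical
  have b₀ : Basis (Fin k) K W₀ := finBasisOfFinrankEq K W₀ hW₀
  have b₁ : Basis (Fin k) K W' := finBasisOfFinrankEq K W' hW'
  let D₀ : Submodule K W₀ := D.comap W₀.subtype
  have hD₀0 : D₀ ≠ ⊥ := by
    intro h
    apply hD0
    rw [Submodule.eq_bot_iff] at h ⊢
    intro x hx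
    have := h ⟨x, hD hx⟩ hx
    exact congrArg Subtype.val this
  have hD₀1 : D₀ ≠ ⊤ := by
    intro h
    apply hD1
    apply le_antisymm hD
    intro x hx
    have : (⟨x, hx⟩ : W₀) ∈ D₀ := by rw [h]; trivial
    exact this
  let L : Subgroup F.iso :=
    { carrier := {g | g ∈ N ∧ (∀ w' ∈ W', (g : V ≃ₗ[K] V) w' = w') ∧ (∀ w ∈ W₀, (g : V ≃ₗ[K] V) w - w ∈ D) ∧
        ∀ d ∈ D, (g : V ≃ₗ[K] V) d = d}
      one_mem' := ⟨N.one_mem, fun _ _ => rfl, fun w _ => by
        change w - w ∈ D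
        rw [sub_self]; exact D.zero_mem, fun _ _ => rfl⟩
      mul_mem' := by
        rintro x y ⟨hx0, hx1, hx2, hx3⟩ ⟨hy0, hy1, hy2, hy3⟩
        refine ⟨N.mul_mem hx0 hy0, fun w' hw' => ?_, fun w hw => ?_, fun d hd => ?_⟩
        · rw [Subgroup.coe_mul, LinearEquiv.mul_apply, hy1 w' hw', hx1 w' hw']
        · have h1 : (y : V ≃ₗ[K] V) w ∈ W₀ := by
            have := W₀.add_mem (hD (hy2 w hw)) hw
            rwa [sub_add_cancel] at this
          have : ((x * y : F.iso) : V ≃ₗ[K] V) w - w =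
              ((x : V ≃ₗ[K] V) ((y : V ≃ₗ[K] V) w) - (y : V ≃ₗ[K] V) w) + ((y : V ≃ₗ[K] V) w - w) := by
            rw [Subgroup.coe_mul, LinearEquiv.mul_apply]; abel
          rw [this]
          exact D.add_mem (hx2 _ h1) (hy2 w hw)
        · rw [Subgroup.coe_mul, LinearEquiv.mul_apply, hy3 d hd, hx3 d hd]
      inv_mem' := by
        rintro x ⟨hx0, hx1, hx2, hx3⟩
        have key : ∀ v, (x : V ≃ₗ[K] V) v = v → ((x⁻¹ : F.iso) : V ≃ₗ[K] V) v = v := by
          intro v hv
          have h1 : ((x⁻¹ : F.iso) : V ≃ₗ[K] V) ((x : V ≃ₗ[K] V) v) = v := (x : V ≃ₗ[K] V).symm_apply_apply v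
          rwa [hv] at h1
        refine ⟨N.inv_mem hx0, fun w' hw' => key _ (hx1 w' hw'), fun w hw => ?_, fun d hd => key _ (hx3 d hd)⟩
        have h1 := hx2 w hw
        have h2 := key _ (hx3 _ h1)
        rw [map_sub] at h2
        have h3 : ((x⁻¹ : F.iso) : V ≃ₗ[K] V) ((x : V ≃ₗ[K] V) w) = w := (x : V ≃ₗ[K] V).symm_apply_apply w
        rw [h3] at h2
        have h4 : ((x⁻¹ : F.iso) : V ≃ₗ[K] V) w - w = -((x : V ≃ₗ[K] V) w - w) := by rw [← h2]; abel
        rw [h4]
        exact D.neg_mem h1 }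
  have hL0 : ∀ l ∈ L, W₀.map (F.iso.subtype l : V →ₗ[K] V) = W₀ := fun l hl => map_eq_of_le F.iso.subtype fun w hw => by
    have := W₀.add_mem (hD (hl.2.2.1 w hw)) hw
    rwa [sub_add_cancel] at this
  have hL1 : ∀ l ∈ L, W'.map (F.iso.subtype l : V →ₗ[K] V) = W' := fun l hl => map_eq_of_le F.iso.subtype fun w hw => by
    have := hl.2.1 w hw
    change (l : V ≃ₗ[K] V) w ∈ W'
    rw [this]; exact hw
  refine ⟨L, fun l hl => hl.1, fun l hl => hL0 l hl, fun l hl => hL1 l hl, fun {_} => ?_⟩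
  have hfinW : Finite (W₀ ≃ₗ[K] W₀) :=
    Finite.of_injective (fun e : W₀ ≃ₗ[K] W₀ => (e : W₀ → W₀)) DFunLike.coe_injective
  let _ : Fintype (radU D₀) := Fintype.ofFinite _
  let f : L →* radU D₀ :=
    { toFun := fun l => ⟨res (F.iso.subtype l) W₀ (hL0 l l.2), fun w => l.2.2.2.1 w w.2, fun d hd => by
          apply Subtype.ext
          exact l.2.2.2.2 d hd⟩
      map_one' := by
        apply Subtype.ext
        ext w
        rfl
      map_mul' := fun x y => by
        apply Subtype.ext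
        ext w
        rfl }
  have hf : Function.Surjective f := by
    have h1 := mem_of_transv D₀ (f.range.map (radU D₀).subtype) (by
      intro c hc f' hf'
      obtain ⟨g, hgS, hg1, hg2⟩ := hgen c hc f' (fun w hw => hf' w hw)
      have hgL : g ∈ L := by
        refine ⟨hgS, hg1, fun w hw => ?_, fun d hd => ?_⟩
        · rw [hg2 ⟨w, hw⟩, add_sub_cancel_left]
          exact D.smul_mem _ hc
        · rw [hg2 ⟨d, hD hd⟩, hf' _ hd, zero_smul, add_zero]
      refine ⟨_, ⟨f ⟨g, hgL⟩, ⟨⟨g, hgL⟩, rfl⟩, rfl⟩, fun w => ?_⟩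
      apply Subtype.ext
      exact hg2 w)
    rintro ⟨u, hu⟩
    obtain ⟨_, ⟨l, rfl⟩, h2⟩ := h1 hu
    exact ⟨l, Subtype.ext h2⟩
  have e1 : ∀ l : L, flagTerm F.iso.subtype c l W₀ * conj (flagTerm F.iso.subtype c' l W') =
      (fun u : radU D₀ => cl c (u : W₀ ≃ₗ[K] W₀) * conj (c' 1)) (f l) := by
    intro l
    rw [flagTerm_of F.iso.subtype c (hL0 l l.2), flagTerm_of F.iso.subtype c' (hL1 l l.2)]
    have e2 : res (F.iso.subtype (l : F.iso)) W' (hL1 l l.2) = 1 := by
      ext w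
      exact l.2.2.1 w w.2
    rw [e2, cl_one hcf' b₁]
    rfl
  rw [Finset.sum_congr rfl fun l _ => e1 l,
    sum_comp_hom f hf (fun u : radU D₀ => cl c (u : W₀ ≃ₗ[K] W₀) * conj (c' 1)), ← Finset.sum_mul,
    hcusp.sum_eq hcf b₀ D₀ hD₀0 hD₀1, zero_mul, mul_zero]

/-- case `0 < W₀ ∩ W'ᗮ < W₀` -/
theorem van2_case1 [FiniteDimensional K V] [Finite V] {k : ℕ} {N : Subgroup F.iso} (hN : HasRoots F N)
    {c c' : GL (Fin k) K → ℂ} (hcf : IsClassFunction _ c) (hcf' : IsClassFunction _ c')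
    (hcusp : _root_.Cfsg.Agent.H53.HC.IsCusp c) {W₀ W' : Submodule K V} (hW₀ : W₀ ∈ F.Om k) (hW' : W' ∈ F.Om k) (h0 : W₀ ⊓ F.perp W' ≠ ⊥)
    (h1 : W₀ ⊓ F.perp W' ≠ W₀) : Van2 F N c c' W₀ W' := by
  refine van2_of_root hcf hcf' hcusp hW₀.2 hW'.2 (W₀ ⊓ F.perp W') inf_le_left h0 h1 fun x hx f hf => ?_
  by_cases hf0 : ∀ w, f w = 0
  · refine ⟨1, N.one_mem, fun _ _ => rfl, fun w => ?_⟩
    rw [hf0 w, zero_smul, add_zero]
    rfl
  push Not at hf0
  obtain ⟨w₀, hw₀⟩ := hf0
  obtain ⟨b, hb, hb'⟩ := F.exists_pair W₀ W' f (fun w hw => hf w ⟨w.2, fun w' hw' => hw w' hw'⟩)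
  obtain ⟨g, hg⟩ := F.exists_root (hW₀.1.sing hx.1) (hW'.1.sing hb) (hx.2 b hb)
  refine ⟨g, hN x b (hW₀.1.sing hx.1) (hW'.1.sing hb) (hx.2 b hb) ⟨w₀, hW₀.1.2 w₀ w₀.2 x hx.1, by rw [← hb']; exact hw₀⟩
    g hg, fun w' hw' => ?_, fun w => ?_⟩
  · rw [hg, hW'.1.2 w' hw' b hb, F.B_eq_zero (hx.2 w' hw')]
    module
  · rw [hg, hb', hW₀.1.2 w w.2 x hx.1]
    module

/-- the root elements of the orthogonal cases -/
theorem exists_root_perp2 [FiniteDimensional K V] {N : Subgroup F.iso} (hN : HasRoots F N) {W₀ W' : Submodule K V}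
    (hW₀ : F.TS W₀) (hperp : W₀ ≤ F.perp W') {x : V} (hx : x ∈ W₀) (f : W₀ →ₗ[K] K)
    (hf : ∀ w : W₀, (w : V) ∈ W' → f w = 0) (hfx : f ⟨x, hx⟩ = 0) :
    ∃ g ∈ N, (∀ w' ∈ W', (g : V ≃ₗ[K] V) w' = w') ∧ ∀ w : W₀, (g : V ≃ₗ[K] V) w = w + f w • x := by
  by_cases hf0 : f = 0
  · refine ⟨1, N.one_mem, fun _ _ => rfl, fun w => ?_⟩
    rw [hf0, LinearMap.zero_apply, zero_smul, add_zero]
    rfl
  obtain ⟨b, hb, hb1, hb2⟩ := exists_sing_dual hW₀ hperp f hf hf0
  have hxb : F.B x b = 0 := by rw [← hfx, hb1]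
  obtain ⟨g, hg⟩ := F.exists_root (hW₀.sing hx) hb hxb
  obtain ⟨w₀, hw₀⟩ : ∃ w, f w ≠ 0 := by
    by_contra h
    push Not at h
    exact hf0 (LinearMap.ext h)
  refine ⟨g, hN x b (hW₀.sing hx) hb hxb ⟨w₀, hW₀.2 w₀ w₀.2 x hx, by rw [← hb1]; exact hw₀⟩ g hg,
    fun w' hw' => ?_, fun w => ?_⟩
  · rw [hg, hb2 w' hw', F.B_eq_zero (hperp hx w' hw')]
    module
  · rw [hg, hb1, hW₀.2 w w.2 x hx]
    module

/-- case `W₀ ⟂ W'`, `W₀ ∩ W' ≠ 0` -/
theorem van2_case2 [FiniteDimensional K V] [Finite V] {k : ℕ} {N : Subgroup F.iso} (hN : HasRoots F N)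
    {c c' : GL (Fin k) K → ℂ} (hcf : IsClassFunction _ c) (hcf' : IsClassFunction _ c')
    (hcusp : _root_.Cfsg.Agent.H53.HC.IsCusp c) {W₀ W' : Submodule K V} (hW₀ : W₀ ∈ F.Om k) (hW' : W' ∈ F.Om k) (hperp : W₀ ≤ F.perp W')
    (h0 : W₀ ⊓ W' ≠ ⊥) (h1 : W' ≠ W₀) : Van2 F N c c' W₀ W' := by
  refine van2_of_root hcf hcf' hcusp hW₀.2 hW'.2 (W₀ ⊓ W') inf_le_left h0 (fun h => h1 ?_) fun x hx f hf => ?_
  · symm
    apply Submodule.eq_of_le_of_finrank_eq
    · rw [← h]; exact inf_le_right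
    · rw [hW₀.2, hW'.2]
  exact exists_root_perp2 hN hW₀.1 hperp hx.1 f (fun w hw => hf w ⟨w.2, hw⟩) (hf ⟨x, hx.1⟩ hx)

/-- case `W₀ ⟂ W'`, `W₀ ∩ W' = 0`, `k ≥ 2` -/
theorem van2_case3 [FiniteDimensional K V] [Finite V] {k : ℕ} (hk : 2 ≤ k) {N : Subgroup F.iso} (hN : HasRoots F N)
    {c c' : GL (Fin k) K → ℂ} (hcf : IsClassFunction _ c) (hcf' : IsClassFunction _ c')
    (hcusp : _root_.Cfsg.Agent.H53.HC.IsCusp c) {W₀ W' : Submodule K V} (hW₀ : W₀ ∈ F.Om k) (hW' : W' ∈ F.Om k) (hperp : W₀ ≤ F.perp W')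
    (h0 : W₀ ⊓ W' = ⊥) : Van2 F N c c' W₀ W' := by
  classical
  obtain ⟨x, hx, hx0⟩ : ∃ x ∈ W₀, x ≠ 0 := by
    by_contra h
    push Not at h
    have : W₀ = ⊥ := (Submodule.eq_bot_iff _).2 h
    have h2 := hW₀.2
    rw [this, finrank_bot] at h2
    omega
  refine van2_of_root hcf hcf' hcusp hW₀.2 hW'.2 (K ∙ x) ((Submodule.span_singleton_le_iff_mem _ _).2 hx)
    (fun h => hx0 (Submodule.span_singleton_eq_bot.1 h)) (fun h => ?_) fun y hy f hf => ?_
  · have h2 := hW₀.2
    rw [← h, finrank_span_singleton hx0] at h2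
    omega
  · have hyW : y ∈ W₀ := ((Submodule.span_singleton_le_iff_mem _ _).2 hx) hy
    exact exists_root_perp2 hN hW₀.1 hperp hyW f (fun w hw => by
      have : (w : V) ∈ W₀ ⊓ W' := ⟨w.2, hw⟩
      rw [h0] at this
      have e : w = 0 := Subtype.ext ((Submodule.mem_bot K).1 this)
      rw [e, map_zero]) (hf ⟨y, hyW⟩ hy)

/-- the Levi subgroup of two opposite subspaces, determinant in `D` -/
def leviD (F : CForm K V) (N : Subgroup F.iso) (D : Subgroup Kˣ) (W₀ W' : Submodule K V) : Subgroup F.iso where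
  carrier := {g | g ∈ N ∧ g ∈ F.TT W' ∧ (∀ v, (∀ w ∈ W₀, F.B v w = 0) → (∀ w ∈ W', F.B v w = 0) →
    (g : V ≃ₗ[K] V) v = v) ∧ ∃ hg : g ∈ F.TT W₀, LinearEquiv.det (res (F.iso.subtype g) W₀ hg.1) ∈ D}
  one_mem' := ⟨N.one_mem, (F.TT W').one_mem, fun _ _ _ => rfl, (F.TT W₀).one_mem, by
    have : res (F.iso.subtype 1) W₀ ((F.TT W₀).one_mem).1 = 1 := by
      ext w
      rfl
    rw [this, map_one]
    exact D.one_mem⟩
  mul_mem' := by
    rintro x y ⟨hx1, hx2, hx3, hx4, hx5⟩ ⟨hy1, hy2, hy3, hy4, hy5⟩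
    refine ⟨N.mul_mem hx1 hy1, (F.TT W').mul_mem hx2 hy2, fun v hv hv' => ?_, (F.TT W₀).mul_mem hx4 hy4, ?_⟩
    · rw [Subgroup.coe_mul, LinearEquiv.mul_apply, hy3 v hv hv', hx3 v hv hv']
    · have : res (F.iso.subtype (x * y)) W₀ ((F.TT W₀).mul_mem hx4 hy4).1 =
          res (F.iso.subtype x) W₀ hx4.1 * res (F.iso.subtype y) W₀ hy4.1 := by
        ext w
        rfl
      rw [this, map_mul]
      exact D.mul_mem hx5 hy5
  inv_mem' := by
    rintro x ⟨hx1, hx2, hx3, hx4, hx5⟩
    refine ⟨N.inv_mem hx1, (F.TT W').inv_mem hx2, fun v hv hv' => ?_, (F.TT W₀).inv_mem hx4, ?_⟩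
    · have h1 : ((x⁻¹ : F.iso) : V ≃ₗ[K] V) ((x : V ≃ₗ[K] V) v) = v := (x : V ≃ₗ[K] V).symm_apply_apply v
      rwa [hx3 v hv hv'] at h1
    · have : res (F.iso.subtype x⁻¹) W₀ ((F.TT W₀).inv_mem hx4).1 = (res (F.iso.subtype x) W₀ hx4.1)⁻¹ := by
        rw [eq_inv_iff_mul_eq_one]
        ext w
        exact (x : V ≃ₗ[K] V).symm_apply_apply w
      rw [this, map_inv]
      exact D.inv_mem hx5

theorem det_glE {k : ℕ} {W : Submodule K V} (b : Basis (Fin k) K W) (f : W ≃ₗ[K] W) :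
    Matrix.GeneralLinearGroup.det (glE b f) = LinearEquiv.det f := by
  apply Units.ext
  rw [Matrix.GeneralLinearGroup.val_det_apply, coe_glE, LinearMap.det_toMatrix, LinearEquiv.coe_det]

/-- the homomorphism of the Levi subgroup to `DL D k` -/
theorem exists_levi_hom [FiniteDimensional K V] {k : ℕ} {N : Subgroup F.iso} {D : Subgroup Kˣ} (hD : HasLevi F N D k)
    {W₀ W' : Submodule K V} (hW₀ : W₀ ∈ F.Om k) (hW' : W' ∈ F.Om k) (h0 : W₀ ⊓ F.perp W' = ⊥)
    (b : Basis (Fin k) K W₀) :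
    ∃ f : leviD F N D W₀ W' →* DL D k, Function.Surjective f ∧ ∀ (l : leviD F N D W₀ W')
      (h : W₀.map (F.iso.subtype l : V →ₗ[K] V) = W₀), (f l : GL (Fin k) K) = glE b (res (F.iso.subtype l) W₀ h) := by
  classical
  have h0' := opp_symm (F := F) hW₀.2 hW'.2 h0
  have hst : ∀ l : leviD F N D W₀ W', W₀.map (F.iso.subtype l : V →ₗ[K] V) = W₀ := fun l => by
    obtain ⟨-, -, -, h, -⟩ := l.2
    exact h.1
  let f : leviD F N D W₀ W' →* DL D k :=
    { toFun := fun l => ⟨glE b (res (F.iso.subtype l) W₀ (hst l)), by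
        change Matrix.GeneralLinearGroup.det _ ∈ D
        rw [det_glE]
        obtain ⟨-, -, -, h, h'⟩ := l.2
        exact h'⟩
      map_one' := by
        apply Subtype.ext
        change glE b (res (F.iso.subtype 1) W₀ _) = 1
        have : ∀ h, res (F.iso.subtype 1) W₀ h = 1 := fun h => by
          ext w
          rfl
        rw [this, map_one]
      map_mul' := fun x y => by
        apply Subtype.ext
        change glE b (res (F.iso.subtype (x * y)) W₀ _) = glE b (res (F.iso.subtype x) W₀ _) * glE b (res (F.iso.subtype y) W₀ _)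
        rw [← map_mul]
        congr 1 }
  refine ⟨f, ?_, fun l h => rfl⟩
  rintro ⟨A, hA⟩
  obtain ⟨a, rfl⟩ := (glE b).surjective A
  obtain ⟨g, hg1, hg3, hg4, hg2⟩ := F.exists_levi hW₀.1 hW'.1
    (fun w hw hw' => by
      have : w ∈ W₀ ⊓ F.perp W' := ⟨hw, hw'⟩
      rw [h0] at this
      exact (Submodule.mem_bot K).1 this)
    (fun w hw hw' => by
      have : w ∈ W' ⊓ F.perp W₀ := ⟨hw, fun w' hw'' => F.B_eq_zero (hw' w' hw'')⟩
      rw [h0'] at this
      exact (Submodule.mem_bot K).1 this) a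
  have hres : ∀ h : W₀.map (F.iso.subtype g : V →ₗ[K] V) = W₀, res (F.iso.subtype g) W₀ h = a := fun h => by
    ext w
    exact hg1 w
  have hdet : ∀ h : W₀.map (F.iso.subtype g : V →ₗ[K] V) = W₀, LinearEquiv.det (res (F.iso.subtype g) W₀ h) ∈ D := by
    intro h
    rw [hres h]
    change Matrix.GeneralLinearGroup.det _ ∈ D at hA
    rwa [det_glE] at hA
  have hmem : g ∈ leviD F N D W₀ W' :=
    ⟨hD W₀ hW₀ W' hW' h0 g hg2.1 hg2.2 hg2.1.1 (hdet _) hg4, hg2.2, hg4, hg2.1, hdet _⟩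
  refine ⟨⟨g, hmem⟩, Subtype.ext ?_⟩
  change glE b (res (F.iso.subtype g) W₀ _) = glE b a
  rw [hres]

/-- case `W₀ ∩ W'ᗮ = 0` -/
theorem van2_case4 [FiniteDimensional K V] [Finite V] [Finite K] {k : ℕ} {N : Subgroup F.iso} {D : Subgroup Kˣ}
    (hD : HasLevi F N D k) {c c' : GL (Fin k) K → ℂ} (hcf : IsClassFunction _ c) (hcf' : IsClassFunction _ c')
    (h2 : DOrth D c (c' ∘ F.iota k)) {W₀ W' : Submodule K V} (hW₀ : W₀ ∈ F.Om k) (hW' : W' ∈ F.Om k)
    (h0 : W₀ ⊓ F.perp W' = ⊥) : Van2 F N c c' W₀ W' := by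
  classical
  obtain ⟨b, b', hb⟩ := exists_dual_basis hW₀.2 hW'.2 h0
  let _ : Fintype (DL D k) := Fintype.ofFinite _
  obtain ⟨f, hf, hfv⟩ := exists_levi_hom hD hW₀ hW' h0 b
  refine ⟨leviD F N D W₀ W', fun l hl => hl.1, fun l hl => ?_, fun l hl => hl.2.1.1, fun {_} => ?_⟩
  · obtain ⟨-, -, -, h, -⟩ := hl
    exact h.1
  have e1 : ∀ l : leviD F N D W₀ W', flagTerm F.iso.subtype c l W₀ * conj (flagTerm F.iso.subtype c' l W') =
      (fun A : DL D k => c A * conj (c' (F.iota k A))) (f l) := by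
    intro l
    have hl1 : W₀.map (F.iso.subtype l : V →ₗ[K] V) = W₀ := by
      obtain ⟨-, -, -, h, -⟩ := l.2
      exact h.1
    have hl2 : W'.map (F.iso.subtype l : V →ₗ[K] V) = W' := l.2.2.1.1
    rw [flagTerm_of F.iso.subtype c hl1, flagTerm_of F.iso.subtype c' hl2, cl_eq hcf b, cl_eq hcf' b',
      glE_opp hb hl1 hl2]
    change _ = c (f l : GL (Fin k) K) * conj (c' (F.iota k (f l : GL (Fin k) K)))
    rw [hfv l hl1]
  rw [Finset.sum_congr rfl fun l _ => e1 l, sum_comp_hom f hf (fun A : DL D k => c A * conj (c' (F.iota k A)))]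
  have h3 : ∑ A : DL D k, c A * conj (c' (F.iota k A)) = 0 := h2
  rw [h3, mul_zero]

/-- case `W₀ = W'` -/
theorem van2_case5 [FiniteDimensional K V] [Finite V] [Finite K] {k : ℕ} {N : Subgroup F.iso} {D : Subgroup Kˣ}
    (hD : HasLevi F N D k) {c c' : GL (Fin k) K → ℂ} (hcf : IsClassFunction _ c) (hcf' : IsClassFunction _ c')
    (h1 : DOrth D c c') {W₀ : Submodule K V} (hW₀ : W₀ ∈ F.Om k) : Van2 F N c c' W₀ W₀ := by
  classical
  obtain ⟨W', hW', h0⟩ := F.exists_opp hW₀
  obtain ⟨b, b', hb⟩ := exists_dual_basis hW₀.2 hW'.2 h0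
  let _ : Fintype (DL D k) := Fintype.ofFinite _
  obtain ⟨f, hf, hfv⟩ := exists_levi_hom hD hW₀ hW' h0 b
  have hst : ∀ l ∈ leviD F N D W₀ W', l ∈ stabW F.iso.subtype W₀ := fun l hl => by
    obtain ⟨-, -, -, h, -⟩ := hl
    exact h.1
  refine ⟨leviD F N D W₀ W', fun l hl => hl.1, hst, hst, fun {_} => ?_⟩
  have e1 : ∀ l : leviD F N D W₀ W', flagTerm F.iso.subtype c l W₀ * conj (flagTerm F.iso.subtype c' l W₀) =
      (fun A : DL D k => c A * conj (c' A)) (f l) := by
    intro l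
    have hl1 : W₀.map (F.iso.subtype l : V →ₗ[K] V) = W₀ := hst l l.2
    rw [flagTerm_of F.iso.subtype c hl1, flagTerm_of F.iso.subtype c' hl1, cl_eq hcf b, cl_eq hcf' b, ← hfv l hl1]
  rw [Finset.sum_congr rfl fun l _ => e1 l, sum_comp_hom f hf (fun A : DL D k => c A * conj (c' A))]
  have h3 : ∑ A : DL D k, c A * conj (c' A) = 0 := h1
  rw [h3, mul_zero]

/-- distinct subspaces -/
theorem van2_ne [FiniteDimensional K V] [Finite V] [Finite K] {k : ℕ} (hk : 2 ≤ k) {N : Subgroup F.iso}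
    {D : Subgroup Kˣ} (hN : HasRoots F N) (hD : HasLevi F N D k) {c c' : GL (Fin k) K → ℂ}
    (hcf : IsClassFunction _ c) (hcf' : IsClassFunction _ c') (hcusp : _root_.Cfsg.Agent.H53.HC.IsCusp c)
    (h2 : DOrth D c (c' ∘ F.iota k)) {W₀ W' : Submodule K V} (hW₀ : W₀ ∈ F.Om k) (hW' : W' ∈ F.Om k) (hne : W' ≠ W₀) :
    Van2 F N c c' W₀ W' := by
  by_cases h0 : W₀ ⊓ F.perp W' = ⊥
  · exact van2_case4 hD hcf hcf' h2 hW₀ hW' h0
  · by_cases h1 : W₀ ⊓ F.perp W' = W₀
    · have h1' : W₀ ≤ F.perp W' := inf_eq_left.1 h1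
      by_cases h3 : W₀ ⊓ W' = ⊥
      · exact van2_case3 hk hN hcf hcf' hcusp hW₀ hW' h1' h3
      · exact van2_case2 hN hcf hcf' hcusp hW₀ hW' h1' h3 hne
    · exact van2_case1 hN hcf hcf' hcusp hW₀ hW' h0 h1

/-- **all pairs** -/
theorem van2 [FiniteDimensional K V] [Finite V] [Finite K] {k : ℕ} (hk : 2 ≤ k) {N : Subgroup F.iso}
    {D : Subgroup Kˣ} (hN : HasRoots F N) (hD : HasLevi F N D k) {c c' : GL (Fin k) K → ℂ}
    (hcf : IsClassFunction _ c) (hcf' : IsClassFunction _ c') (hcusp : _root_.Cfsg.Agent.H53.HC.IsCusp c)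
    (h1 : DOrth D c c') (h2 : DOrth D c (c' ∘ F.iota k)) {W₀ W' : Submodule K V} (hW₀ : W₀ ∈ F.Om k)
    (hW' : W' ∈ F.Om k) : Van2 F N c c' W₀ W' := by
  by_cases hne : W' = W₀
  · subst hne
    exact van2_case5 hD hcf hcf' h1 hW₀
  · exact van2_ne hk hN hD hcf hcf' hcusp h2 hW₀ hW' hne

end Cfsg.Agent.H576.Ext
end

-- part: H576/Ext/Eng
section
/-!
# Two-parameter orthogonality, irreducibility and multiplicity one of `F.hc c 1` on `N` (helper576, S4832)
-/

set_option autoImplicit false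

open scoped ComplexConjugate
open Cfsg

namespace Cfsg.Agent.H576.Ext

open Cfsg.Agent.H477.HC Cfsg.Agent.H53.HC Cfsg.Agent.Characters Cfsg.Agent.OddOrderCharacters.Clifford Module
  Cfsg.Agent.H477.HC.CForm MulAction

universe u v w

variable {K : Type u} [Field K] {V : Type v} [AddCommGroup V] [Module K V] (F : CForm K V)

/-- the action of `N` on the totally singular `k`-subspaces -/
@[reducible] def omAct (N : Subgroup F.iso) (k : ℕ) : MulAction N (F.Om k) :=
  subAct (F.iso.subtype.comp N.subtype) (F.Om k) (fun g W hW => F.Om_map (g : F.iso) W hW)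

/-- the local terms -/
noncomputable def lt (N : Subgroup F.iso) {k : ℕ} (c : GL (Fin k) K → ℂ) : N → F.Om k → ℂ :=
  fun n W => flagTerm F.iso.subtype c (n : F.iso) W.1

theorem mem_stab_iff (N : Subgroup F.iso) {k : ℕ} (W : F.Om k) (n : N) :
    letI := omAct F N k; n ∈ stabilizer N W ↔ (n : F.iso) ∈ stabW F.iso.subtype W.1 := by
  letI := omAct F N k
  rw [mem_stabilizer_iff, mem_stabW]
  constructor
  · intro h
    exact congrArg Subtype.val h
  · intro h
    exact Subtype.ext h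

theorem hc_eq_orbSum' (N : Subgroup F.iso) {k : ℕ} [Fintype (F.Om k)] (c : GL (Fin k) K → ℂ) (n : N) :
    F.hc c (fun _ _ => 1) n = letI := omAct F N k; orbSum (lt F N c) n := by
  classical
  letI := omAct F N k
  unfold hc orbSum
  refine Finset.sum_congr rfl fun W _ => ?_
  rw [mul_one]
  split_ifs with h
  · rfl
  · unfold flagTerm
    rw [dif_neg]
    intro h'
    exact h (Subtype.ext h')

theorem lt_conj (N : Subgroup F.iso) {k : ℕ} {c : GL (Fin k) K → ℂ} (hc : IsClassFunction _ c) (x n : N)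
    (W : F.Om k) : letI := omAct F N k; lt F N c (x * n * x⁻¹) (x • W) = lt F N c n W :=
  flagTerm_conj F.iso.subtype hc (x : F.iso) (n : F.iso) W.1

/-- the local term is a character of every group mapping to the stabiliser -/
theorem isCharacter_term [FiniteDimensional K V] {k : ℕ} {c : GL (Fin k) K → ℂ} (hc : IsCharacter _ c)
    {W : Submodule K V} (hW : W ∈ F.Om k) {H : Type*} [Group H] (j : H →* stabW F.iso.subtype W) :
    IsCharacter H (fun h => flagTerm F.iso.subtype c (j h : F.iso) W) := by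
  let b : Basis (Fin k) K W := finBasisOfFinrankEq K W hW.2
  have e : (fun h : H => flagTerm F.iso.subtype c (j h : F.iso) W) =
      c ∘ ((glE b).toMonoidHom.comp ((resHom F.iso.subtype W).comp j)) := by
    ext h
    rw [flagTerm_of F.iso.subtype c (j h).2, cl_eq (Core.isCharacter_isClassFunction hc) b]
    rfl
  rw [e]
  exact Core.isCharacter_comp _ hc

theorem isCharacter_stabFun [FiniteDimensional K V] (N : Subgroup F.iso) {k : ℕ} {c : GL (Fin k) K → ℂ}
    (hc : IsCharacter _ c) (W : F.Om k) :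
    letI := omAct F N k; IsCharacter (stabilizer N W) (stabFun (lt F N c) W) := by
  letI := omAct F N k
  let j : stabilizer N W →* stabW F.iso.subtype W.1 :=
    { toFun := fun n => ⟨(n : N), (mem_stab_iff F N W n).1 n.2⟩
      map_one' := rfl
      map_mul' := fun _ _ => rfl }
  exact isCharacter_term F hc W.2 j

/-- a subgroup of `F.iso` in `N` on which two terms are orthogonal, as a subgroup of `N` -/
theorem van2_stab (N : Subgroup F.iso) {k : ℕ} {c c' : GL (Fin k) K → ℂ} (W W' : F.Om k)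
    (h : Van2 F N c c' W.1 W'.1) :
    letI := omAct F N k; ∃ L : Subgroup N, L ≤ stabilizer N W ∧ L ≤ stabilizer N W' ∧
      ∀ [Fintype L], ∑ l : L, lt F N c l W * conj (lt F N c' l W') = 0 := by
  letI := omAct F N k
  obtain ⟨L, h1, h2, h3, h4⟩ := h
  refine ⟨L.subgroupOf N, fun l hl => (mem_stab_iff F N W l).2 (h2 hl), fun l hl => (mem_stab_iff F N W' l).2 (h3 hl),
    fun {_} => ?_⟩
  have : Fintype L := Fintype.ofEquiv _ (Subgroup.subgroupOfEquivOfLe h1).toEquiv
  rw [← h4]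
  exact Fintype.sum_equiv (Subgroup.subgroupOfEquivOfLe h1).toEquiv _ _ fun l => rfl

/-- **two-parameter orthogonality** -/
theorem hc_orth [Finite K] [FiniteDimensional K V] [Finite V] {k : ℕ} [Fintype (F.Om k)] (hk : 2 ≤ k)
    {N : Subgroup F.iso} [Fintype N] {D : Subgroup Kˣ} (hN : HasRoots F N) (hD : HasLevi F N D k)
    {c c' : GL (Fin k) K → ℂ} (hc : IsIrrCharacter _ c) (hc' : IsIrrCharacter _ c') (hcusp : _root_.Cfsg.Agent.H53.HC.IsCusp c)
    (h1 : DOrth D c c') (h2 : DOrth D c (c' ∘ F.iota k)) :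
    ∑ n : N, F.hc c (fun _ _ => 1) n * conj (F.hc c' (fun _ _ => 1) n) = 0 := by
  letI := omAct F N k
  have hcf := Core.isIrr_isClassFunction hc
  have hcf' := Core.isIrr_isClassFunction hc'
  simp_rw [hc_eq_orbSum' F N]
  exact orbSum_orth (lt F N c) (lt F N c') (isCharacter_stabFun F N (Core.isIrr_isCharacter hc))
    (isCharacter_stabFun F N (Core.isIrr_isCharacter hc')) fun W W' =>
    van2_stab F N W W' (van2 hk hN hD hcf hcf' hcusp h1 h2 W.2 W'.2)

/-- the local term is irreducible on the stabiliser in `N` -/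
theorem isIrr_stabFun [Finite K] [FiniteDimensional K V] [Finite V] {k : ℕ} {N : Subgroup F.iso} {D : Subgroup Kˣ}
    (hD : HasLevi F N D k) {c : GL (Fin k) K → ℂ} (hc : IsIrrCharacter _ c) (hirr : DIrr D c) (W : F.Om k) :
    letI := omAct F N k; IsIrrCharacter (stabilizer N W) (stabFun (lt F N c) W) := by
  classical
  letI := omAct F N k
  have hG : Finite (V ≃ₗ[K] V) := Finite.of_injective (fun e : V ≃ₗ[K] V => (e : V → V)) DFunLike.coe_injective
  obtain ⟨W', hW', h0⟩ := F.exists_opp W.2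
  let b : Basis (Fin k) K W.1 := finBasisOfFinrankEq K W.1 W.2.2
  obtain ⟨f, hf, hfv⟩ := exists_levi_hom hD W.2 hW' h0 b
  have hst : ∀ l ∈ leviD F N D W.1 W', l ∈ stabW F.iso.subtype W.1 := fun l hl => by
    obtain ⟨-, -, -, h, -⟩ := hl
    exact h.1
  let g : leviD F N D W.1 W' →* stabilizer N W :=
    { toFun := fun l => ⟨⟨l, l.2.1⟩, (mem_stab_iff F N W _).2 (hst l l.2)⟩
      map_one' := rfl
      map_mul' := fun _ _ => rfl }
  refine CharactersDeep.MaxInduced.isIrr_of_comp g (isCharacter_stabFun F N (Core.isIrr_isCharacter hc) W) ?_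
  have e : stabFun (lt F N c) W ∘ g = (fun A : DL D k => c A) ∘ f := by
    ext l
    change flagTerm F.iso.subtype c (l : F.iso) W.1 = c (f l : GL (Fin k) K)
    rw [flagTerm_of F.iso.subtype c (hst l l.2), cl_eq (Core.isIrr_isClassFunction hc) b, hfv l (hst l l.2)]
  rw [e]
  exact Core.isIrr_comp f hf hirr

/-- **irreducibility on `N`** -/
theorem isIrr_hc_sub [Finite K] [FiniteDimensional K V] [Finite V] {k : ℕ} [Fintype (F.Om k)] (hk : 2 ≤ k)
    {N : Subgroup F.iso} {D : Subgroup Kˣ} (hN : HasRoots F N) (hD : HasLevi F N D k)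
    {c : GL (Fin k) K → ℂ} (hc : IsIrrCharacter _ c) (hcusp : _root_.Cfsg.Agent.H53.HC.IsCusp c)
    (hirr : DIrr D c) (hopp : DOrth D c (c ∘ F.iota k)) {W₀ : Submodule K V} (hW₀ : W₀ ∈ F.Om k)
    (htr : ∀ W ∈ F.Om k, ∃ g ∈ N, W₀.map (F.iso.subtype g : V →ₗ[K] V) = W) :
    IsIrrCharacter N (fun n : N => F.hc c (fun _ _ => 1) n) := by
  classical
  letI := omAct F N k
  have hG : Finite (V ≃ₗ[K] V) := Finite.of_injective (fun e : V ≃ₗ[K] V => (e : V → V)) DFunLike.coe_injective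
  let _ : Fintype N := Fintype.ofFinite _
  have hcf := Core.isIrr_isClassFunction hc
  have : IsPretransitive N (F.Om k) := by
    refine ⟨fun W W' => ?_⟩
    obtain ⟨g, hgN, hg⟩ := htr W.1 W.2
    obtain ⟨g', hgN', hg'⟩ := htr W'.1 W'.2
    refine ⟨(⟨g', hgN'⟩ : N) * (⟨g, hgN⟩ : N)⁻¹, ?_⟩
    have e1 : (⟨g, hgN⟩ : N) • (⟨W₀, hW₀⟩ : F.Om k) = W := Subtype.ext hg
    have e2 : (⟨g', hgN'⟩ : N) • (⟨W₀, hW₀⟩ : F.Om k) = W' := Subtype.ext hg'
    rw [← e1, mul_smul, inv_smul_smul, e2]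
  have e : (fun n : N => F.hc c (fun _ _ => 1) n) = orbSum (lt F N c) := funext fun n => hc_eq_orbSum' F N c n
  rw [e]
  refine isIrr_orbSum (lt F N c) (lt_conj F N hcf) ⟨W₀, hW₀⟩ (isIrr_stabFun F hD hc hirr _) fun W hW => ?_
  exact van2_stab F N _ _ (van2_ne hk hN hD hcf hcf hcusp hopp hW₀ W.2 fun h => hW (Subtype.ext h))

/-- **multiplicity one on `N`** -/
theorem hc_mf [Finite K] [FiniteDimensional K V] [Finite V] {k : ℕ} [Fintype (F.Om k)] (hk : 2 ≤ k)
    {N : Subgroup F.iso} [Fintype N] {D : Subgroup Kˣ} (hN : HasRoots F N) (hD : HasLevi F N D k)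
    {c : GL (Fin k) K → ℂ} (hc : IsIrrCharacter _ c) (hcusp : _root_.Cfsg.Agent.H53.HC.IsCusp c)
    (hirr : DIrr D c) (hopp : DOrth D c (c ∘ F.iota k)) {θ : N → ℂ} (hθ : IsIrrCharacter N θ)
    (h0 : classInner (fun n : N => F.hc c (fun _ _ => 1) n) θ ≠ 0) :
    classInner (fun n : N => F.hc c (fun _ _ => 1) n) θ = 1 := by
  letI := omAct F N k
  have hcf := Core.isIrr_isClassFunction hc
  have e : (fun n : N => F.hc c (fun _ _ => 1) n) = orbSum (lt F N c) := funext fun n => hc_eq_orbSum' F N c n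
  rw [e] at h0 ⊢
  refine orbSum_mf (lt F N c) (lt_conj F N hcf) (isIrr_stabFun F hD hc hirr) (fun W W' hW => ?_) hθ h0
  exact van2_stab F N _ _ (van2_ne hk hN hD hcf hcf hcusp hopp W.2 W'.2 fun h => hW (Subtype.ext h))

theorem hasLevi_top (D : Subgroup Kˣ) (k : ℕ) : HasLevi F ⊤ D k :=
  fun _ _ _ _ _ _ _ _ _ _ _ => Subgroup.mem_top _

theorem hasRoots_top : HasRoots F ⊤ := fun _ _ _ _ _ _ _ _ => Subgroup.mem_top _

variable {F} in
theorem HasRoots.mono {N N' : Subgroup F.iso} (h : N ≤ N') (hN : HasRoots F N) : HasRoots F N' :=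
  fun x b h1 h2 h3 h4 g hg => h (hN x b h1 h2 h3 h4 g hg)

variable {F} in
theorem HasLevi.mono {N N' : Subgroup F.iso} {D D' : Subgroup Kˣ} {k : ℕ} (h : N ≤ N') (h' : D' ≤ D)
    (hN : HasLevi F N D k) : HasLevi F N' D' k :=
  fun W hW W' hW' h0 g h1 h2 h3 h4 h5 => h (hN W hW W' hW' h0 g h1 h2 h3 (h' h4) h5)

/-- the action of a root element -/
theorem root_mul {x y b : V} (hxb : F.B x b = 0) (hyb : F.B y b = 0) (hxy : F.B y x = 0) (hb : F.B b b = 0)
    (hbx : F.B b x = 0) {g g' : F.iso} (hg : ∀ v, (g : V ≃ₗ[K] V) v = v + F.B v b • x - (F.ε⁻¹ * F.B v x) • b)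
    (hg' : ∀ v, (g' : V ≃ₗ[K] V) v = v + F.B v b • y - (F.ε⁻¹ * F.B v y) • b) (v : V) :
    ((g * g' : F.iso) : V ≃ₗ[K] V) v = v + F.B v b • (x + y) - (F.ε⁻¹ * F.B v (x + y)) • b := by
  change (g : V ≃ₗ[K] V) ((g' : V ≃ₗ[K] V) v) = _
  rw [hg', hg]
  simp only [F.B_sub_left, F.B_add_left, F.B_smul_left, F.B_add_right, hyb, hb, hxy, hbx, mul_zero, add_zero, sub_zero]
  module

/-- **the roots** -/
theorem hasRoots_of_comm [FiniteDimensional K V] {N : Subgroup F.iso} (hN : commutator F.iso ≤ N)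
    (h3 : ∃ t : K, t ≠ 0 ∧ t ≠ 1) : HasRoots F N := by
  classical
  intro x b hx hb hxb ⟨w, hw, hw'⟩ g hg
  obtain ⟨t, ht0, ht1⟩ := h3
  have hbx := F.B_eq_zero hxb
  by_cases hx0 : x = 0
  · have : g = 1 := by
      apply Subtype.ext
      ext v
      rw [hg, hx0, smul_zero, F.B_zero_right, mul_zero, zero_smul, add_zero, sub_zero]
      rfl
    rw [this]
    exact N.one_mem
  -- `x`, `b` are linearly independent
  have hli : LinearIndependent K ![x, b] := by
    rw [LinearIndependent.pair_iff]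
    intro s r hsr
    have h1 : F.B w (s • x + r • b) = 0 := by rw [hsr, F.B_zero_right]
    rw [F.B_add_right, F.B_smul_right, F.B_smul_right, hw, mul_zero, zero_add] at h1
    have h2 : F.σ r = 0 := (mul_eq_zero.1 h1).resolve_right hw'
    have h4 : r = 0 := by
      have := congrArg F.σ h2
      rwa [F.σσ, map_zero] at this
    rw [h4, zero_smul, add_zero] at hsr
    exact ⟨(smul_eq_zero.1 hsr).resolve_right hx0, h4⟩
  let M : Submodule K V := Submodule.span K (Set.range ![x, b])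
  have hM : F.TS M := by
    refine F.TS_span (fun i j => ?_) (fun i => ?_)
    · fin_cases i <;> fin_cases j
      · exact hx.2
      · exact hxb
      · exact hbx
      · exact hb.2
    · fin_cases i
      · exact hx.1
      · exact hb.1
  let e : Basis (Fin 2) K M := Basis.span hli
  have he0 : ((e 0 : M) : V) = x := by
    rw [Basis.span_apply]; rfl
  have he1 : ((e 1 : M) : V) = b := by
    rw [Basis.span_apply]; rfl
  let a : M ≃ₗ[K] M := e.equiv (e.unitsSMul ![Units.mk0 t ht0, 1]) (Equiv.refl _)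
  have ha0 : ((a (e 0) : M) : V) = t • x := by
    rw [Basis.equiv_apply, Equiv.refl_apply, Basis.unitsSMul_apply]
    change ((t • e 0 : M) : V) = _
    rw [Submodule.coe_smul, he0]
  have ha1 : ((a (e 1) : M) : V) = b := by
    rw [Basis.equiv_apply, Equiv.refl_apply, Basis.unitsSMul_apply]
    change (((1 : Kˣ) • e 1 : M) : V) = _
    rw [one_smul, he1]
  obtain ⟨h, hh⟩ := F.exists_levi' hM a
  have hhx : (h : V ≃ₗ[K] V) x = t • x := by
    have := hh (e 0)
    rwa [he0, ha0] at this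
  have hhb : (h : V ≃ₗ[K] V) b = b := by
    have := hh (e 1)
    rwa [he1, ha1] at this
  -- the scaled root element
  have ht1' : t - 1 ≠ 0 := sub_ne_zero.2 ht1
  obtain ⟨y, hy⟩ : ∃ y : V, y = (t - 1)⁻¹ • x := ⟨_, rfl⟩
  have hys : F.Sing y := ⟨by rw [hy, F.Q_smul, hx.1, mul_zero], by
    rw [hy, F.B_smul_left, F.B_smul_right, hx.2, mul_zero, mul_zero]⟩
  have hyb : F.B y b = 0 := by rw [hy, F.B_smul_left, hxb, mul_zero]
  obtain ⟨r, hr⟩ := F.exists_root hys hb hyb
  -- `h r h⁻¹`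
  have hhy : (h : V ≃ₗ[K] V) y = t • y := by
    rw [hy, map_smul, hhx, smul_comm]
  have hcon : ∀ v, ((h * r * h⁻¹ : F.iso) : V ≃ₗ[K] V) v = v + F.B v b • (t • y) - (F.ε⁻¹ * F.B v (t • y)) • b := by
    intro v
    change (h : V ≃ₗ[K] V) ((r : V ≃ₗ[K] V) (((h⁻¹ : F.iso) : V ≃ₗ[K] V) v)) = _
    have h1 : (h : V ≃ₗ[K] V) (((h⁻¹ : F.iso) : V ≃ₗ[K] V) v) = v := (h : V ≃ₗ[K] V).apply_symm_apply v
    have e1 : F.B (((h⁻¹ : F.iso) : V ≃ₗ[K] V) v) b = F.B v b := by
      conv_rhs => rw [← h1, ← hhb]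
      rw [F.iso_B]
    have e2 : F.B (((h⁻¹ : F.iso) : V ≃ₗ[K] V) v) y = F.B v (t • y) := by
      conv_rhs => rw [← h1, ← hhy]
      rw [F.iso_B]
    rw [hr, e1, e2, map_sub, map_add, map_smul, map_smul, h1, hhy, hhb]
  have hrinv : ∀ v, ((r⁻¹ : F.iso) : V ≃ₗ[K] V) v = v + F.B v b • (-y) - (F.ε⁻¹ * F.B v (-y)) • b := by
    intro v
    apply (r : V ≃ₗ[K] V).injective
    have h1 : (r : V ≃ₗ[K] V) (((r⁻¹ : F.iso) : V ≃ₗ[K] V) v) = v := (r : V ≃ₗ[K] V).apply_symm_apply v
    rw [h1, hr]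
    have e3 : F.B b y = 0 := F.B_eq_zero hyb
    simp only [F.B_sub_left, F.B_add_left, F.B_smul_left, F.B_neg_right, F.B_neg_left, smul_neg, mul_neg, neg_smul,
      hyb, hb.2, hys.2, e3, mul_zero, neg_zero, add_zero, sub_zero]
    module
  have hxy0 : F.B (-y) (t • y) = 0 := by
    rw [F.B_neg_left, F.B_smul_right, hys.2, mul_zero, neg_zero]
  have hprod := root_mul F (x := t • y) (y := -y) (b := b) (by rw [F.B_smul_left, hyb, mul_zero])
    (by rw [F.B_neg_left, hyb, neg_zero]) hxy0 hb.2 (by rw [F.B_smul_right, F.B_eq_zero hyb, mul_zero]) hcon hrinv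
  have hfin : g = h * r * h⁻¹ * r⁻¹ := by
    apply Subtype.ext
    ext v
    rw [hg, hprod]
    have e4 : t • y + -y = x := by
      have e5 : t • ((t - 1)⁻¹ • x) + -((t - 1)⁻¹ • x) = ((t - 1) * (t - 1)⁻¹) • x := by module
      rw [hy, e5, mul_inv_cancel₀ ht1', one_smul]
    rw [e4]
  rw [hfin]
  apply hN
  rw [commutator_eq_closure]
  exact Subgroup.subset_closure ⟨h, r, rfl⟩

end Cfsg.Agent.H576.Ext
end

-- part: H576/Ext/Levi
section
/-!
# The Levi elements of determinant one are products of root elements (helper576, S4832)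
-/

set_option autoImplicit false

open scoped ComplexConjugate
open Cfsg

namespace Cfsg.Agent.H576.Ext

open Cfsg.Agent.H477.HC Cfsg.Agent.H53.HC Cfsg.Agent.Characters Cfsg.Agent.OddOrderCharacters.Clifford Module
  Cfsg.Agent.H477.HC.CForm

universe u v w

variable {K : Type u} [Field K] {V : Type v} [AddCommGroup V] [Module K V] (F : CForm K V)

/-- the Levi elements are determined by their action on `W` -/
theorem levi_unique [FiniteDimensional K V] {k : ℕ} {W W' : Submodule K V} (hW : W ∈ F.Om k) (hW' : W' ∈ F.Om k)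
    (h0 : W ⊓ F.perp W' = ⊥) {g l : F.iso} (hg : g ∈ F.TT W') (hl : l ∈ F.TT W')
    (hgl : ∀ w ∈ W, (g : V ≃ₗ[K] V) w = (l : V ≃ₗ[K] V) w)
    (hg0 : ∀ v, (∀ w ∈ W, F.B v w = 0) → (∀ w ∈ W', F.B v w = 0) → (g : V ≃ₗ[K] V) v = v)
    (hl0 : ∀ v, (∀ w ∈ W, F.B v w = 0) → (∀ w ∈ W', F.B v w = 0) → (l : V ≃ₗ[K] V) v = v) : g = l := by
  have h0' := opp_symm (F := F) hW.2 hW'.2 h0
  have h1 : ∀ w ∈ W, (∀ w' ∈ W', F.B w w' = 0) → w = 0 := fun w hw hw' => by
    have : w ∈ W ⊓ F.perp W' := ⟨hw, hw'⟩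
    rw [h0] at this
    exact (Submodule.mem_bot K).1 this
  have h2 : ∀ w ∈ W', (∀ w' ∈ W, F.B w w' = 0) → w = 0 := fun w hw hw' => by
    have : w ∈ W' ⊓ F.perp W := ⟨hw, hw'⟩
    rw [h0'] at this
    exact (Submodule.mem_bot K).1 this
  obtain ⟨P, hP⟩ := F.exists_proj h1 (fun w hw h => h2 w hw fun w' hw' => F.B_eq_zero (h w' hw'))
  obtain ⟨P', hP'⟩ := F.exists_proj h2 (fun w hw h => h1 w hw fun w' hw' => F.B_eq_zero (h w' hw'))
  have key : ∀ w' ∈ W', (g : V ≃ₗ[K] V) w' = (l : V ≃ₗ[K] V) w' := by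
    intro w' hw'
    have e1 : (g : V ≃ₗ[K] V) w' ∈ W' := by
      rw [← hg.1]; exact ⟨w', hw', rfl⟩
    have e2 : (l : V ≃ₗ[K] V) w' ∈ W' := by
      rw [← hl.1]; exact ⟨w', hw', rfl⟩
    rw [← sub_eq_zero]
    refine h2 _ (W'.sub_mem e1 e2) fun w hw => ?_
    -- write `w = g w₁`? use `l`-images
    have e3 : W.map (F.iso.subtype g : V →ₗ[K] V) = W.map (F.iso.subtype l : V →ₗ[K] V) := by
      ext x
      constructor
      · rintro ⟨y, hy, rfl⟩
        exact ⟨y, hy, (hgl y hy).symm⟩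
      · rintro ⟨y, hy, rfl⟩
        exact ⟨y, hy, hgl y hy⟩
    -- any `w` : decompose `g⁻¹ w`
    have e4 : ∀ y ∈ W, F.B ((g : V ≃ₗ[K] V) w' - (l : V ≃ₗ[K] V) w') ((g : V ≃ₗ[K] V) y) = 0 := by
      intro y hy
      rw [F.B_sub_left, F.iso_B]
      rw [hgl y hy, F.iso_B, sub_self]
    -- `g W` is a complement of `W'ᗮ` too
    have e5 : ∃ z ∈ W, ∀ w'' ∈ W', F.B w w'' = F.B ((g : V ≃ₗ[K] V) z) w'' := by
      refine ⟨P (((g⁻¹ : F.iso) : V ≃ₗ[K] V) w), (P _).2, fun w'' hw'' => ?_⟩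
      have e6 : (g : V ≃ₗ[K] V) (((g⁻¹ : F.iso) : V ≃ₗ[K] V) w) = w := (g : V ≃ₗ[K] V).apply_symm_apply w
      obtain ⟨u, hu, hu'⟩ : ∃ u ∈ W', (g : V ≃ₗ[K] V) u = w'' := by
        rw [← hg.1] at hw''
        exact hw''
      have e9 : F.B w ((g : V ≃ₗ[K] V) u) = F.B (((g⁻¹ : F.iso) : V ≃ₗ[K] V) w) u := by
        conv_lhs => rw [← e6]
        rw [F.iso_B]
      rw [← hu', F.iso_B, ← hP _ u hu, e9]
    obtain ⟨z, hz, hz'⟩ := e5
    have e7 := F.B_eq_zero (e4 z hz)
    rw [← hz' _ (W'.sub_mem e1 e2)] at e7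
    exact F.B_eq_zero e7
  apply Subtype.ext
  ext v
  have e8 : v = (v - P v - P' v) + (P v + P' v) := by abel
  have c1 : ∀ w ∈ W, F.B (v - P v - P' v) w = 0 := by
    intro w hw
    rw [F.B_sub_left, F.B_sub_left, hW.1.2 _ (P v).2 w hw, hP' v w hw]
    ring
  have c2 : ∀ w ∈ W', F.B (v - P v - P' v) w = 0 := by
    intro w hw
    rw [F.B_sub_left, F.B_sub_left, hW'.1.2 _ (P' v).2 w hw, hP v w hw]
    ring
  rw [e8, map_add, map_add, map_add, map_add, hg0 _ c1 c2, hl0 _ c1 c2, hgl _ (P v).2, key _ (P' v).2]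

/-- the root element inducing a transvection -/
theorem exists_root_opp [FiniteDimensional K V] {k : ℕ} {N : Subgroup F.iso} (hN : HasRoots F N) {W W' : Submodule K V}
    (hW : W ∈ F.Om k) (hW' : W' ∈ F.Om k) (b : Basis (Fin k) K W) (b' : Basis (Fin k) K W')
    (hb : ∀ i j, F.B (b i) (b' j) = if i = j then 1 else 0) {i j : Fin k} (hij : i ≠ j) (c : K) :
    ∃ g ∈ leviD F N ⊤ W W', ∀ w : W, (g : V ≃ₗ[K] V) w = w + (c * b.repr w j) • (b i : V) := by
  classical
  by_cases hc : c = 0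
  · refine ⟨1, (leviD F N ⊤ W W').one_mem, fun w => ?_⟩
    rw [hc, zero_mul, zero_smul, add_zero]
    rfl
  have hz : F.Sing (F.σ c • (b' j : V)) := hW'.1.sing (W'.smul_mem _ (b' j).2)
  have hzW : F.σ c • (b' j : V) ∈ W' := W'.smul_mem _ (b' j).2
  have hx : F.Sing (b i : V) := hW.1.sing (b i).2
  have hxz : F.B (b i) (F.σ c • (b' j : V)) = 0 := by
    rw [F.B_smul_right, hb, if_neg hij, mul_zero]
  have hval : ∀ w : W, F.B w (F.σ c • (b' j : V)) = c * b.repr w j := by
    intro w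
    rw [F.B_smul_right, F.σσ]
    congr 1
    have h1 : (w : V) = ∑ m, b.repr w m • (b m : V) := by
      conv_lhs => rw [← b.sum_repr w, Submodule.coe_sum]
      rfl
    rw [h1, F.B_sum_left, Finset.sum_eq_single j]
    · rw [hb, if_pos rfl, mul_one]
    · intro m _ hm
      rw [hb, if_neg hm, mul_zero]
    · intro h; exact absurd (Finset.mem_univ _) h
  obtain ⟨g, hg⟩ := F.exists_root hx hz hxz
  have hTT : g ∈ F.TT W := F.mem_TT_of hW.1 fun v hv => by
    rw [hg, hv _ (b i).2]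
    have : v + F.B v (F.σ c • (b' j : V)) • (b i : V) - (F.ε⁻¹ * 0) • (F.σ c • (b' j : V)) - v =
        F.B v (F.σ c • (b' j : V)) • (b i : V) := by module
    rw [this]
    exact W.smul_mem _ (b i).2
  have hTT' : g ∈ F.TT W' := F.mem_TT_of hW'.1 fun v hv => by
    rw [hg, hv _ hzW]
    have : v + (0 : K) • (b i : V) - (F.ε⁻¹ * F.B v (b i)) • (F.σ c • (b' j : V)) - v =
        (-(F.ε⁻¹ * F.B v (b i))) • (F.σ c • (b' j : V)) := by module
    rw [this]
    exact W'.smul_mem _ hzW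
  refine ⟨g, ⟨?_, hTT', fun v hv hv' => ?_, hTT, Subgroup.mem_top _⟩, fun w => ?_⟩
  · refine hN _ _ hx hz hxz ⟨b j, hW.1.2 _ (b j).2 _ (b i).2, ?_⟩ g hg
    rw [hval, Basis.repr_self, Finsupp.single_eq_same, mul_one]
    exact hc
  · rw [hg, hv' _ hzW, hv _ (b i).2]
    module
  · rw [hg, hval, hW.1.2 w w.2 _ (b i).2]
    module

/-- **the Levi elements of determinant one** -/
theorem hasLevi_bot [FiniteDimensional K V] {N : Subgroup F.iso} (hN : HasRoots F N) (k : ℕ) : HasLevi F N ⊥ k := by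
  classical
  intro W hW W' hW' h0 g hg hg' hgW hdet htriv
  obtain ⟨b, b', hb⟩ := exists_dual_basis (F := F) hW.2 hW'.2 h0
  have hst : ∀ l : leviD F N ⊤ W W', W.map (F.iso.subtype l : V →ₗ[K] V) = W := fun l => by
    obtain ⟨-, -, -, h, -⟩ := l.2
    exact h.1
  let f : leviD F N ⊤ W W' →* GL (Fin k) K :=
    (glE b).toMonoidHom.comp ((resHom F.iso.subtype W).comp
      { toFun := fun l => ⟨l, hst l⟩
        map_one' := rfl
        map_mul' := fun _ _ => rfl })
  have hf : ∀ l : leviD F N ⊤ W W', f l = glE b (res (F.iso.subtype l) W (hst l)) := fun l => rfl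
  have hR : f.range.comap (Matrix.SpecialLinearGroup.toGL : Matrix.SpecialLinearGroup (Fin k) K →* GL (Fin k) K) = ⊤ := by
    rw [eq_top_iff, ← Cfsg.Agent.LieClassical.SLGen.closure_transvections, Subgroup.closure_le]
    rintro A ⟨i, j, hij, c, rfl⟩
    obtain ⟨l, hl, hlv⟩ := exists_root_opp F hN hW hW' b b' hb hij c
    refine ⟨⟨l, hl⟩, ?_⟩
    rw [hf]
    ext m n
    rw [coe_glE, LinearMap.toMatrix_apply]
    have e1 : (res (F.iso.subtype l) W (hst ⟨l, hl⟩) : W →ₗ[K] W) (b n) = b n + (c * b.repr (b n) j) • b i := by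
      apply Subtype.ext
      exact hlv (b n)
    rw [e1, map_add, Finsupp.add_apply, map_smul, Finsupp.smul_apply, Basis.repr_self, Basis.repr_self, smul_eq_mul]
    change _ = ((1 : Matrix (Fin k) (Fin k) K) + Matrix.single i j c) m n
    rw [Matrix.add_apply, Matrix.one_apply, Matrix.single_apply, Finsupp.single_apply, Finsupp.single_apply,
      Finsupp.single_apply]
    congr 1
    · by_cases h1 : n = m
      · rw [if_pos h1, if_pos h1.symm]
      · rw [if_neg h1, if_neg (Ne.symm h1)]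
    · by_cases h2 : n = j
      · by_cases h3 : i = m
        · rw [if_pos h2, if_pos h3, if_pos ⟨h3, h2.symm⟩, mul_one, mul_one]
        · rw [if_neg h3, mul_zero, if_neg (fun h => h3 h.1)]
      · rw [if_neg h2, mul_zero, zero_mul, if_neg (fun h => h2 h.2.symm)]
  have hd : Matrix.GeneralLinearGroup.det (glE b (res (F.iso.subtype g) W hgW)) = 1 := by
    rw [det_glE]
    exact (Subgroup.mem_bot).1 hdet
  let A : Matrix.SpecialLinearGroup (Fin k) K := ⟨(glE b (res (F.iso.subtype g) W hgW) : GL (Fin k) K), by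
    exact congrArg Units.val hd⟩
  have hA : (Matrix.SpecialLinearGroup.toGL A : GL (Fin k) K) = glE b (res (F.iso.subtype g) W hgW) := by
    apply Units.ext
    rfl
  have hAR : A ∈ f.range.comap (Matrix.SpecialLinearGroup.toGL : Matrix.SpecialLinearGroup (Fin k) K →* GL (Fin k) K) := by
    rw [hR]; trivial
  obtain ⟨l, hl⟩ := hAR
  have hl' : glE b (res (F.iso.subtype l) W (hst l)) = glE b (res (F.iso.subtype g) W hgW) := by
    rw [← hf, ← hA]
    exact hl
  have hl2 := (glE b).injective hl'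
  have hgl : g = l := by
    refine levi_unique F hW hW' h0 hg' l.2.2.1 (fun w hw => ?_) htriv l.2.2.2.1
    have := congrArg (fun e : W ≃ₗ[K] W => ((e ⟨w, hw⟩ : W) : V)) hl2
    exact this.symm
  rw [hgl]
  exact l.2.1

end Cfsg.Agent.H576.Ext
end

-- part: H576/Ext/SemiL
section
/-!
# Semisimilarities and Harish-Chandra induced characters (helper576, S4832)

* `hc_semi` : `F.hc c 1 (γ g γ⁻¹) = F.hc (c ∘ τ) 1 g`;
* `eq_one_of_fix` : a semisimilarity fixing a constituent of `F.hc c 1` on `N` has `τ = 1`;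
* `DOrth.mono`, `DIrr.mono`.
-/

set_option autoImplicit false

open scoped ComplexConjugate
open Cfsg

namespace Cfsg.Agent.H576.Ext

open Cfsg.Agent.H477.HC Cfsg.Agent.H53.HC Cfsg.Agent.Characters Cfsg.Agent.OddOrderCharacters.Clifford Module
  Cfsg.Agent.H477.HC.CForm MulAction

universe u v w

section Mono

variable {K : Type u} [Field K] [Finite K] {k : ℕ}

theorem DOrth.mono {D D' : Subgroup Kˣ} (h : D ≤ D') {c c' : GL (Fin k) K → ℂ} (hc : IsCharacter _ c)
    (hc' : IsCharacter _ c') (h0 : DOrth D c c') : DOrth D' c c' := by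
  classical
  intro _
  let _ : Fintype (DL D k) := Fintype.ofFinite _
  have hle : DL D k ≤ DL D' k := Subgroup.comap_mono h
  have hα : IsCharacter (DL D' k) (c ∘ (DL D' k).subtype) := Core.isCharacter_comp _ hc
  have hβ : IsCharacter (DL D' k) (c' ∘ (DL D' k).subtype) := Core.isCharacter_comp _ hc'
  have h1 : ∑ A : DL D k, c A * conj (c' A) = 0 := h0
  have h2 := classInner_eq_zero_of_comp (Subgroup.inclusion hle) hα hβ (by
    rw [Core.classInner_def]
    have : ∑ g : DL D k, ((c ∘ (DL D' k).subtype) ∘ (Subgroup.inclusion hle)) g *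
        conj (((c' ∘ (DL D' k).subtype) ∘ (Subgroup.inclusion hle)) g) = 0 := h1
    rw [this, mul_zero])
  rw [Core.classInner_def] at h2
  exact (mul_eq_zero.1 h2).resolve_left (inv_ne_zero Core.card_ne_zero_complex)

theorem DIrr.mono {D D' : Subgroup Kˣ} (h : D ≤ D') {c : GL (Fin k) K → ℂ} (hc : IsCharacter _ c)
    (h0 : DIrr D c) : DIrr D' c := by
  have hle : DL D k ≤ DL D' k := Subgroup.comap_mono h
  have hα : IsCharacter (DL D' k) (c ∘ (DL D' k).subtype) := Core.isCharacter_comp _ hc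
  exact CharactersDeep.MaxInduced.isIrr_of_comp (Subgroup.inclusion hle) hα h0

theorem fmap_irr (τ : K ≃+* K) {c : GL (Fin k) K → ℂ} (hc : IsIrrCharacter _ c) :
    IsIrrCharacter _ (fmap (τ : K →+* K) c) := by
  refine Core.isIrr_comp (Matrix.GeneralLinearGroup.map (τ : K →+* K)) (fun A => ?_) hc
  refine ⟨Matrix.GeneralLinearGroup.map (τ.symm : K →+* K) A, ?_⟩
  ext i j
  change τ (τ.symm _) = _
  rw [RingEquiv.apply_symm_apply]

end Mono

section Char

variable {G : Type u} [Group G] {Ω : Type v} [MulAction G Ω]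

/-- sums over fixed points of characters are characters -/
theorem isCharacter_orbSum [Fintype G] [Fintype Ω] (φ : G → Ω → ℂ)
    (hφ : ∀ (x g : G) (ω : Ω), φ (x * g * x⁻¹) (x • ω) = φ g ω)
    (hc : ∀ ω, IsCharacter (stabilizer G ω) (stabFun φ ω)) : IsCharacter G (orbSum φ) := by
  classical
  have hfin : Finite (orbitRel.Quotient G Ω) := Quotient.finite _
  let _ : Fintype (orbitRel.Quotient G Ω) := Fintype.ofFinite _
  let _ : ∀ X : orbitRel.Quotient G Ω, Fintype X.orbit := fun X => Fintype.ofFinite _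
  rw [orbSum_sigma φ]
  refine Core.isCharacter_sum _ fun X _ => ?_
  have : IsPretransitive G X.orbit := by
    refine ⟨fun a b => ?_⟩
    have ha : (Quotient.mk'' (a : Ω) : orbitRel.Quotient G Ω) = X := orbitRel.Quotient.mem_orbit.1 a.2
    have hb : (Quotient.mk'' (b : Ω) : orbitRel.Quotient G Ω) = X := orbitRel.Quotient.mem_orbit.1 b.2
    have h1 : (b : Ω) ∈ orbit G (a : Ω) := by
      rw [← orbitRel_apply]
      exact Quotient.exact (hb.trans ha.symm)
    obtain ⟨g, hg⟩ := h1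
    exact ⟨g, Subtype.ext hg⟩
  obtain ⟨ω₀, hω₀⟩ : X.orbit.Nonempty := orbitRel.Quotient.nonempty_orbit X
  rw [orbSum_eq_indFun (fun g (ω : X.orbit) => φ g ω) (fun x g ω => hφ x g ω) ⟨ω₀, hω₀⟩]
  refine Cfsg.Agent.S0148.result _ _ ?_
  let f : stabilizer G (⟨ω₀, hω₀⟩ : X.orbit) →* stabilizer G ω₀ :=
    { toFun := fun g => ⟨g, by
        have := g.2
        rw [mem_stabilizer_iff, Subtype.ext_iff] at this
        exact mem_stabilizer_iff.2 this⟩
      map_one' := rfl
      map_mul' := fun _ _ => rfl }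
  exact Core.isCharacter_comp f (hc ω₀)

/-- characters with a common constituent -/
theorem inner_ne_zero_of_common [Fintype G] {α β θ : G → ℂ} (hα : IsCharacter G α) (hβ : IsCharacter G β)
    (hθ : IsIrrCharacter G θ) (h1 : classInner α θ ≠ 0) (h2 : classInner β θ ≠ 0) : classInner α β ≠ 0 := by
  classical
  have ha := isCharacter_sub_irr hα hθ h1
  have hb := isCharacter_sub_irr hβ hθ h2
  obtain ⟨a, ha'⟩ := Core.classInner_isNat ha hb
  obtain ⟨b, hb'⟩ := Core.classInner_isNat ha (Core.isIrr_isCharacter hθ)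
  obtain ⟨c, hc'⟩ := Core.classInner_isNat (Core.isIrr_isCharacter hθ) hb
  have h3 : classInner α β = a + b + c + 1 := by
    have e1 : α = (α - θ) + θ := by abel
    have e2 : β = (β - θ) + θ := by abel
    rw [e1, e2, Core.classInner_add_left, Core.classInner_add_right, Core.classInner_add_right, ha', hb', hc',
      Core.classInner_irr_self hθ]
    ring
  rw [h3]
  exact_mod_cast (by omega : a + b + c + 1 ≠ 0)

end Char

variable {K : Type u} [Field K] {V : Type v} [AddCommGroup V] [Module K V] (F : CForm K V)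

/-- `F.hc c 1` is a character of `N` -/
theorem isCharacter_hc' [Finite K] [FiniteDimensional K V] [Finite V] {k : ℕ} [Fintype (F.Om k)] (N : Subgroup F.iso)
    {c : GL (Fin k) K → ℂ} (hc : IsCharacter _ c) : IsCharacter N (fun n : N => F.hc c (fun _ _ => 1) n) := by
  classical
  letI := omAct F N k
  have hG : Finite (V ≃ₗ[K] V) := Finite.of_injective (fun e : V ≃ₗ[K] V => (e : V → V)) DFunLike.coe_injective
  let _ : Fintype N := Fintype.ofFinite _
  have e : (fun n : N => F.hc c (fun _ _ => 1) n) = orbSum (lt F N c) := funext fun n => hc_eq_orbSum' F N c n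
  rw [e]
  exact isCharacter_orbSum (lt F N c) (lt_conj F N (Core.isCharacter_isClassFunction hc)) (isCharacter_stabFun F N hc)

/-- the image of a subspace under a semilinear bijection -/
def smap (τ : K ≃+* K) (γ : V ≃+ V) (hγ : ∀ (a : K) (v : V), γ (a • v) = τ a • γ v) (W : Submodule K V) :
    Submodule K V where
  carrier := γ '' W
  zero_mem' := ⟨0, W.zero_mem, map_zero γ⟩
  add_mem' := by
    rintro _ _ ⟨a, ha, rfl⟩ ⟨b, hb, rfl⟩
    exact ⟨a + b, W.add_mem ha hb, map_add γ a b⟩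
  smul_mem' := by
    rintro c _ ⟨a, ha, rfl⟩
    exact ⟨τ.symm c • a, W.smul_mem _ ha, by rw [hγ, RingEquiv.apply_symm_apply]⟩

theorem mem_smap {τ : K ≃+* K} {γ : V ≃+ V} {hγ : ∀ (a : K) (v : V), γ (a • v) = τ a • γ v} {W : Submodule K V}
    {v : V} : γ v ∈ smap τ γ hγ W ↔ v ∈ W := by
  constructor
  · rintro ⟨w, hw, h⟩
    rw [← γ.injective h]
    exact hw
  · intro h
    exact ⟨v, h, rfl⟩

theorem smap_injective (τ : K ≃+* K) (γ : V ≃+ V) (hγ : ∀ (a : K) (v : V), γ (a • v) = τ a • γ v) :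
    Function.Injective (smap τ γ hγ) := by
  intro W W' h
  ext v
  rw [← mem_smap (τ := τ) (hγ := hγ), h, mem_smap]

theorem finrank_smap [Finite K] [Finite V] (τ : K ≃+* K) (γ : V ≃+ V)
    (hγ : ∀ (a : K) (v : V), γ (a • v) = τ a • γ v) (W : Submodule K V) :
    finrank K (smap τ γ hγ W) = finrank K W := by
  have h1 : Nat.card (smap τ γ hγ W) = Nat.card W := by
    refine (Nat.card_congr (Equiv.ofBijective (fun w : W => (⟨γ w, w, w.2, rfl⟩ : smap τ γ hγ W)) ⟨?_, ?_⟩)).symm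
    · intro a b h
      exact Subtype.ext (γ.injective (congrArg Subtype.val h))
    · rintro ⟨_, w, hw, rfl⟩
      exact ⟨⟨w, hw⟩, rfl⟩
  have h2 : Nat.card (smap τ γ hγ W) = Nat.card K ^ finrank K (smap τ γ hγ W) := Module.natCard_eq_pow_finrank
  have h3 : Nat.card W = Nat.card K ^ finrank K W := Module.natCard_eq_pow_finrank
  rw [h2, h3] at h1
  exact Nat.pow_right_injective (Finite.one_lt_card (α := K)) h1

/-- **semisimilarities** -/
theorem hc_semi [Finite K] [FiniteDimensional K V] [Finite V] {k : ℕ} [Fintype (F.Om k)] {c : GL (Fin k) K → ℂ}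
    (hc : IsClassFunction _ c) (τ : K ≃+* K) (γ : V ≃+ V) (hγ : ∀ (a : K) (v : V), γ (a • v) = τ a • γ v)
    (hB : ∀ v w, F.B (γ v) (γ w) = 0 ↔ F.B v w = 0) (hQ : ∀ v, F.Q (γ v) = 0 ↔ F.Q v = 0) (g g' : F.iso)
    (h : ∀ v, (g' : V ≃ₗ[K] V) (γ v) = γ ((g : V ≃ₗ[K] V) v)) :
    F.hc c (fun _ _ => 1) g' = F.hc (fmap (τ : K →+* K) c) (fun _ _ => 1) g := by
  classical
  have hmem : ∀ W ∈ F.Om k, smap τ γ hγ W ∈ F.Om k := by
    rintro W ⟨⟨h1, h2⟩, h3⟩
    refine ⟨⟨?_, ?_⟩, by rw [finrank_smap, h3]⟩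
    · rintro _ ⟨w, hw, rfl⟩
      exact (hQ w).2 (h1 w hw)
    · rintro _ ⟨w, hw, rfl⟩ _ ⟨w', hw', rfl⟩
      exact (hB w w').2 (h2 w hw w' hw')
  let e : F.Om k → F.Om k := fun W => ⟨smap τ γ hγ W.1, hmem W.1 W.2⟩
  have he : Function.Bijective e := by
    rw [← Finite.injective_iff_bijective]
    intro W W' hW
    exact Subtype.ext (smap_injective τ γ hγ (congrArg Subtype.val hW))
  unfold CForm.hc
  rw [← (Equiv.ofBijective e he).sum_comp]
  refine Finset.sum_congr rfl fun W _ => ?_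
  rw [mul_one, mul_one]
  change flagTerm F.iso.subtype c g' (smap τ γ hγ W.1) = flagTerm F.iso.subtype (fmap (τ : K →+* K) c) g W.1
  have hinv : (smap τ γ hγ W.1).map (F.iso.subtype g' : V →ₗ[K] V) = smap τ γ hγ W.1 ↔
      W.1.map (F.iso.subtype g : V →ₗ[K] V) = W.1 := by
    have e1 : (smap τ γ hγ W.1).map (F.iso.subtype g' : V →ₗ[K] V) =
        smap τ γ hγ (W.1.map (F.iso.subtype g : V →ₗ[K] V)) := by
      ext v
      constructor
      · rintro ⟨_, ⟨w, hw, rfl⟩, rfl⟩
        exact ⟨(g : V ≃ₗ[K] V) w, ⟨w, hw, rfl⟩, (h w).symm⟩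
      · rintro ⟨_, ⟨w, hw, rfl⟩, rfl⟩
        exact ⟨γ w, ⟨w, hw, rfl⟩, h w⟩
    rw [e1]
    exact (smap_injective τ γ hγ).eq_iff
  have hc' : IsClassFunction _ (fmap (τ : K →+* K) c) := fun x y => by
    change c (Matrix.GeneralLinearGroup.map (τ : K →+* K) (y * x * y⁻¹)) = c (Matrix.GeneralLinearGroup.map (τ : K →+* K) x)
    rw [map_mul, map_mul, map_inv]
    exact hc _ _
  by_cases h1 : W.1.map (F.iso.subtype g : V →ₗ[K] V) = W.1
  · have h1' := hinv.2 h1
    let b : Basis (Fin k) K W.1 := finBasisOfFinrankEq K W.1 W.2.2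
    let b'v : Fin k → smap τ γ hγ W.1 := fun i => ⟨γ (b i), b i, (b i).2, rfl⟩
    have hli : LinearIndependent K b'v := by
      rw [Fintype.linearIndependent_iff]
      intro a ha i
      have h2 : γ (∑ j, τ.symm (a j) • (b j : V)) = 0 := by
        rw [map_sum]
        have h3 := congrArg Subtype.val ha
        rw [Submodule.coe_sum] at h3
        rw [← Submodule.coe_zero (p := smap τ γ hγ W.1), ← h3]
        refine Finset.sum_congr rfl fun j _ => ?_
        rw [hγ, RingEquiv.apply_symm_apply]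
        rfl
      have h3 : ∑ j, τ.symm (a j) • b j = 0 := by
        apply Subtype.ext
        rw [Submodule.coe_sum, Submodule.coe_zero, ← (γ.map_eq_zero_iff).1 h2]
        rfl
      have h4 := Fintype.linearIndependent_iff.1 b.linearIndependent _ h3 i
      have := congrArg τ h4
      rwa [RingEquiv.apply_symm_apply, map_zero] at this
    let b' : Basis (Fin k) K (smap τ γ hγ W.1) := Basis.mk hli
      (by rw [hli.span_eq_top_of_card_eq_finrank' (by rw [Fintype.card_fin, finrank_smap, W.2.2])])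
    have hb' : ∀ i, ((b' i : smap τ γ hγ W.1) : V) = γ (b i) := fun i => by
      rw [Basis.mk_apply]
    rw [flagTerm_of F.iso.subtype _ h1', flagTerm_of F.iso.subtype _ h1, cl_eq hc b', cl_eq hc' b]
    change _ = c (Matrix.GeneralLinearGroup.map (τ : K →+* K) (glE b (res (F.iso.subtype g) W.1 h1)))
    congr 1
    ext i j
    rw [coe_glE, LinearMap.toMatrix_apply]
    change _ = τ ((glE b (res (F.iso.subtype g) W.1 h1) : Matrix (Fin k) (Fin k) K) i j)
    rw [coe_glE, LinearMap.toMatrix_apply]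
    have h5 : (res (F.iso.subtype g') (smap τ γ hγ W.1) h1' : smap τ γ hγ W.1 →ₗ[K] smap τ γ hγ W.1) (b' j) =
        ∑ m, τ (b.repr (res (F.iso.subtype g) W.1 h1 (b j)) m) • b' m := by
      apply Subtype.ext
      rw [Submodule.coe_sum]
      change (g' : V ≃ₗ[K] V) ((b' j : smap τ γ hγ W.1) : V) = _
      rw [hb', h]
      have h6 : (g : V ≃ₗ[K] V) (b j) = ∑ m, b.repr (res (F.iso.subtype g) W.1 h1 (b j)) m • (b m : V) := by
        have h7 := congrArg Subtype.val (b.sum_repr (res (F.iso.subtype g) W.1 h1 (b j)))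
        rw [Submodule.coe_sum] at h7
        exact h7.symm
      rw [h6, map_sum]
      refine Finset.sum_congr rfl fun m _ => ?_
      rw [hγ, ← hb']
      rfl
    rw [h5, map_sum, Finset.sum_apply']
    rw [Finset.sum_eq_single i]
    · rw [map_smul, Finsupp.smul_apply, Basis.repr_self, Finsupp.single_eq_same, smul_eq_mul, mul_one]
      rfl
    · intro m _ hm
      rw [map_smul, Finsupp.smul_apply, Basis.repr_self, Finsupp.single_eq_of_ne (Ne.symm hm), smul_zero]
    · intro h8; exact absurd (Finset.mem_univ _) h8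
  · have h1' := fun h2 => h1 (hinv.1 h2)
    unfold flagTerm
    rw [dif_neg h1, dif_neg h1']

/-- **no field automorphisms** -/
theorem eq_one_of_fix [Finite K] [FiniteDimensional K V] [Finite V] {k : ℕ} [Fintype (F.Om k)] (hk : 2 ≤ k)
    {N : Subgroup F.iso} [Fintype N] {D : Subgroup Kˣ} (hN : HasRoots F N) (hD : HasLevi F N D k)
    {c : GL (Fin k) K → ℂ} (hc : IsIrrCharacter _ c) (hcusp : _root_.Cfsg.Agent.H53.HC.IsCusp c) (τ : K ≃+* K)
    (h1 : DOrth D c (fmap (τ : K →+* K) c)) (h2 : DOrth D c (dualc F.σ (fmap (τ : K →+* K) c))) {θ : N → ℂ}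
    (hθ : IsIrrCharacter N θ) (h0 : classInner (fun n : N => F.hc c (fun _ _ => 1) n) θ ≠ 0)
    (γ : V ≃+ V) (hγ : ∀ (a : K) (v : V), γ (a • v) = τ a • γ v)
    (hB : ∀ v w, F.B (γ v) (γ w) = 0 ↔ F.B v w = 0) (hQ : ∀ v, F.Q (γ v) = 0 ↔ F.Q v = 0) (α : N ≃* N)
    (hα : ∀ (n : N) (v : V), ((α n : F.iso) : V ≃ₗ[K] V) (γ v) = γ (((n : F.iso) : V ≃ₗ[K] V) v))
    (hfix : ∀ n : N, θ (α n) = θ n) : False := by
  classical
  have hc' := fmap_irr τ hc
  have e1 : ∀ n : N, F.hc c (fun _ _ => 1) (α n) = F.hc (fmap (τ : K →+* K) c) (fun _ _ => 1) n := fun n =>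
    hc_semi F (Core.isIrr_isClassFunction hc) τ γ hγ hB hQ (n : F.iso) (α n : F.iso) (hα n)
  have e2 : classInner (fun n : N => F.hc (fmap (τ : K →+* K) c) (fun _ _ => 1) n) θ =
      classInner (fun n : N => F.hc c (fun _ _ => 1) n) θ := by
    rw [Core.classInner_def, Core.classInner_def]
    (with_reducible congr 1)
    rw [← Equiv.sum_comp α.toEquiv (fun n : N => F.hc c (fun _ _ => 1) n * conj (θ n))]
    refine Finset.sum_congr rfl fun n _ => ?_
    change _ = F.hc c (fun _ _ => 1) (α n) * conj (θ (α n))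
    rw [e1, hfix]
  refine inner_ne_zero_of_common (isCharacter_hc' F N (Core.isIrr_isCharacter hc))
    (isCharacter_hc' F N (Core.isIrr_isCharacter hc')) hθ h0 (by rw [e2]; exact h0) ?_
  rw [Core.classInner_def, hc_orth F hk hN hD hc hc' hcusp h1 h2, mul_zero]

end Cfsg.Agent.H576.Ext
end
end

-- part: H576/Ext/Row
section
prune_inst 0x2004004200100000180010200042945000010200000000080008400849a2422d0008010010000000100cc020010000001000104020000000000000000000000001000681480000020080000000010000000000000000000000000000000000004010000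
set_option linter.all false
open scoped Cfsg.Agent.FastGrp

-- part: H624/ExtCent
section
/-!
# Similitudes commuting with the root elements modulo scalars (helper624, S4832)

`scal_of_cent` : a similitude `s` with `s n = a(n) n s` for the root elements `n` is a scalar on every `W ∈ F.Om k`.
-/

set_option autoImplicit false

open scoped ComplexConjugate
open Cfsg

namespace Cfsg.Agent.H576.Ext

open Cfsg.Agent.H477.HC Cfsg.Agent.H53.HC Cfsg.Agent.Characters Module

universe u v w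

variable {K : Type u} [Field K] {V : Type v} [AddCommGroup V] [Module K V] (F : CForm K V)

/-- eigenvectors `x₀`, `x`, `x + x₀` have the same eigenvalue -/
theorem eig_eq {s : V ≃ₗ[K] V} {x₀ x : V} {z : K} (hx₀ : x₀ ≠ 0) (h0 : s x₀ = z • x₀) (hx : ∃ c : K, s x = c • x)
    (hxx : ∃ c : K, s (x + x₀) = c • (x + x₀)) : s x = z • x := by
  by_cases h : ∃ r : K, x = r • x₀
  · obtain ⟨r, rfl⟩ := h
    rw [map_smul, h0, smul_comm]
  · obtain ⟨c, hc⟩ := hx
    obtain ⟨d, hd⟩ := hxx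
    rw [map_add, h0, hc, smul_add] at hd
    have h1 : (c - d) • x = (d - z) • x₀ := by
      rw [sub_smul, sub_smul, sub_eq_sub_iff_add_eq_add, hd]
      abel
    have h2 : c - d = 0 := by
      by_contra hcd
      apply h
      exact ⟨(c - d)⁻¹ * (d - z), by rw [mul_smul, ← h1, smul_smul, inv_mul_cancel₀ hcd, one_smul]⟩
    rw [h2, zero_smul] at h1
    have h3 : d - z = 0 := (smul_eq_zero.1 h1.symm).resolve_right hx₀
    have h4 : c = z := by linear_combination h2 + h3
    rw [hc, h4]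

/-- for independent singular orthogonal `x`, `b`: `s x ∈ ⟨x, b⟩` -/
theorem cent_mem [FiniteDimensional K V] {N : Subgroup F.iso} (hN : HasRoots F N) (s : V ≃ₗ[K] V)
    (hs : ∀ n ∈ N, ∃ a : K, ∀ v, s ((n : V ≃ₗ[K] V) v) = a • (n : V ≃ₗ[K] V) (s v)) {x b : V} (hx : F.Sing x)
    (hb : F.Sing b) (hxb : F.B x b = 0) (hx0 : x ≠ 0) (hind : ∀ r : K, b ≠ r • x) :
    ∃ α β : K, s x = α • x + β • b := by
  classical
  have hbx := F.B_eq_zero hxb
  -- `w₀`
  have hbn : b ∉ (K ∙ x) := by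
    intro h
    obtain ⟨r, hr⟩ := Submodule.mem_span_singleton.1 h
    exact hind r hr.symm
  obtain ⟨f, hf, hf'⟩ := Submodule.exists_dual_map_eq_bot_of_notMem hbn inferInstance
  obtain ⟨w₀, hw₀⟩ := F.exists_dual f
  have hfx : f x = 0 := by
    have : f x ∈ (K ∙ x).map f := ⟨x, Submodule.mem_span_singleton_self x, rfl⟩
    rw [hf'] at this
    exact (Submodule.mem_bot K).1 this
  have h1 : F.B w₀ x = 0 := F.B_eq_zero (by rw [← hw₀]; exact hfx)
  have h2 : F.B w₀ b ≠ 0 := fun h => hf (by rw [hw₀]; exact F.B_eq_zero h)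
  obtain ⟨u, hu⟩ := F.exists_root hx hb hxb
  have huN : u ∈ N := hN x b hx hb hxb ⟨w₀, h1, h2⟩ u hu
  obtain ⟨a, ha⟩ := hs u huN
  have hux : (u : V ≃ₗ[K] V) x = x := by rw [hu, hxb, hx.2]; simp
  have hsx0 : s x ≠ 0 := fun h => hx0 (s.injective (h.trans (map_zero s).symm))
  have ha0 : a ≠ 0 := by
    rintro rfl
    have := ha x
    rw [zero_smul, hux] at this
    exact hsx0 this
  -- `(u - 1)² = 0`
  have hu2 : ∀ v, (u : V ≃ₗ[K] V) ((u : V ≃ₗ[K] V) v - v) = (u : V ≃ₗ[K] V) v - v := by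
    intro v
    have e1 : (u : V ≃ₗ[K] V) v - v = F.B v b • x - (F.ε⁻¹ * F.B v x) • b := by rw [hu]; abel
    rw [e1, hu]
    simp only [F.B_sub_left, F.B_smul_left, hxb, hbx, hx.2, hb.2, mul_zero, sub_zero, zero_smul, add_zero]
  have hy : s x = a • (u : V ≃ₗ[K] V) (s x) := by
    have := ha x
    rwa [hux] at this
  have hy' : (u : V ≃ₗ[K] V) (s x) = a⁻¹ • s x := by
    conv_rhs => rw [hy]
    rw [smul_smul, inv_mul_cancel₀ ha0, one_smul]
  have ha1 : a = 1 := by
    have h3 := hu2 (s x)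
    rw [hy', map_sub, map_smul, hy'] at h3
    have h4 : ((a⁻¹ - 1) * (a⁻¹ - 1)) • s x = 0 := by
      have : ((a⁻¹ - 1) * (a⁻¹ - 1)) • s x = (a⁻¹ • a⁻¹ • s x - a⁻¹ • s x) - (a⁻¹ • s x - s x) := by
        module
      rw [this, h3, sub_self]
    have h5 := (smul_eq_zero.1 h4).resolve_right hsx0
    have h6 : a⁻¹ = 1 := by
      have := mul_self_eq_zero.1 h5
      linear_combination this
    rwa [inv_eq_one] at h6
  have h7 := ha w₀
  rw [ha1, one_smul] at h7
  have h8 : s (F.B w₀ b • x) = F.B (s w₀) b • x - (F.ε⁻¹ * F.B (s w₀) x) • b := by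
    have e2 : F.B w₀ b • x = (u : V ≃ₗ[K] V) w₀ - w₀ := by rw [hu, h1]; simp
    rw [e2, map_sub, h7, hu]
    abel
  rw [map_smul] at h8
  refine ⟨(F.B w₀ b)⁻¹ * F.B (s w₀) b, -((F.B w₀ b)⁻¹ * (F.ε⁻¹ * F.B (s w₀) x)), ?_⟩
  have h9 : s x = (F.B w₀ b)⁻¹ • (F.B w₀ b • s x) := by rw [smul_smul, inv_mul_cancel₀ h2, one_smul]
  rw [h9, h8]
  module

theorem scal_of_cent [Finite K] [FiniteDimensional K V] [Finite V] {k : ℕ} (hk : 2 ≤ k) {N : Subgroup F.iso}
    (hN : HasRoots F N) (s : V ≃ₗ[K] V) {lam : K} (hlam : lam ≠ 0) (hB : ∀ v w, F.B (s v) (s w) = lam * F.B v w)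
    (hQ : ∀ v, F.Q (s v) = lam * F.Q v)
    (hs : ∀ n ∈ N, ∃ a : K, ∀ v, s ((n : V ≃ₗ[K] V) v) = a • (n : V ≃ₗ[K] V) (s v)) {W : Submodule K V}
    (hW : W ∈ F.Om k) : ∃ z : K, (∀ w ∈ W, s w = z • w) ∧ z * F.σ z = lam := by
  classical
  -- eigenvectors in members of `Om k`
  have hkerW : ∀ {W W' : Submodule K V}, W ∈ F.Om k → W' ∈ F.Om k → ∀ x ∈ W, ∃ b₂ ∈ W', b₂ ≠ 0 ∧ F.B x b₂ = 0 := by
    intro W W' hW hW' x hx
    let f : W' →ₗ[K] K := (F.lf x).comp W'.subtype
    have h1 : LinearMap.ker f ≠ ⊥ := by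
      intro h
      have h2 := LinearMap.finrank_range_add_finrank_ker f
      rw [h, finrank_bot, hW'.2, add_zero] at h2
      have h3 := Submodule.finrank_le (LinearMap.range f)
      rw [finrank_self] at h3
      omega
    obtain ⟨b, hb, hb0⟩ := Submodule.exists_mem_ne_zero_of_ne_bot h1
    exact ⟨b, b.2, fun h => hb0 (Subtype.ext h), F.B_eq_zero hb⟩
  have key : ∀ {W : Submodule K V}, W ∈ F.Om k → ∀ x ∈ W, ∃ c : K, s x = c • x := by
    intro W hW x hx
    by_cases hx0 : x = 0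
    · exact ⟨0, by rw [hx0, map_zero, smul_zero]⟩
    obtain ⟨W', hW', hopp⟩ := F.exists_opp hW
    have hdisj : ∀ y ∈ W, y ∈ W' → y = 0 := by
      intro y hy hy'
      have : y ∈ W ⊓ F.perp W' := ⟨hy, fun w hw => hW'.1.2 y hy' w hw⟩
      rw [hopp] at this
      exact (Submodule.mem_bot K).1 this
    -- `b₁ ∈ W`
    obtain ⟨b₁, hb₁, hind₁⟩ : ∃ b₁ ∈ W, ∀ r : K, b₁ ≠ r • x := by
      by_contra hcon
      push Not at hcon
      have h1 : W ≤ (K ∙ x) := by
        intro b hb
        obtain ⟨r, hr⟩ := hcon b hb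
        exact Submodule.mem_span_singleton.2 ⟨r, hr.symm⟩
      have h2 := Submodule.finrank_mono h1
      rw [hW.2, finrank_span_singleton hx0] at h2
      omega
    obtain ⟨b₂, hb₂, hb₂0, hxb₂⟩ := hkerW hW hW' x hx
    obtain ⟨α, β, h1⟩ := cent_mem F hN s hs (hW.1.sing hx) (hW.1.sing hb₁) (hW.1.2 x hx b₁ hb₁) hx0 hind₁
    obtain ⟨γ, δ, h2⟩ := cent_mem F hN s hs (hW.1.sing hx) (hW'.1.sing hb₂) hxb₂ hx0 (fun r hr => by
      apply hb₂0
      exact hdisj b₂ (by rw [hr]; exact W.smul_mem _ hx) hb₂)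
    have h3 : δ • b₂ = 0 := by
      apply hdisj
      · have : δ • b₂ = (α • x + β • b₁) - γ • x := by rw [← h1, h2]; abel
        rw [this]
        exact W.sub_mem (W.add_mem (W.smul_mem _ hx) (W.smul_mem _ hb₁)) (W.smul_mem _ hx)
      · exact W'.smul_mem _ hb₂
    exact ⟨γ, by rw [h2, h3, add_zero]⟩
  obtain ⟨W', hW', hopp⟩ := F.exists_opp hW
  obtain ⟨b, b', hbb'⟩ := CForm.exists_dual_basis (F := F) hW.2 hW'.2 hopp
  let i0 : Fin k := ⟨0, by omega⟩
  have hx₀0 : (b i0 : V) ≠ 0 := fun h => b.ne_zero i0 (Subtype.ext h)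
  obtain ⟨z, hz⟩ := key hW (b i0) (b i0).2
  have hzW : ∀ w ∈ W, s w = z • w := fun w hw =>
    eig_eq hx₀0 hz (key hW w hw) (key hW _ (W.add_mem hw (b i0).2))
  -- every singular vector is an eigenvector
  have hsing : ∀ y, F.Sing y → ∃ c : K, s y = c • y := by
    intro y hy
    by_cases hy0 : y = 0
    · exact ⟨0, by rw [hy0, map_zero, smul_zero]⟩
    have ts1 : ∀ v : V, F.Sing v → v ≠ 0 → (K ∙ v) ∈ F.Om 1 := fun v hv hv0 => by
      refine ⟨⟨fun w hw => ?_, fun w hw w' hw' => ?_⟩, finrank_span_singleton hv0⟩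
      · obtain ⟨a, rfl⟩ := Submodule.mem_span_singleton.1 hw
        rw [F.Q_smul, hv.1, mul_zero]
      · obtain ⟨a, rfl⟩ := Submodule.mem_span_singleton.1 hw
        obtain ⟨b, rfl⟩ := Submodule.mem_span_singleton.1 hw'
        rw [F.B_smul_left, F.B_smul_right, hv.2, mul_zero, mul_zero]
    obtain ⟨g, hg⟩ := F.trans_Om (ts1 _ (hW.1.sing (b i0).2) hx₀0) (ts1 y hy hy0)
    refine key (F.Om_map g W hW) y ?_
    have h1 : y ∈ (K ∙ (b i0 : V)).map (F.iso.subtype g : V →ₗ[K] V) := by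
      rw [hg]; exact Submodule.mem_span_singleton_self y
    refine Submodule.map_mono ?_ h1
    rw [Submodule.span_singleton_le_iff_mem]
    exact (b i0).2
  -- the eigenvalue on `W'`
  obtain ⟨b₂, hb₂, hb₂0, hxb₂⟩ := hkerW hW hW' (b i0) (b i0).2
  have hs₁ : F.Sing (b₂ + (b i0 : V)) := by
    have hbx := F.B_eq_zero hxb₂
    refine ⟨?_, ?_⟩
    · rw [F.Q_add, hW'.1.1 _ hb₂, hW.1.1 _ (b i0).2, hbx, F.T_zero]
      ring
    · rw [F.B_add_left, F.B_add_right, F.B_add_right, hW'.1.2 _ hb₂ _ hb₂, hbx, hxb₂, hW.1.2 _ (b i0).2 _ (b i0).2]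
      ring
  have hz₂ : s b₂ = z • b₂ := eig_eq hx₀0 hz (key hW' _ hb₂) (hsing _ hs₁)
  have hzW' : ∀ w ∈ W', s w = z • w := fun w hw =>
    eig_eq hb₂0 hz₂ (key hW' w hw) (key hW' _ (W'.add_mem hw hb₂))
  refine ⟨z, hzW, ?_⟩
  have h1 := hB (b i0) (b' i0)
  rw [hzW _ (b i0).2, hzW' _ (b' i0).2, F.B_smul_left, F.B_smul_right, hbb', if_pos rfl, mul_one, mul_one] at h1
  exact h1

end Cfsg.Agent.H576.Ext
end

-- part: H576/Ext/Row
section
/-!
# The row theorem for the classical groups (helper576, S4832)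

* `Sim F` : the linear similitudes with their multipliers; `simChar F c ν` : the extension of `F.hc c 1` to `Sim F`;
* `simAut` : `Sim F` acts on `S = N / scalars`;
* `ext_hc`, `ext_hc_sub` : the constituents of `F.hc c 1` in `Irr(S)` extend to their stabilisers.
-/

set_option autoImplicit false

open scoped ComplexConjugate
open Cfsg

namespace Cfsg.Agent.H576.Ext

open Cfsg.Agent.H477.HC Cfsg.Agent.H53.HC Cfsg.Agent.Characters Cfsg.Agent.OddOrderCharacters.Clifford Module
  Cfsg.Agent.H477.HC.CForm MulAction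

universe u v w

section Semi

variable {K : Type u} [Field K] {V : Type v} [AddCommGroup V] [Module K V] (F : CForm K V)

/-- the linear similitudes with their multipliers -/
def Sim : Subgroup ((V ≃ₗ[K] V) × Kˣ) where
  carrier := {s | (∀ v w, F.B (s.1 v) (s.1 w) = s.2 * F.B v w) ∧ ∀ v, F.Q (s.1 v) = s.2 * F.Q v}
  one_mem' := ⟨fun v w => by
      change F.B v w = ((1 : Kˣ) : K) * F.B v w
      rw [Units.val_one, one_mul], fun v => by
      change F.Q v = ((1 : Kˣ) : K) * F.Q v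
      rw [Units.val_one, one_mul]⟩
  mul_mem' := by
    rintro a b ⟨h1, h2⟩ ⟨h3, h4⟩
    refine ⟨fun v w => ?_, fun v => ?_⟩
    · rw [Prod.fst_mul, Prod.snd_mul, LinearEquiv.mul_apply, LinearEquiv.mul_apply, h1, h3, Units.val_mul, mul_assoc]
    · rw [Prod.fst_mul, Prod.snd_mul, LinearEquiv.mul_apply, h2, h4, Units.val_mul, mul_assoc]
  inv_mem' := by
    rintro a ⟨h1, h2⟩
    have key : ∀ v, a.1 (a.1⁻¹ v) = v := a.1.apply_symm_apply
    refine ⟨fun v w => ?_, fun v => ?_⟩
    · rw [Prod.fst_inv, Prod.snd_inv, Units.val_inv_eq_inv_val, eq_inv_mul_iff_mul_eq₀ a.2.ne_zero, ← h1, key, key]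
    · rw [Prod.fst_inv, Prod.snd_inv, Units.val_inv_eq_inv_val, eq_inv_mul_iff_mul_eq₀ a.2.ne_zero, ← h2, key]

/-- a similitude as a semisimilarity -/
def Sim.toSemi {F : CForm K V} (s : Sim F) : Semi F where
  τ := RingEquiv.refl K
  lam := (s.1.2 : K)
  hlam := s.1.2.ne_zero
  γ := s.1.1.toAddEquiv
  smul := fun a v => s.1.1.map_smul a v
  hB := s.2.1
  hQ := s.2.2

/-- the linear action of the similitudes -/
def simRho : Sim F →* (V ≃ₗ[K] V) := (MonoidHom.fst _ _).comp (Sim F).subtype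

/-- the multiplier -/
def simMu : Sim F →* Kˣ := (MonoidHom.snd _ _).comp (Sim F).subtype

/-- isometries are similitudes -/
def isoSim : F.iso →* Sim F where
  toFun g := ⟨((g : V ≃ₗ[K] V), 1), fun v w => by
      change F.B ((g : V ≃ₗ[K] V) v) ((g : V ≃ₗ[K] V) w) = ((1 : Kˣ) : K) * F.B v w
      rw [F.iso_B, Units.val_one, one_mul], fun v => by
      change F.Q ((g : V ≃ₗ[K] V) v) = ((1 : Kˣ) : K) * F.Q v
      rw [F.iso_Q, Units.val_one, one_mul]⟩
  map_one' := rfl
  map_mul' := fun g h => by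
    apply Subtype.ext
    refine Prod.ext rfl ?_
    change (1 : Kˣ) = 1 * 1
    rw [one_mul]

theorem isoSim_injective : Function.Injective (isoSim F) := fun g h e =>
  Subtype.ext (congrArg (fun s : Sim F => s.1.1) e)

theorem Om_map_sim {k : ℕ} (s : Sim F) (W : Submodule K V) (hW : W ∈ F.Om k) :
    W.map (simRho F s : V →ₗ[K] V) ∈ F.Om k := by
  refine ⟨⟨?_, ?_⟩, ?_⟩
  · rintro _ ⟨w, hw, rfl⟩
    exact (s.2.2 w).trans (by rw [hW.1.1 w hw, mul_zero])
  · rintro _ ⟨w, hw, rfl⟩ _ ⟨w', hw', rfl⟩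
    exact (s.2.1 w w').trans (by rw [hW.1.2 w hw w' hw', mul_zero])
  · rw [← hW.2]
    exact LinearEquiv.finrank_map_eq (simRho F s) W

/-- the action on the totally singular `k`-subspaces -/
@[reducible] def simAct (k : ℕ) : MulAction (Sim F) (F.Om k) := subAct (simRho F) (F.Om k) (Om_map_sim F)

/-- the local term -/
noncomputable def simTerm {k : ℕ} (c : GL (Fin k) K → ℂ) (ν : Kˣ →* ℂˣ) : Sim F → F.Om k → ℂ :=
  fun s W => flagTerm (simRho F) c s W.1 * ((ν (simMu F s)⁻¹ : ℂˣ) : ℂ)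

/-- the extension of `F.hc c 1` to the similitudes -/
noncomputable def simChar {k : ℕ} [Fintype (F.Om k)] (c : GL (Fin k) K → ℂ) (ν : Kˣ →* ℂˣ) : Sim F → ℂ :=
  letI := simAct F k; orbSum (simTerm F c ν)

theorem simTerm_conj {k : ℕ} {c : GL (Fin k) K → ℂ} (hc : IsClassFunction _ c) (ν : Kˣ →* ℂˣ) (x s : Sim F)
    (W : F.Om k) : letI := simAct F k; simTerm F c ν (x * s * x⁻¹) (x • W) = simTerm F c ν s W := by
  letI := simAct F k
  unfold simTerm
  congr 1
  · exact flagTerm_conj (simRho F) hc x s W.1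
  · congr 3
    simp only [map_mul, map_mul, map_inv, mul_comm (simMu F x), mul_inv_cancel_right]

theorem simChar_iso {k : ℕ} [Fintype (F.Om k)] (c : GL (Fin k) K → ℂ) (ν : Kˣ →* ℂˣ) (g : F.iso) :
    simChar F c ν (isoSim F g) = F.hc c (fun _ _ => 1) g := by
  classical
  letI := simAct F k
  unfold simChar hc orbSum
  refine Finset.sum_congr rfl fun W _ => ?_
  have e1 : flagTerm (simRho F) c (isoSim F g) W.1 = flagTerm F.iso.subtype c g W.1 := rfl
  have e2 : ((ν (simMu F (isoSim F g))⁻¹ : ℂˣ) : ℂ) = 1 := by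
    have : simMu F (isoSim F g) = 1 := rfl
    rw [this, inv_one, map_one, Units.val_one]
  split_ifs with h
  · unfold simTerm
    rw [e1, e2]
  · rw [mul_one]
    unfold flagTerm
    rw [dif_neg]
    intro h'
    exact h (Subtype.ext h')

theorem isCharacter_simChar [Finite K] [FiniteDimensional K V] [Finite V] {k : ℕ} [Fintype (F.Om k)]
    {c : GL (Fin k) K → ℂ} (hc : IsCharacter _ c) (ν : Kˣ →* ℂˣ) : IsCharacter (Sim F) (simChar F c ν) := by
  classical
  letI := simAct F k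
  have hG : Finite (V ≃ₗ[K] V) := Finite.of_injective (fun e : V ≃ₗ[K] V => (e : V → V)) DFunLike.coe_injective
  let _ : Fintype (Sim F) := Fintype.ofFinite _
  have hcf := Core.isCharacter_isClassFunction hc
  refine isCharacter_orbSum (simTerm F c ν) (simTerm_conj F hcf ν) fun W => ?_
  let b : Basis (Fin k) K W.1 := finBasisOfFinrankEq K W.1 W.2.2
  have hst : ∀ s : stabilizer (Sim F) W, (s : Sim F) ∈ stabW (simRho F) W.1 := fun s =>
    congrArg Subtype.val (mem_stabilizer_iff.1 s.2)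
  let f : stabilizer (Sim F) W →* GL (Fin k) K :=
    (glE b).toMonoidHom.comp ((resHom (simRho F) W.1).comp
      { toFun := fun s => ⟨s, hst s⟩
        map_one' := rfl
        map_mul' := fun _ _ => rfl })
  let l : stabilizer (Sim F) W →* ℂˣ := (ν.comp (invMonoidHom.comp (simMu F))).comp (stabilizer (Sim F) W).subtype
  have e : stabFun (simTerm F c ν) W = (c ∘ f) * (fun s => ((l s : ℂˣ) : ℂ)) := by
    ext s
    change flagTerm (simRho F) c (s : Sim F) W.1 * _ = c (f s) * _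
    ((conv => enter [@2, @5]; rw [flagTerm_of (simRho F) c (hst s)]); (conv => enter [@2, @5]; rw [cl_eq hcf b]))
    rfl
  rw [e]
  exact Core.isCharacter_mul (Core.isCharacter_comp f hc) (CharDeep.LinearChar.isCharacter_of_hom l)

theorem isIrr_simChar [Finite K] [FiniteDimensional K V] [Finite V] {k : ℕ} [Fintype (F.Om k)]
    {c : GL (Fin k) K → ℂ} (hc : IsIrrCharacter _ c) (hcusp : IsCusp c) (hdual : c ∘ F.iota k ≠ c) (ν : Kˣ →* ℂˣ)
    {W₀ : Submodule K V} (hW₀ : W₀ ∈ F.Om k) : IsIrrCharacter (Sim F) (simChar F c ν) := by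
  classical
  have hG : Finite (V ≃ₗ[K] V) := Finite.of_injective (fun e : V ≃ₗ[K] V => (e : V → V)) DFunLike.coe_injective
  let _ : Fintype F.iso := Fintype.ofFinite _
  refine CharactersDeep.MaxInduced.isIrr_of_comp (isoSim F) (isCharacter_simChar F (Core.isIrr_isCharacter hc) ν) ?_
  have e : simChar F c ν ∘ isoSim F = F.hc c (fun _ _ => 1) := funext fun g => simChar_iso F c ν g
  rw [e]
  exact F.isIrr_hc_one hc hcusp hdual hW₀

variable {F} {N : Subgroup F.iso}
  (hinv : ∀ (s : Semi F) (n : N), ∃ n' : N, ∀ v,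
    ((n' : F.iso) : V ≃ₗ[K] V) (s.γ v) = s.γ (((n : F.iso) : V ≃ₗ[K] V) v))

/-- conjugation by a semisimilarity on `N` -/
def cN (s : Semi F) : N →* N :=
  (s.conj.comp N.subtype).codRestrict N (fun n => by
    obtain ⟨n', hn'⟩ := hinv s n
    have := s.eq_conj hn'
    change s.conj (n : F.iso) ∈ N
    rw [← this]
    exact n'.2)

theorem cN_γ (s : Semi F) (n : N) (v : V) :
    (((cN hinv s n : N) : F.iso) : V ≃ₗ[K] V) (s.γ v) = s.γ (((n : F.iso) : V ≃ₗ[K] V) v) := s.conj_γ n v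

theorem cN_unique (s : Semi F) {n n' : N}
    (h : ∀ v, ((n' : F.iso) : V ≃ₗ[K] V) (s.γ v) = s.γ (((n : F.iso) : V ≃ₗ[K] V) v)) : n' = cN hinv s n :=
  Subtype.ext (s.eq_conj h)

theorem cN_injective (s : Semi F) : Function.Injective (cN hinv s) := by
  intro a b h
  apply Subtype.ext
  apply Subtype.ext
  ext v
  apply s.γ.injective
  simp only [← cN_γ hinv, ← cN_γ hinv, h]

variable {S : Type w} [Group S] (q : N →* S)
  (hker : ∀ n : N, q n = 1 ↔ ∃ a : K, ∀ v, ((n : F.iso) : V ≃ₗ[K] V) v = a • v)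

include hker

theorem q_cN_one (s : Semi F) {n : N} (h : q n = 1) : q (cN hinv s n) = 1 := by
  obtain ⟨a, ha⟩ := (hker n).1 h
  refine (hker _).2 ⟨s.τ a, fun v => ?_⟩
  obtain ⟨w, rfl⟩ := s.γ.surjective v
  rw [cN_γ, ha, s.smul]

theorem q_cN_congr (s : Semi F) {m n : N} (h : q m = q n) : q (cN hinv s m) = q (cN hinv s n) := by
  have h1 : q (m⁻¹ * n) = 1 := by simp only [map_mul, map_inv, h, inv_mul_cancel]
  have h2 := q_cN_one hinv q hker s h1
  simp only [map_mul, map_mul, map_inv, map_inv, inv_mul_eq_one] at h2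
  exact h2

omit hker in
theorem cN_mul (s t : Sim F) (n : N) : cN hinv (Sim.toSemi (s * t)) n = cN hinv (Sim.toSemi s) (cN hinv (Sim.toSemi t) n) := by
  symm
  refine cN_unique hinv _ fun v => ?_
  change (((cN hinv (Sim.toSemi s) (cN hinv (Sim.toSemi t) n) : N) : F.iso) : V ≃ₗ[K] V)
    ((Sim.toSemi s).γ ((Sim.toSemi t).γ v)) = (Sim.toSemi s).γ ((Sim.toSemi t).γ (((n : F.iso) : V ≃ₗ[K] V) v))
  rw [cN_γ, cN_γ]

omit hker in
theorem cN_sim_one (n : N) : cN hinv (Sim.toSemi (1 : Sim F)) n = n := by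
  symm
  exact cN_unique hinv _ fun v => rfl

variable (hq : Function.Surjective q)

include hq

/-- the action of the similitudes on `S` -/
theorem exists_simAut : ∃ π : Sim F →* MulAut S, ∀ (s : Sim F) (n : N), π s (q n) = q (cN hinv (Sim.toSemi s) n) := by
  classical
  choose r hr using hq
  let a : Sim F → S → S := fun s x => q (cN hinv (Sim.toSemi s) (r x))
  have ha : ∀ (s : Sim F) (n : N), a s (q n) = q (cN hinv (Sim.toSemi s) n) := fun s n =>
    q_cN_congr hinv q hker _ (hr _)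
  clear_value a
  have hmul : ∀ (s : Sim F) (x y : S), a s (x * y) = a s x * a s y := by
    intro s x y
    obtain ⟨m, rfl⟩ : ∃ m, q m = x := ⟨r x, hr x⟩
    obtain ⟨n, rfl⟩ : ∃ n, q n = y := ⟨r y, hr y⟩
    simp only [← map_mul q m n, ha s (m * n), ha s m, ha s n, map_mul (cN hinv (Sim.toSemi s)) m n, map_mul q ((cN hinv (Sim.toSemi s)) m) ((cN hinv (Sim.toSemi s)) n)]
  have hcomp : ∀ (s t : Sim F) (x : S), a (s * t) x = a s (a t x) := by
    intro s t x
    obtain ⟨m, rfl⟩ : ∃ m, q m = x := ⟨r x, hr x⟩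
    simp only [ha, ha, ha, cN_mul]
  have hone : ∀ x : S, a 1 x = x := by
    intro x
    obtain ⟨m, rfl⟩ : ∃ m, q m = x := ⟨r x, hr x⟩
    simp only [ha, cN_sim_one]
  let π : Sim F →* MulAut S :=
    { toFun := fun s =>
        { toFun := a s
          invFun := a s⁻¹
          left_inv := fun x => by rw [← hcomp, inv_mul_cancel, hone]
          right_inv := fun x => by rw [← hcomp, mul_inv_cancel, hone]
          map_mul' := hmul s }
      map_one' := by
        ext x
        exact hone x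
      map_mul' := fun s t => by
        ext x
        exact hcomp s t x }
  exact ⟨π, ha⟩

end Semi

section Mono

variable {S : Type u} [Group S] [Finite S] {θ : S → ℂ}

theorem extTo_mono' (hθ : IsIrrCharacter S θ) {A B : Subgroup (MulAut S)} (hI : (MulAut.conj (G := S)).range ≤ A)
    (hAB : A ≤ B) (h : ExtTo θ B) : ExtTo θ A := by
  obtain ⟨ψ, hψ, he⟩ := h
  refine ⟨ψ ∘ Subgroup.inclusion hAB, ?_, fun s hs => he s _⟩
  let j : S →* A := (MulAut.conj (G := S)).codRestrict A (fun s => hI ⟨s, rfl⟩)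
  refine CharactersDeep.MaxInduced.isIrr_of_comp j (Core.isCharacter_comp _ (Core.isIrr_isCharacter hψ)) ?_
  have : (ψ ∘ Subgroup.inclusion hAB) ∘ j = θ := funext fun s => he s _
  rw [this]
  exact hθ

end Mono

section Row

variable {K : Type u} [Field K] {V : Type v} [AddCommGroup V] [Module K V] (F : CForm K V)

/-- **THE ROW THEOREM**, for a subgroup `A` of `Aut S` -/
theorem ext_hc_sub [Finite K] [FiniteDimensional K V] [Finite V] {k : ℕ} [Fintype (F.Om k)] (hk : 2 ≤ k)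
    {N : Subgroup F.iso} [Fintype N] (hNn : ∀ (s : Semi F) (n : N), ∃ n' : N, ∀ v,
      ((n' : F.iso) : V ≃ₗ[K] V) (s.γ v) = s.γ (((n : F.iso) : V ≃ₗ[K] V) v))
    {D : Subgroup Kˣ} (hN : HasRoots F N) (hD : HasLevi F N D k)
    {c : GL (Fin k) K → ℂ} (hc : IsIrrCharacter _ c) (hcusp : IsCusp c) (hdual : c ∘ F.iota k ≠ c)
    (hself : DIrr D c) (hopp : DOrth D c (dualc F.σ c))
    (hgen : ∀ τ : K ≃+* K, (∃ x, τ x ≠ x) → DOrth D c (fmap (τ : K →+* K) c) ∧
      DOrth D c (dualc F.σ (fmap (τ : K →+* K) c)))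
    (hnu : ∃ ν : Kˣ →* ℂˣ, ∀ (z : Kˣ) (A : GL (Fin k) K), c (Matrix.GeneralLinearGroup.scalar (Fin k) z * A) =
      (ν (z * Units.map (F.σ : K →* K) z) : ℂ) * c A)
    {S : Type w} [Group S] [Finite S] (hZ : Subgroup.center S = ⊥) (q : N →* S) (hq : Function.Surjective q)
    (hker : ∀ n : N, q n = 1 ↔ ∃ a : K, ∀ v, ((n : F.iso) : V ≃ₗ[K] V) v = a • v)
    (A : Subgroup (MulAut S)) (hI : (MulAut.conj (G := S)).range ≤ A)
    (hAut : ∀ α ∈ A, ∃ s : Semi F, ∀ n n' : N, (∀ v, ((n' : F.iso) : V ≃ₗ[K] V) (s.γ v) =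
      s.γ (((n : F.iso) : V ≃ₗ[K] V) v)) → α (q n) = q n')
    {θ : S → ℂ} (hθ : IsIrrCharacter S θ)
    (h0 : classInner (fun n : N => F.hc c (fun _ _ => 1) n) (fun n => θ (q n)) ≠ 0) : ExtTo θ (A ⊓ stab θ) := by
  classical
  have hG : Finite (V ≃ₗ[K] V) := Finite.of_injective (fun e : V ≃ₗ[K] V => (e : V → V)) DFunLike.coe_injective
  obtain ⟨ν, hν⟩ := hnu
  have hcf := Core.isIrr_isClassFunction hc
  have hθq : IsIrrCharacter N (fun n => θ (q n)) := Core.isIrr_comp q hq hθ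
  -- a totally singular subspace
  obtain ⟨W₀, hW₀⟩ : ∃ W, W ∈ F.Om k := by
    by_contra hno
    push Not at hno
    apply h0
    have : (fun n : N => F.hc c (fun _ _ => 1) n) = 0 := by
      ext n
      unfold CForm.hc
      exact Finset.sum_eq_zero fun W _ => absurd W.2 (hno W.1)
    rw [this, Core.classInner_zero_left]
  obtain ⟨π, hπ⟩ := exists_simAut hNn q hker hq
  -- the stabiliser lies in the image of the similitudes
  have hle : A ⊓ stab θ ≤ π.range ⊓ stab θ := by
    rintro α ⟨hαA, hαθ⟩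
    refine ⟨?_, hαθ⟩
    obtain ⟨s, hs⟩ := hAut α hαA
    have hs' : ∀ n : N, α (q n) = q (cN hNn s n) := fun n => hs n _ (fun v => cN_γ hNn s n v)
    by_cases hτ : ∃ x, s.τ x ≠ x
    · exfalso
      obtain ⟨g1, g2⟩ := hgen s.τ hτ
      let β : N ≃* N := MulEquiv.ofBijective (cN hNn s) (Finite.injective_iff_bijective.1 (cN_injective hNn s))
      refine eq_one_of_fix F hk hN hD hc hcusp s.τ g1 g2 hθq h0 s.γ s.smul (fun v w => ?_) (fun v => ?_) β
        (fun n v => cN_γ hNn s n v) fun n => ?_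
      · rw [s.hB, mul_eq_zero, map_eq_zero]
        exact ⟨fun h => h.resolve_left s.hlam, fun h => Or.inr h⟩
      · rw [s.hQ, mul_eq_zero, map_eq_zero]
        exact ⟨fun h => h.resolve_left s.hlam, fun h => Or.inr h⟩
      · change θ (q (cN hNn s n)) = θ (q n)
        rw [← hs']
        exact hαθ (q n)
    · push Not at hτ
      let g : V ≃ₗ[K] V :=
        { s.γ with
          map_smul' := fun a v => by
            change s.γ (a • v) = a • s.γ v
            rw [s.smul, hτ] }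
      have hg : ∀ v, g v = s.γ v := fun v => rfl
      let σ : Sim F := ⟨(g, Units.mk0 s.lam s.hlam), fun v w => by
        change F.B (s.γ v) (s.γ w) = s.lam * F.B v w
        rw [s.hB, hτ], fun v => by
        change F.Q (s.γ v) = s.lam * F.Q v
        rw [s.hQ, hτ]⟩
      refine ⟨σ, ?_⟩
      ext x
      obtain ⟨n, rfl⟩ := hq x
      simp only [hπ, hs']
      exact congrArg q (cN_unique hNn (Sim.toSemi σ) (n' := cN hNn s n) fun v => cN_γ hNn s n v).symm
  refine extTo_mono' hθ (le_inf hI ?_) hle ?_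
  · rintro _ ⟨s, rfl⟩ t
    exact Core.isIrr_isClassFunction hθ t s
  -- the group `N` in the similitudes
  let j : N →* Sim F := (isoSim F).comp N.subtype
  have hj : Function.Injective j := (isoSim_injective F).comp N.subtype_injective
  let e : N ≃* j.range := MonoidHom.ofInjective hj
  have he : ∀ n : N, ((e n : j.range) : Sim F) = j n := fun n => rfl
  refine extTo_of_hom hZ hθ π j.range (q.comp e.symm.toMonoidHom) (hq.comp e.symm.surjective) (fun m => ?_)
    (isIrr_simChar F hc hcusp hdual ν hW₀) (fun s hs => ?_) ?_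
  · obtain ⟨n, rfl⟩ := e.surjective m
    ext x
    obtain ⟨m, rfl⟩ := hq x
    change π (j n) (q m) = q (e.symm (e n)) * q m * (q (e.symm (e n)))⁻¹
    simp only [hπ, MulEquiv.symm_apply_apply, ← map_inv, ← map_mul, ← map_mul]
    refine congrArg q (Eq.symm (cN_unique hNn (Sim.toSemi (j n)) fun v => ?_))
    change (n : V ≃ₗ[K] V) ((m : V ≃ₗ[K] V) ((n⁻¹ : V ≃ₗ[K] V) ((n : V ≃ₗ[K] V) v))) = (n : V ≃ₗ[K] V) ((m : V ≃ₗ[K] V) v)
    have : (n⁻¹ : V ≃ₗ[K] V) ((n : V ≃ₗ[K] V) v) = v := (n : V ≃ₗ[K] V).symm_apply_apply v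
    rw [this]
  · -- the kernel
    have hcent : ∀ n ∈ N, ∃ a : K, ∀ v, s.1.1 ((n : V ≃ₗ[K] V) v) = a • (n : V ≃ₗ[K] V) (s.1.1 v) := by
      intro n hn
      have h1 := hπ s ⟨n, hn⟩
      simp only [hs] at h1
      change q ⟨n, hn⟩ = q (cN hNn (Sim.toSemi s) ⟨n, hn⟩) at h1
      have h2 : q ((⟨n, hn⟩ : N)⁻¹ * cN hNn (Sim.toSemi s) ⟨n, hn⟩) = 1 := by
        simp only [map_mul, map_inv, h1, inv_mul_cancel]
      obtain ⟨a, ha⟩ := (hker _).1 h2
      refine ⟨a, fun v => ?_⟩
      have h3 : (((cN hNn (Sim.toSemi s) ⟨n, hn⟩ : N) : F.iso) : V ≃ₗ[K] V) (s.1.1 v) = s.1.1 ((n : V ≃ₗ[K] V) v) :=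
        cN_γ hNn (Sim.toSemi s) ⟨n, hn⟩ v
      rw [← h3]
      have h4 := ha (s.1.1 v)
      have h5 : (n : V ≃ₗ[K] V) (((((⟨n, hn⟩ : N)⁻¹ * cN hNn (Sim.toSemi s) ⟨n, hn⟩ : N) : F.iso) : V ≃ₗ[K] V)
          (s.1.1 v)) = (((cN hNn (Sim.toSemi s) ⟨n, hn⟩ : N) : F.iso) : V ≃ₗ[K] V) (s.1.1 v) :=
        (n : V ≃ₗ[K] V).apply_symm_apply _
      rw [← h5, h4, map_smul]
    have hval : ∀ W : F.Om k, letI := simAct F k; s • W = W ∧ simTerm F c ν s W = c 1 := by
      intro W
      letI := simAct F k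
      obtain ⟨z, hz, hzl⟩ := scal_of_cent F hk hN s.1.1 s.1.2.ne_zero s.2.1 s.2.2 hcent W.2
      have hz0 : z ≠ 0 := by
        rintro rfl
        rw [zero_mul] at hzl
        exact s.1.2.ne_zero hzl.symm
      have hst : W.1.map (simRho F s : V →ₗ[K] V) = W.1 := map_eq_of_le (simRho F) fun w hw => by
        change s.1.1 w ∈ W.1
        rw [hz w hw]
        exact W.1.smul_mem _ hw
      refine ⟨Subtype.ext hst, ?_⟩
      unfold simTerm
      let b : Basis (Fin k) K W.1 := finBasisOfFinrankEq K W.1 W.2.2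
      have e1 : glE b (res (simRho F s) W.1 hst) = Matrix.GeneralLinearGroup.scalar (Fin k) (Units.mk0 z hz0) * 1 := by
        rw [mul_one]
        ext i l
        rw [coe_glE, LinearMap.toMatrix_apply]
        have e2 : (res (simRho F s) W.1 hst : W.1 →ₗ[K] W.1) (b l) = z • b l := Subtype.ext (hz _ (b l).2)
        rw [e2, map_smul, Finsupp.smul_apply, Basis.repr_self, smul_eq_mul, Matrix.GeneralLinearGroup.coe_scalar,
          Matrix.scalar_apply, Matrix.diagonal_apply, Finsupp.single_apply]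
        by_cases hil : i = l
        · simp [hil]
        · rw [if_neg hil, if_neg (Ne.symm hil), mul_zero]
      have e3 : simMu F s = Units.mk0 z hz0 * Units.map (F.σ : K →* K) (Units.mk0 z hz0) := by
        apply Units.ext
        exact hzl.symm
      rw [flagTerm_of (simRho F) c hst, cl_eq hcf b, e1, hν, e3, mul_comm _ (c 1), mul_assoc, ← Units.val_mul, ← map_mul,
        mul_inv_cancel, map_one, Units.val_one, mul_one]
    have hval1 : ∀ W : F.Om k, letI := simAct F k; simTerm F c ν 1 W = c 1 := by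
      intro W
      unfold simTerm
      have hst : W.1.map (simRho F 1 : V →ₗ[K] V) = W.1 := Submodule.map_id _
      have e4 : res (simRho F 1) W.1 hst = 1 := by
        ext w
        rfl
      rw [flagTerm_of (simRho F) c hst, e4, cl_one hcf (finBasisOfFinrankEq K W.1 W.2.2), map_one (simMu F), inv_one,
        map_one, Units.val_one, mul_one]
    letI := simAct F k
    unfold simChar orbSum
    refine Finset.sum_congr rfl fun W _ => ?_
    rw [if_pos (hval W).1, if_pos (one_smul _ _), (hval W).2, hval1 W]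
  · intro _
    have h1 := hc_mf F hk hN hD hc hcusp hself hopp hθq h0
    (simp +singlePass only [← h1]; rewrite [Core.classInner_def]; simp only [Core.classInner_def]; simp only [Nat.card_congr e.toEquiv])
    congr 1
    symm
    refine Fintype.sum_equiv e.toEquiv _ _ fun n => ?_
    change _ = simChar F c ν (j n) * conj (θ (q (e.symm (e n))))
    simp only [MulEquiv.symm_apply_apply]
    congr 1
    exact (simChar_iso F c ν n).symm

/-- **THE ROW THEOREM.** -/
theorem ext_hc [Finite K] [FiniteDimensional K V] [Finite V] {k : ℕ} [Fintype (F.Om k)] (hk : 2 ≤ k)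
    {N : Subgroup F.iso} [Fintype N] (hNn : ∀ (s : Semi F) (n : N), ∃ n' : N, ∀ v,
      ((n' : F.iso) : V ≃ₗ[K] V) (s.γ v) = s.γ (((n : F.iso) : V ≃ₗ[K] V) v))
    {D : Subgroup Kˣ} (hN : HasRoots F N) (hD : HasLevi F N D k)
    {c : GL (Fin k) K → ℂ} (hc : IsIrrCharacter _ c) (hcusp : IsCusp c) (hdual : c ∘ F.iota k ≠ c)
    (hself : DIrr D c) (hopp : DOrth D c (dualc F.σ c))
    (hgen : ∀ τ : K ≃+* K, (∃ x, τ x ≠ x) → DOrth D c (fmap (τ : K →+* K) c) ∧
      DOrth D c (dualc F.σ (fmap (τ : K →+* K) c)))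
    (hnu : ∃ ν : Kˣ →* ℂˣ, ∀ (z : Kˣ) (A : GL (Fin k) K), c (Matrix.GeneralLinearGroup.scalar (Fin k) z * A) =
      (ν (z * Units.map (F.σ : K →* K) z) : ℂ) * c A)
    {S : Type w} [Group S] [Finite S] (hZ : Subgroup.center S = ⊥) (q : N →* S) (hq : Function.Surjective q)
    (hker : ∀ n : N, q n = 1 ↔ ∃ a : K, ∀ v, ((n : F.iso) : V ≃ₗ[K] V) v = a • v)
    (hAut : ∀ α : MulAut S, ∃ s : Semi F, ∀ n n' : N, (∀ v, ((n' : F.iso) : V ≃ₗ[K] V) (s.γ v) =
      s.γ (((n : F.iso) : V ≃ₗ[K] V) v)) → α (q n) = q n')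
    {θ : S → ℂ} (hθ : IsIrrCharacter S θ)
    (h0 : classInner (fun n : N => F.hc c (fun _ _ => 1) n) (fun n => θ (q n)) ≠ 0) : ExtTo θ (stab θ) := by
  have := ext_hc_sub F hk hNn hN hD hc hcusp hdual hself hopp hgen hnu hZ q hq hker ⊤ le_top (fun α _ => hAut α) hθ h0
  rwa [top_inf_eq] at this

end Row

end Cfsg.Agent.H576.Ext
end
end

-- part: H699/CusGBase
section
prune_inst 0x2004407162100000180580830060044400009000230000c9000840010923028540070106801000001c22400000000001100080420000000a000400000100000080000401400000000000000004000000000000000000000000000000000000000000000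
set_option linter.all false
open scoped Cfsg.Agent.FastGrp

/-!
# Cuspidal characters of `GL_k(K)` restricted to `DL D k` (helper699, S4832)

`K = F_q`, `[L : K] = k`, `D ≤ Kˣ`, `DL D k` the matrices of determinant in `D`.

* `CusG`, `GenAt` : cuspidal data with the Galois conditions;
* `dorth_psi`, `dirr_psi` : orthogonality, irreducibility on `DL D k` of the characters `psi L θ`;
* `fmap_psi`, `dualc_psi` : the action of field automorphisms and of the duality;
* `dorth_pow`, `dorth_pow_conj`, `dirr_pow` : the arithmetic forms for `θ = φ ^ a`, `φ` injective.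
-/

set_option autoImplicit false
set_option linter.unusedSectionVars false

open scoped ComplexConjugate
open Cfsg

namespace Cfsg.Agent.H576.Ext

open Cfsg.Agent.H477.HC Cfsg.Agent.H53.HC Cfsg.Agent.Characters Module

universe u

/-- a cuspidal datum with the Galois conditions -/
structure CusG (K : Type u) [Field K] (k : ℕ) (σ : K →+* K) (c : GL (Fin k) K → ℂ) : Prop where
  irr : IsIrrCharacter _ c
  cusp : IsCusp c
  dual : c ∘ ((Matrix.GeneralLinearGroup.map σ).comp (invT k)) ≠ c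
  deg : c 1 = ((∏ i ∈ Finset.Ico 1 k, (Nat.card K ^ i - 1) : ℕ) : ℂ)
  self : DIrr ⊥ c
  opp : 3 ≤ k → DOrth ⊥ c (dualc σ c)
  nu : ∃ ν : Kˣ →* ℂˣ, ∀ (z : Kˣ) (A : GL (Fin k) K),
    c (Matrix.GeneralLinearGroup.scalar (Fin k) z * A) = (ν (z * Units.map (σ : K →* K) z) : ℂ) * c A

/-- the Galois condition at `τ` and `D` -/
def GenAt (K : Type u) [Field K] (k : ℕ) (σ : K →+* K) (D : Subgroup Kˣ) (τ : K ≃+* K) (c : GL (Fin k) K → ℂ) : Prop :=
  DOrth D c (fmap (τ : K →+* K) c) ∧ DOrth D c (dualc σ (fmap (τ : K →+* K) c))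

end Cfsg.Agent.H576.Ext

namespace Cfsg.Agent.H699.CusG

open Cfsg.Agent.H477.HC Cfsg.Agent.H53.HC Cfsg.Agent.H53.HC.Gal Cfsg.Agent.Characters Module
open Cfsg.Agent.H139.Cusp Cfsg.Agent.H576.Ext

universe u w

attribute [local instance] fintypeHom fintypeSub finite_quot

section basic

variable {K : Type u} [Field K] [Finite K]

/-- the subgroup `D` of the cyclic group `Kˣ` -/
theorem mem_iff_pow (D : Subgroup Kˣ) (z : Kˣ) : z ∈ D ↔ z ^ Nat.card D = 1 := by
  classical
  have : Fintype Kˣ := Fintype.ofFinite _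
  constructor
  · intro hz
    have h1 : (⟨z, hz⟩ : D) ^ Nat.card D = 1 := pow_card_eq_one'
    exact congrArg Subtype.val h1
  · intro hz
    let E : Finset Kˣ := Finset.univ.filter fun x => x ^ Nat.card D = 1
    have h1 : E.card ≤ Nat.card D := IsCyclic.card_pow_eq_one_le Nat.card_pos
    have : Fintype D := Fintype.ofFinite _
    let E' : Finset Kˣ := Finset.univ.filter fun x => x ∈ D
    have h2 : E'.card = Nat.card D := by
      rw [Nat.card_eq_fintype_card, Fintype.card_subtype]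
    have h3 : E' ⊆ E := by
      intro x hx
      rw [Finset.mem_filter] at hx ⊢
      have h4 : (⟨x, hx.2⟩ : D) ^ Nat.card D = 1 := pow_card_eq_one'
      exact ⟨Finset.mem_univ _, congrArg Subtype.val h4⟩
    have h4 : E' = E := Finset.eq_of_subset_of_card_le h3 (by rw [h2]; exact h1)
    have h5 : z ∈ E := Finset.mem_filter.2 ⟨Finset.mem_univ _, hz⟩
    rw [← h4, Finset.mem_filter] at h5
    exact h5.2

/-- the index of `D` -/
theorem index_mul_card (D : Subgroup Kˣ) : Nat.card D * D.index = Nat.card K - 1 := by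
  rw [Subgroup.card_mul_index, Nat.card_units]

theorem index_pos (D : Subgroup Kˣ) : 0 < D.index := Nat.pos_of_ne_zero Subgroup.index_ne_zero_of_finite

open Classical in
/-- orthogonality: the characters of `Kˣ` trivial on `D` -/
theorem sum_mu_D {μ : K →*₀ ℂ} (hμ : Function.Injective μ) (D : Subgroup Kˣ) (x : Kˣ) :
    ∑ a ∈ Finset.range D.index, μ (x : K) ^ (Nat.card D * (a + 1)) = if x ∈ D then (D.index : ℂ) else 0 := by
  have h0 : ∀ a, μ (x : K) ^ (Nat.card D * (a + 1)) = (μ (x : K) ^ Nat.card D) ^ (a + 1) := fun a => pow_mul _ _ _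
  split_ifs with h
  · have h1 : x ^ Nat.card D = 1 := (mem_iff_pow D x).1 h
    have h2 : μ (x : K) ^ Nat.card D = 1 := by
      rw [← map_pow, ← Units.val_pow_eq_pow_val, h1, Units.val_one, map_one]
    simp only [h0, h2, one_pow, Finset.sum_const, Finset.card_range, nsmul_eq_mul, mul_one]
  · have h1 : μ (x : K) ^ Nat.card D ≠ 1 := by
      intro e
      rw [← map_pow, ← Units.val_pow_eq_pow_val] at e
      apply h
      rw [mem_iff_pow]
      exact Units.ext (hμ (e.trans (map_one μ).symm))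
    have h2 : (μ (x : K) ^ Nat.card D) ^ D.index = 1 := by
      rw [← pow_mul, index_mul_card, ← Nat.card_units, ← map_pow, ← Units.val_pow_eq_pow_val, pow_card_eq_one',
        Units.val_one, map_one]
    have h3 := geom_sum_eq h1 D.index
    rw [h2, sub_self, zero_div] at h3
    simp only [h0, pow_succ]
    rw [← Finset.sum_mul, h3, zero_mul]

variable {n : ℕ}

theorem sum_DL {μ : K →*₀ ℂ} (hμ : Function.Injective μ) (D : Subgroup Kˣ) (H : GL (Fin n) K → ℂ)
    [Fintype (GL (Fin n) K)] [Fintype (DL D n)] :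
    ∑ a ∈ Finset.range D.index, ∑ g : GL (Fin n) K,
      μ (Matrix.det (g : Matrix (Fin n) (Fin n) K)) ^ (Nat.card D * (a + 1)) * H g =
    (D.index : ℂ) * ∑ A : DL D n, H A := by
  classical
  rw [Finset.sum_comm]
  have h1 : ∀ g : GL (Fin n) K, ∑ a ∈ Finset.range D.index,
      μ (Matrix.det (g : Matrix (Fin n) (Fin n) K)) ^ (Nat.card D * (a + 1)) * H g =
      if g ∈ DL D n then (D.index : ℂ) * H g else 0 := by
    intro g
    have h2 : Matrix.det (g : Matrix (Fin n) (Fin n) K) = (Matrix.GeneralLinearGroup.det g : Kˣ) := rfl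
    rw [← Finset.sum_mul, h2, sum_mu_D hμ D]
    have h3 : Matrix.GeneralLinearGroup.det g ∈ D ↔ g ∈ DL D n := Iff.rfl
    by_cases h : g ∈ DL D n
    · rw [if_pos (h3.2 h), if_pos h]
    · rw [if_neg (fun h' => h (h3.1 h')), if_neg h, zero_mul]
  rw [Finset.sum_congr rfl fun g _ => h1 g, ← Finset.sum_filter, Finset.mul_sum]
  symm
  refine Finset.sum_bij (fun A _ => (A : GL (Fin n) K)) ?_ ?_ ?_ ?_
  · intro A _
    exact Finset.mem_filter.2 ⟨Finset.mem_univ _, A.2⟩
  · intro A _ B _ h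
    exact Subtype.ext h
  · intro g hg
    exact ⟨⟨g, (Finset.mem_filter.1 hg).2⟩, Finset.mem_univ _, rfl⟩
  · intro A _
    rfl

end basic

section orth

variable {K : Type u} [Field K] [Finite K] {L : Type w} [Field L] [Finite L] [Algebra K L] {n : ℕ}

/-- the exponents of the twists -/
theorem expo_ne (D : Subgroup Kˣ) (a : ℕ) : Nat.card D * (a + 1) ≠ 0 :=
  mul_ne_zero Nat.card_pos.ne' (Nat.succ_ne_zero a)

open Classical in
/-- **inner products on `DL D n`** -/
theorem sum_psi (hn : Module.finrank K L = n) {μ : K →*₀ ℂ} (hμ : Function.Injective μ) (D : Subgroup Kˣ)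
    (θ θ' : L →*₀ ℂ) [Fintype (GL (Fin n) K)] [Fintype (DL D n)] :
    (D.index : ℂ) * ∑ A : DL D n, psi L θ (A : GL (Fin n) K) * conj (psi L θ' (A : GL (Fin n) K)) =
    ∑ a ∈ Finset.range D.index, (Nat.card (GL (Fin n) K) : ℂ) *
      (((Finset.range n).filter fun i => ∀ x : L, θ' x =
        (twist θ (powTheta μ (Nat.card D * (a + 1)) (expo_ne D a))) (x ^ Nat.card K ^ i)).card : ℂ) := by
  have : Finite ((Fin n → K) →ₗ[K] (Fin n → K)) := DFunLike.finite _
  have : Fintype ((Fin n → K) →ₗ[K] (Fin n → K))ˣ := Fintype.ofFinite _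
  rw [← sum_DL hμ D (fun g => psi L θ g * conj (psi L θ' g))]
  refine Finset.sum_congr rfl fun a _ => ?_
  have h1 := classInner_gl (n := n) (F := K) (twist θ (powTheta μ (Nat.card D * (a + 1)) (expo_ne D a))) θ'
  rw [cusp_inner _ _ (by rw [Module.finrank_fin_fun, hn]), hn, Core.classInner_def] at h1
  rw [← h1, ← mul_assoc, mul_inv_cancel₀ Core.card_ne_zero_complex, one_mul]
  refine Finset.sum_congr rfl fun g _ => ?_
  rw [psi_twist θ _ hn, powTheta_apply, mul_assoc]

/-- **Orthogonality on `DL D n`.** -/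
theorem dorth_psi (hn : Module.finrank K L = n) (D : Subgroup Kˣ) (θ θ' : L →*₀ ℂ)
    (h : ∀ i < n, ¬ ∀ x : L, (∃ d ∈ D, Algebra.norm K x = (d : K)) → θ' x = θ (x ^ Nat.card K ^ i)) :
    DOrth D (psi (n := n) (F := K) L θ) (psi L θ') := by
  classical
  intro _
  have : Finite (Matrix (Fin n) (Fin n) K) := inferInstance
  have : Finite (GL (Fin n) K) := inferInstance
  have : Fintype (GL (Fin n) K) := Fintype.ofFinite _
  obtain ⟨μ, hμ⟩ := exists_theta K
  have h1 := sum_psi hn hμ D θ θ'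
  have h2 : ∀ a ∈ Finset.range D.index, (Nat.card (GL (Fin n) K) : ℂ) *
      (((Finset.range n).filter fun i => ∀ x : L, θ' x =
        (twist θ (powTheta μ (Nat.card D * (a + 1)) (expo_ne D a))) (x ^ Nat.card K ^ i)).card : ℂ) = 0 := by
    intro a _
    have h3 : ((Finset.range n).filter fun i => ∀ x : L, θ' x =
        (twist θ (powTheta μ (Nat.card D * (a + 1)) (expo_ne D a))) (x ^ Nat.card K ^ i)) = ∅ := by
      rw [Finset.filter_eq_empty_iff]
      intro i hi h4
      refine h i (Finset.mem_range.1 hi) fun x hx => ?_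
      obtain ⟨d, hd, hxd⟩ := hx
      have h5 : μ (d : K) ^ Nat.card D = 1 := by
        rw [← map_pow, ← Units.val_pow_eq_pow_val, (mem_iff_pow D d).1 hd, Units.val_one, map_one]
      rw [h4 x, twist_apply, map_pow (Algebra.norm K), hxd, powTheta_apply, map_pow μ, ← pow_mul,
        mul_comm (Nat.card K ^ i), mul_assoc, pow_mul, h5, one_pow, mul_one]
    rw [h3, Finset.card_empty, Nat.cast_zero, mul_zero]
  rw [Finset.sum_eq_zero h2] at h1
  exact (mul_eq_zero.1 h1).resolve_left (Nat.cast_ne_zero.2 (index_pos D).ne')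

theorem card_DL (D : Subgroup Kˣ) (hn : 0 < n) : Nat.card (GL (Fin n) K) = Nat.card (DL D n) * D.index := by
  have h1 : Function.Surjective (Matrix.GeneralLinearGroup.det : GL (Fin n) K →* Kˣ) := by
    intro d
    let v : Fin n → K := fun i => if i = ⟨0, hn⟩ then (d : K) else 1
    have hv : (Matrix.diagonal v).det = d := by
      rw [Matrix.det_diagonal, Finset.prod_ite_eq']
      rw [if_pos (Finset.mem_univ _)]
    refine ⟨Matrix.GeneralLinearGroup.mkOfDetNeZero (Matrix.diagonal v) (by rw [hv]; exact d.ne_zero), ?_⟩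
    apply Units.ext
    exact hv
  have h2 : (DL D n).index = D.index := Subgroup.index_comap_of_surjective D h1
  rw [← h2, Subgroup.card_mul_index]

/-- **Irreducibility on `DL D n`.** -/
theorem dirr_psi (hn : Module.finrank K L = n) (hn0 : 0 < n) (D : Subgroup Kˣ) (θ : L →*₀ ℂ)
    (hirr : IsIrrCharacter _ (psi (n := n) (F := K) L θ))
    (h : ∀ i, 0 < i → i < n → ¬ ∀ x : L, (∃ d ∈ D, Algebra.norm K x = (d : K)) → θ x = θ (x ^ Nat.card K ^ i)) :
    DIrr D (psi (n := n) (F := K) L θ) := by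
  classical
  have : Finite (Matrix (Fin n) (Fin n) K) := inferInstance
  have : Finite (GL (Fin n) K) := inferInstance
  have : Fintype (GL (Fin n) K) := Fintype.ofFinite _
  have : Fintype (DL D n) := Fintype.ofFinite _
  obtain ⟨μ, hμ⟩ := exists_theta K
  have hch : IsCharacter (DL D n) (fun A => psi L θ (A : GL (Fin n) K)) :=
    Core.isCharacter_comp (DL D n).subtype (Core.isIrr_isCharacter hirr)
  refine Core.isIrr_of_classInner_self hch ?_
  have h1 := sum_psi hn hμ D θ θ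
  have hm := index_pos D
  have h2 : ∀ a ∈ Finset.range D.index, (Nat.card (GL (Fin n) K) : ℂ) *
      (((Finset.range n).filter fun i => ∀ x : L, θ x =
        (twist θ (powTheta μ (Nat.card D * (a + 1)) (expo_ne D a))) (x ^ Nat.card K ^ i)).card : ℂ) =
      if a = D.index - 1 then (Nat.card (GL (Fin n) K) : ℂ) else 0 := by
    intro a ha
    rw [Finset.mem_range] at ha
    have hpos : ∀ i, 0 < i → i < n → ¬ ∀ x : L, θ x =
        (twist θ (powTheta μ (Nat.card D * (a + 1)) (expo_ne D a))) (x ^ Nat.card K ^ i) := by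
      intro i hi0 hi h4
      refine h i hi0 hi fun x hx => ?_
      obtain ⟨d, hd, hxd⟩ := hx
      have h5 : μ (d : K) ^ Nat.card D = 1 := by
        rw [← map_pow, ← Units.val_pow_eq_pow_val, (mem_iff_pow D d).1 hd, Units.val_one, map_one]
      have h6 := h4 x
      rw [twist_apply, map_pow (Algebra.norm K), hxd, powTheta_apply, map_pow μ, ← pow_mul,
        mul_comm (Nat.card K ^ i), mul_assoc, pow_mul, h5, one_pow, mul_one] at h6
      exact h6
    split_ifs with hc
    · have h3 : ((Finset.range n).filter fun i => ∀ x : L, θ x =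
          (twist θ (powTheta μ (Nat.card D * (a + 1)) (expo_ne D a))) (x ^ Nat.card K ^ i)) = {0} := by
        ext i
        rw [Finset.mem_filter, Finset.mem_singleton, Finset.mem_range]
        constructor
        · rintro ⟨hi, h4⟩
          by_contra h0
          exact hpos i (Nat.pos_of_ne_zero h0) hi h4
        · rintro rfl
          refine ⟨hn0, fun x => ?_⟩
          rw [pow_zero, pow_one, twist_apply, powTheta_apply]
          by_cases hx : x = 0
          · rw [hx, map_zero, zero_mul]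
          · have h5 : Algebra.norm K x ≠ 0 := by
              rw [Ne, Algebra.norm_eq_zero_iff]
              exact hx
            have h6 : (Units.mk0 _ h5) ^ (Nat.card K - 1) = 1 := by
              rw [← Nat.card_units]
              exact pow_card_eq_one'
            have h7 : (Algebra.norm K x) ^ (Nat.card K - 1) = 1 := congrArg Units.val h6
            have h8 : Nat.card D * (a + 1) = Nat.card K - 1 := by
              rw [hc, Nat.sub_add_cancel hm, index_mul_card]
            rw [h8, ← map_pow, h7, map_one, mul_one]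
      rw [h3, Finset.card_singleton, Nat.cast_one, mul_one]
    · have h3 : ((Finset.range n).filter fun i => ∀ x : L, θ x =
          (twist θ (powTheta μ (Nat.card D * (a + 1)) (expo_ne D a))) (x ^ Nat.card K ^ i)) = ∅ := by
        rw [Finset.filter_eq_empty_iff]
        intro i hi h4
        rcases Nat.eq_zero_or_pos i with h0 | h0
        · subst h0
          -- the norm is surjective
          obtain ⟨γ, hγ⟩ := IsCyclic.exists_ofOrder_eq_natCard (α := Kˣ)
          obtain ⟨x, hx⟩ := FiniteField.norm_surjective K L (γ : K)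
          have hx0 : x ≠ 0 := by
            rintro rfl
            rw [Algebra.norm_zero] at hx
            exact γ.ne_zero hx.symm
          have h5 := h4 x
          rw [pow_zero, pow_one, twist_apply, powTheta_apply, hx] at h5
          have h6 : μ (γ : K) ^ (Nat.card D * (a + 1)) = 1 := by
            have h7 : θ x ≠ 0 := (map_ne_zero θ).2 hx0
            exact (mul_left_cancel₀ h7 ((mul_one _).trans h5)).symm
          rw [← map_pow, ← Units.val_pow_eq_pow_val] at h6
          have h7 : γ ^ (Nat.card D * (a + 1)) = 1 := Units.ext (hμ (h6.trans (map_one μ).symm))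
          have h8 := orderOf_dvd_of_pow_eq_one h7
          rw [hγ, Nat.card_units, ← index_mul_card D] at h8
          have h9 := Nat.le_of_dvd (Nat.succ_pos a) (Nat.dvd_of_mul_dvd_mul_left Nat.card_pos h8)
          exact hc (by omega)
        · exact hpos i h0 (Finset.mem_range.1 hi) h4
      rw [h3, Finset.card_empty, Nat.cast_zero, mul_zero]
  rw [Finset.sum_congr rfl h2, Finset.sum_ite_eq', if_pos (Finset.mem_range.2 (by omega)), card_DL D hn0,
    Nat.cast_mul, mul_comm (D.index : ℂ)] at h1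
  have h3 := mul_right_cancel₀ (Nat.cast_ne_zero.2 hm.ne') h1
  rw [Core.classInner_def]
  have h4 : ∑ A : DL D n, (fun A : DL D n => psi L θ (A : GL (Fin n) K)) A *
      conj ((fun A : DL D n => psi L θ (A : GL (Fin n) K)) A) = (Nat.card (DL D n) : ℂ) := h3
  rw [h4]
  exact inv_mul_cancel₀ Core.card_ne_zero_complex

end orth

section galois

variable {K : Type u} [Field K] [Finite K] {L : Type w} [Field L] [Finite L] [Algebra K L] {n : ℕ}

/-- field automorphisms -/
theorem fmap_psi (hn : Module.finrank K L = n) {p : ℕ} [Fact p.Prime] [CharP K p] {τ : K →+* K} {j : ℕ}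
    (hτ : ∀ x : K, τ x = x ^ p ^ j) (θ : L →*₀ ℂ) :
    fmap τ (psi (n := n) (F := K) L θ) = psi L (powTheta θ (p ^ j) (pow_pos (Fact.out : p.Prime).pos j).ne') := by
  funext A
  let τ' : K ≃+* K := RingEquiv.ofBijective τ (Finite.injective_iff_bijective.1 τ.injective)
  have hτ' : ∀ x : K, τ' x = x ^ p ^ j := hτ
  obtain ⟨σ, hσ, hστ⟩ := exists_ext (L := L) hτ'
  have h1 := cuspMat_semilinear hn hστ (θ := powTheta θ (p ^ j) (pow_pos (Fact.out : p.Prime).pos j).ne') (θ' := θ)
    (fun x => by rw [hσ, powTheta_apply, map_pow]) (A : Matrix (Fin n) (Fin n) K)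
  exact h1

/-- the duality -/
theorem dualc_psi (hn : Module.finrank K L = n) {p : ℕ} [Fact p.Prime] [CharP K p] {σ : K →+* K} {j : ℕ}
    (hσ : ∀ x : K, σ x = x ^ p ^ j) (θ : L →*₀ ℂ) :
    dualc σ (psi (n := n) (F := K) L θ) =
      psi L (conjTheta (powTheta θ (p ^ j) (pow_pos (Fact.out : p.Prime).pos j).ne')) := by
  funext A
  have h1 : dualc σ (psi (n := n) (F := K) L θ) A = fmap σ (psi (n := n) (F := K) L θ) (invT n A) := rfl
  rw [h1, fmap_psi hn hσ, psi_invT _ hn]
  exact cusp_star L _ _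

theorem dualc_psi_id (hn : Module.finrank K L = n) (θ : L →*₀ ℂ) :
    dualc (RingHom.id K) (psi (n := n) (F := K) L θ) = psi L (conjTheta θ) := by
  funext A
  have h1 : dualc (RingHom.id K) (psi (n := n) (F := K) L θ) A = psi (n := n) (F := K) L θ (invT n A) := rfl
  rw [h1, psi_invT _ hn]
  exact cusp_star L _ _

end galois

section arith

variable {K : Type u} [Field K] [Finite K] {L : Type w} [Field L] [Finite L] [Algebra K L] {n : ℕ}
  {φ : L →*₀ ℂ} (hφ : Function.Injective φ)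

/-- a generator of the elements of norm in `D` -/
theorem exists_gen (hn : Module.finrank K L = n) (D : Subgroup Kˣ) :
    ∃ x : Lˣ, (∃ d ∈ D, Algebra.norm K (x : L) = (d : K)) ∧ orderOf x * D.index = Nat.card K ^ n - 1 := by
  obtain ⟨γ, hγ⟩ := IsCyclic.exists_ofOrder_eq_natCard (α := Lˣ)
  have h5 : Algebra.norm K (γ : L) ≠ 0 := by
    rw [Ne, Algebra.norm_eq_zero_iff]
    exact γ.ne_zero
  have hc : Nat.card Lˣ = Nat.card K ^ n - 1 := by
    rw [Nat.card_units, Module.natCard_eq_pow_finrank (K := K), hn]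
  have hdvd : D.index ∣ Nat.card K ^ n - 1 := by
    have h1 : D.index ∣ Nat.card K - 1 := ⟨Nat.card D, by rw [mul_comm, index_mul_card]⟩
    have h2 : Nat.card K - 1 ∣ Nat.card K ^ n - 1 := by
      have := Nat.sub_dvd_pow_sub_pow (Nat.card K) 1 n
      rwa [one_pow] at this
    exact h1.trans h2
  refine ⟨γ ^ D.index, ⟨(Units.mk0 _ h5) ^ D.index, ?_, ?_⟩, ?_⟩
  · rw [mem_iff_pow, ← pow_mul, mul_comm, index_mul_card, ← Nat.card_units]
    exact pow_card_eq_one'
  · rw [Units.val_pow_eq_pow_val, map_pow, Units.val_pow_eq_pow_val, Units.val_mk0]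
  · rw [orderOf_pow_of_dvd (index_pos D).ne' (by rw [hγ, hc]; exact hdvd), hγ, hc, Nat.div_mul_cancel hdvd]

include hφ

/-- `M = |{x ∈ Lˣ : N x ∈ D}|` : the restrictions of `φ ^ a`, `φ ^ b` -/
theorem dorth_pow (hn : Module.finrank K L = n) (D : Subgroup Kˣ) {M : ℕ} (hM : M * D.index = Nat.card K ^ n - 1)
    {a b : ℕ} (ha : a ≠ 0) (hb : b ≠ 0) (h : ∀ i < n, ¬ (M : ℤ) ∣ (b : ℤ) - a * (Nat.card K : ℤ) ^ i) :
    DOrth D (psi (n := n) (F := K) L (powTheta φ a ha)) (psi L (powTheta φ b hb)) := by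
  refine dorth_psi hn D _ _ fun i hi h1 => h i hi ?_
  obtain ⟨x, hx, hox⟩ := exists_gen hn D
  have hoM : orderOf x = M := Nat.eq_of_mul_eq_mul_right (index_pos D) (hox.trans hM.symm)
  have h2 := h1 (x : L) hx
  rw [powTheta_apply, powTheta_apply, map_pow, ← pow_mul, ← map_pow, ← map_pow] at h2
  have h3 : x ^ b = x ^ (Nat.card K ^ i * a) := Units.ext (hφ h2)
  rw [pow_eq_pow_iff_modEq, hoM, Nat.modEq_iff_dvd] at h3
  have h4 : (b : ℤ) - a * (Nat.card K : ℤ) ^ i = -(((Nat.card K ^ i * a : ℕ) : ℤ) - (b : ℤ)) := by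
    push_cast; ring
  rw [h4, dvd_neg]
  exact h3

/-- the restrictions of `φ ^ a`, `conj φ ^ b` -/
theorem dorth_pow_conj (hn : Module.finrank K L = n) (D : Subgroup Kˣ) {M : ℕ}
    (hM : M * D.index = Nat.card K ^ n - 1)
    {a b : ℕ} (ha : a ≠ 0) (hb : b ≠ 0) (h : ∀ i < n, ¬ (M : ℤ) ∣ (b : ℤ) + a * (Nat.card K : ℤ) ^ i) :
    DOrth D (psi (n := n) (F := K) L (powTheta φ a ha)) (psi L (conjTheta (powTheta φ b hb))) := by
  refine dorth_psi hn D _ _ fun i hi h1 => h i hi ?_
  obtain ⟨x, hx, hox⟩ := exists_gen hn D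
  have hoM : orderOf x = M := Nat.eq_of_mul_eq_mul_right (index_pos D) (hox.trans hM.symm)
  have h2 := h1 (x : L) hx
  rw [conjTheta_apply, conj_theta_eq, powTheta_apply, powTheta_apply, map_pow, ← pow_mul, ← map_pow, ← map_pow,
    ← Units.val_inv_eq_inv_val, ← Units.val_pow_eq_pow_val, ← Units.val_pow_eq_pow_val] at h2
  have h3 : x⁻¹ ^ b = x ^ (Nat.card K ^ i * a) := Units.ext (hφ h2)
  have h4 : x ^ (b + Nat.card K ^ i * a) = 1 := by
    rw [pow_add, ← h3, inv_pow, mul_inv_cancel]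
  have h5 := orderOf_dvd_of_pow_eq_one h4
  rw [hoM] at h5
  have h6 : (b : ℤ) + a * (Nat.card K : ℤ) ^ i = ((b + Nat.card K ^ i * a : ℕ) : ℤ) := by
    push_cast; ring
  rw [h6]
  exact Int.natCast_dvd_natCast.2 h5

theorem dirr_pow (hn : Module.finrank K L = n) (hn0 : 0 < n) (D : Subgroup Kˣ) {M : ℕ}
    (hM : M * D.index = Nat.card K ^ n - 1) {a : ℕ} (ha : a ≠ 0)
    (h : ∀ i, 0 < i → i < n → ¬ (M : ℤ) ∣ (a : ℤ) - a * (Nat.card K : ℤ) ^ i) :
    DIrr D (psi (n := n) (F := K) L (powTheta φ a ha)) := by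
  have hM2 : (M : ℤ) ∣ ((Nat.card K ^ n - 1 : ℕ) : ℤ) := by
    rw [← hM]; exact Int.natCast_dvd_natCast.2 (dvd_mul_right _ _)
  have hirr : IsIrrCharacter _ (psi (n := n) (F := K) L (powTheta φ a ha)) := by
    refine psi_isIrr _ hn ((regular_powTheta_iff hφ ha hn).2 fun i hi0 hi h1 => h i hi0 hi ?_)
    have h2 : ((Nat.card K ^ n - 1 : ℕ) : ℤ) ∣ ((a * (Nat.card K ^ i - 1) : ℕ) : ℤ) := Int.natCast_dvd_natCast.2 h1
    have h3 : (a : ℤ) - a * (Nat.card K : ℤ) ^ i = -((a * (Nat.card K ^ i - 1) : ℕ) : ℤ) := by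
      have : 1 ≤ Nat.card K ^ i := Nat.one_le_pow _ _ Nat.card_pos
      push_cast [Nat.cast_sub this]; ring
    rw [h3, dvd_neg]
    exact hM2.trans h2
  refine dirr_psi hn hn0 D _ hirr fun i hi0 hi h1 => h i hi0 hi ?_
  obtain ⟨x, hx, hox⟩ := exists_gen hn D
  have hoM : orderOf x = M := Nat.eq_of_mul_eq_mul_right (index_pos D) (hox.trans hM.symm)
  have h2 := h1 (x : L) hx
  rw [powTheta_apply, powTheta_apply, map_pow, ← pow_mul, ← map_pow, ← map_pow] at h2
  have h3 : x ^ a = x ^ (Nat.card K ^ i * a) := Units.ext (hφ h2)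
  rw [pow_eq_pow_iff_modEq, hoM, Nat.modEq_iff_dvd] at h3
  have h4 : (a : ℤ) - a * (Nat.card K : ℤ) ^ i = -(((Nat.card K ^ i * a : ℕ) : ℤ) - (a : ℤ)) := by
    push_cast; ring
  rw [h4, dvd_neg]
  exact h3

end arith

end Cfsg.Agent.H699.CusG
end

-- part: H624/ExtOrthBase
section
prune_inst 0x12004405320000000000510900042145000019000030000c86008400809e20084020e0014900000080000805009000001000000421800000a000400000101208080400492480104260087008080000000000000000000000000000000000000000000000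
set_option linter.all false
open scoped Cfsg.Agent.FastGrp

/-!
# Orthogonal groups: the data of the row theorem (helper624, S4832)

* `IsQuad F` : the `CForm` `F` is the one of a quadratic form; `quadOf F h` : the quadratic form (`⇑ = F.Q`);
* `qE` : `commutator F.iso →* P (quadOf F h)`, surjective, with kernel the scalars;
* `hNn`, `aut_of_range` : semisimilarities;
* `exists_below` : constituents in `S` of `F.hc c 1`.
-/

set_option autoImplicit false

open scoped ComplexConjugate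
open Cfsg

namespace Cfsg.Agent.H624.ExtO

open Cfsg.Agent.H477.HC Cfsg.Agent.H53.HC Cfsg.Agent.Characters Module Cfsg.Agent.H576.Ext
  QuadraticMap Cfsg.Agent.LieClassical.OrthCore Cfsg.Agent.LieClassical.OrthTrans
  Cfsg.Agent.LieClassical.OrthSimple Cfsg.Agent.ClassicalGeometry.OrthSemi Cfsg.Agent.ClassicalGeometry.OrthAut1

universe u v w

variable {K : Type u} [Field K] {V : Type v} [AddCommGroup V] [Module K V] {F : CForm K V}

/-- the forms of quadratic type -/
structure IsQuad (F : CForm K V) : Prop where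
  σ : ∀ a, F.σ a = a
  B : ∀ u v, F.B u v = F.Q (u + v) - F.Q u - F.Q v

/-- the quadratic form -/
def quadOf (F : CForm K V) (h : IsQuad F) : QuadraticForm K V where
  toFun := F.Q
  toFun_smul a v := by rw [F.Q_smul, h.σ, smul_eq_mul]
  exists_companion' := ⟨LinearMap.mk₂ K F.B F.B_add_left F.B_smul_left F.B_add_right
    (fun c x y => by rw [F.B_smul_right, h.σ, smul_eq_mul]), fun x y => by
      rw [LinearMap.mk₂_apply, h.B]; ring⟩

theorem polar_quadOf (h : IsQuad F) (u v : V) : polar (quadOf F h) u v = F.B u v := by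
  rw [h.B]; rfl

theorem iso_eq (h : IsQuad F) : F.iso = O (quadOf F h) := by
  ext g
  rw [mem_O, F.mem_iso]
  refine ⟨fun hg v => hg.2 v, fun hg => ⟨fun u v => ?_, fun v => hg v⟩⟩
  have hg' : ∀ v, F.Q (g v) = F.Q v := hg
  rw [h.B, h.B, ← map_add, hg', hg', hg']

theorem map_comm (h : IsQuad F) : (commutator F.iso).map F.iso.subtype = ⁅O (quadOf F h), O (quadOf F h)⁆ := by
  rw [commutator_def, Subgroup.map_commutator, ← MonoidHom.range_eq_map, Subgroup.range_subtype, iso_eq h]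

theorem mem_E (h : IsQuad F) (hG : Good (quadOf F h)) (n : commutator F.iso) :
    ((n : F.iso) : V ≃ₗ[K] V) ∈ E (quadOf F h) := by
  rw [← hG.commutator_eq_E, ← map_comm h]
  exact ⟨n, n.2, rfl⟩

/-- `commutator F.iso → E Q` -/
def toE (h : IsQuad F) (hG : Good (quadOf F h)) : commutator F.iso →* ↥(E (quadOf F h)) :=
  (F.iso.subtype.comp (commutator F.iso).subtype).codRestrict _ (mem_E h hG)

theorem toE_apply (h : IsQuad F) (hG : Good (quadOf F h)) (n : commutator F.iso) (v : V) :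
    (toE h hG n : V ≃ₗ[K] V) v = ((n : F.iso) : V ≃ₗ[K] V) v := rfl

theorem toE_surjective (h : IsQuad F) (hG : Good (quadOf F h)) : Function.Surjective (toE h hG) := by
  rintro ⟨e, he⟩
  have he' := he
  rw [← hG.commutator_eq_E, ← map_comm h] at he'
  obtain ⟨n, hn, rfl⟩ := he'
  exact ⟨⟨n, hn⟩, rfl⟩

/-- `commutator F.iso → E Q / Z(E Q)` -/
def qE (h : IsQuad F) (hG : Good (quadOf F h)) : commutator F.iso →* P (quadOf F h) :=
  (QuotientGroup.mk' _).comp (toE h hG)

theorem qE_apply (h : IsQuad F) (hG : Good (quadOf F h)) (n : commutator F.iso) :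
    qE h hG n = QuotientGroup.mk (toE h hG n) := rfl

theorem qE_surjective (h : IsQuad F) (hG : Good (quadOf F h)) : Function.Surjective (qE h hG) :=
  (QuotientGroup.mk'_surjective _).comp (toE_surjective h hG)

theorem qE_ker (h : IsQuad F) (hG : Good (quadOf F h)) (n : commutator F.iso) :
    qE h hG n = 1 ↔ ∃ a : K, ∀ v, ((n : F.iso) : V ≃ₗ[K] V) v = a • v := by
  rw [qE_apply, QuotientGroup.eq_one_iff]
  refine ⟨fun hn => ?_, ?_⟩
  · obtain ⟨a, ha⟩ := center_scalar hG hn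
    exact ⟨a, ha⟩
  · rintro ⟨a, ha⟩
    exact mem_center_of_scalar (c := a) ha

/-- a semisimilarity of `F` as a semisimilarity of the quadratic form -/
def toGam (h : IsQuad F) (s : Semi F) : Gam (quadOf F h) :=
  ⟨s.γ.toEquiv, s.τ, s.lam, ⟨s.hlam, fun u v => map_add s.γ u v, s.smul, s.hQ⟩⟩

/-- `N = commutator F.iso` is normalised by the semisimilarities -/
theorem hNn (h : IsQuad F) (hG : Good (quadOf F h)) (s : Semi F) (n : commutator F.iso) :
    ∃ n' : commutator F.iso, ∀ v, ((n' : F.iso) : V ≃ₗ[K] V) (s.γ v) = s.γ (((n : F.iso) : V ≃ₗ[K] V) v) := by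
  obtain ⟨n', hn'⟩ := toE_surjective h hG (conjE (quadOf F h) (toGam h s) (toE h hG n))
  refine ⟨n', fun v => ?_⟩
  rw [← toE_apply h hG, hn', coe_conjE]
  exact conjLin_apply' (toGam h s) (toE h hG n).1 v

/-- the centre of `P Q` is trivial -/
theorem center_P (h : IsQuad F) (hG : Good (quadOf F h)) : Subgroup.center (P (quadOf F h)) = ⊥ := by
  have hs := good_isSimpleGroup hG
  rcases hs.eq_bot_or_eq_top_of_normal _ (inferInstance : (Subgroup.center (P (quadOf F h))).Normal) with h1 | h1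
  · exact h1
  · exfalso
    -- `E Q` would be nilpotent
    have h2 : commutator (P (quadOf F h)) = ⊥ := by
      rw [commutator_def, Subgroup.commutator_eq_bot_iff_le_centralizer]
      intro x _
      rw [Subgroup.mem_centralizer_iff]
      intro y _
      have : y ∈ Subgroup.center (P (quadOf F h)) := by rw [h1]; trivial
      exact (Subgroup.mem_center_iff.1 this x).symm
    have h3 : commutator (P (quadOf F h)) = ⊤ := by
      have := commutator_E hG
      rw [commutator_def] at this ⊢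
      have h4 := congrArg (Subgroup.map (QuotientGroup.mk' (Subgroup.center ↥(E (quadOf F h))))) this
      rw [Subgroup.map_commutator, Subgroup.map_top_of_surjective _ (QuotientGroup.mk'_surjective _)] at h4
      exact h4
    rw [h2] at h3
    have h5 : Nontrivial (P (quadOf F h)) := hs.toNontrivial
    exact bot_ne_top h3

/-- **the automorphisms** -/
theorem aut_of_range (h : IsQuad F) (hG : Good (quadOf F h)) {α : MulAut (P (quadOf F h))}
    (hα : α ∈ (Psi (quadOf F h)).range) : ∃ s : Semi F, ∀ n n' : commutator F.iso,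
      (∀ v, ((n' : F.iso) : V ≃ₗ[K] V) (s.γ v) = s.γ (((n : F.iso) : V ≃ₗ[K] V) v)) →
      α (qE h hG n) = qE h hG n' := by
  obtain ⟨⟨M, σ, c, hM⟩, rfl⟩ := hα
  refine ⟨⟨σ, c, hM.ne, { M with map_add' := hM.add }, hM.smul, fun v w => ?_, hM.form⟩, fun n n' hn => ?_⟩
  · rw [← polar_quadOf h, ← polar_quadOf h]
    exact hM.polar v w
  · rw [qE_apply, qE_apply, Psi_mk]
    congr 1
    apply Subtype.ext
    rw [coe_conjE]
    ext v
    obtain ⟨w, rfl⟩ := M.surjective v
    rw [toE_apply]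
    exact (conjLin_apply' (Q := quadOf F h) ⟨M, σ, c, hM⟩ (toE h hG n).1 w).trans (hn w).symm

/-! ### constituents -/

section below

open Cfsg.Agent.H33

/-- an irreducible character trivial on the kernel of a surjection comes from the image -/
theorem exists_quot_hom {N : Type v} [Group N] [Finite N] {S : Type w} [Group S] [Finite S] (q : N →* S)
    (hq : Function.Surjective q) {θ : N → ℂ} (hθ : IsIrrCharacter N θ) (hz : ∀ z : N, q z = 1 → θ z = θ 1) :
    ∃ η : S → ℂ, IsIrrCharacter S η ∧ ∀ n : N, η (q n) = θ n := by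
  obtain ⟨η, hη, hη'⟩ := exists_quot q.ker hθ fun z hz' => hz z hz'
  let e := QuotientGroup.quotientKerEquivOfSurjective q hq
  refine ⟨η ∘ e.symm.toMonoidHom, Core.isIrr_comp _ e.symm.surjective hη, fun n => ?_⟩
  have h1 : e (n : N ⧸ q.ker) = q n := rfl
  change η (e.symm (q n)) = θ n
  rw [← h1, e.symm_apply_apply, hη']

/-- **descent to a normal subgroup**, with the inner product -/
theorem down_constituent' {I : Type u} [Group I] [Finite I] (N : Subgroup I) [N.Normal] {χ : I → ℂ}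
    (hχ : IsIrrCharacter I χ) {d : ℕ} (hd : χ 1 = d) :
    ∃ (θ : N → ℂ) (e : ℕ), IsIrrCharacter N θ ∧ θ 1 = e ∧ e ∣ d ∧ d / e ∣ N.index ∧ 0 < e ∧
      (∀ [Fintype N], classInner (fun n : N => χ n) θ ≠ 0) ∧
      ∀ z : N, z ∈ Subgroup.center N → χ z = χ 1 → θ z = θ 1 := by
  classical
  let _ : Fintype I := Fintype.ofFinite I
  let _ : Fintype N := Fintype.ofFinite N
  have hα : IsCharacter N (χ ∘ N.subtype) := Core.isCharacter_comp N.subtype (Core.isIrr_isCharacter hχ)
  obtain ⟨θ, hθ, hθ'⟩ := exists_constituent hα (by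
    rw [Function.comp_apply, map_one]; exact Core.isIrr_apply_one_ne_zero hχ)
  obtain ⟨e, he0, he⟩ := Core.isIrr_apply_one hθ
  obtain ⟨h3, h4⟩ := Cfsg.Agent.S0887.result N χ hχ θ hθ hθ' d e hd he
  refine ⟨θ, e, hθ, he, h3, h4, he0, fun {inst} => ?_, fun z hzc hzχ => ?_⟩
  · have e5 : inst = Fintype.ofFinite ↥N := Subsingleton.elim _ _
    rw [e5]
    exact hθ'
  obtain ⟨l, hl⟩ := central_mul hθ hzc
  -- `l = 1`
  have e0 : ∑ n : N, (χ ∘ N.subtype) n * conj (θ n) = conj l * ∑ n : N, (χ ∘ N.subtype) n * conj (θ n) := by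
    calc ∑ n : N, (χ ∘ N.subtype) n * conj (θ n)
        = ∑ n : N, (χ ∘ N.subtype) (n * z) * conj (θ (n * z)) :=
          (Equiv.sum_comp (Equiv.mulRight z) (fun n => (χ ∘ N.subtype) n * conj (θ n))).symm
      _ = _ := by
          rw [Finset.mul_sum]
          refine Finset.sum_congr rfl fun n _ => ?_
          have h5 : (χ ∘ N.subtype) (n * z) = (χ ∘ N.subtype) n := kernel_mul hα (by
            change χ z = χ 1
            exact hzχ) n
          rw [hl, map_mul, h5]
          ring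
  have e1 : classInner (χ ∘ N.subtype) θ = conj l * classInner (χ ∘ N.subtype) θ := by
    rw [Core.classInner_def, mul_left_comm, ← e0]
  have e2 : conj l = 1 := by
    have : (conj l - 1) * classInner (χ ∘ N.subtype) θ = 0 := by
      rw [sub_mul, one_mul, ← e1, sub_self]
    exact sub_eq_zero.1 ((mul_eq_zero.1 this).resolve_right hθ')
  have e3 : l = 1 := by
    have := congrArg conj e2
    rwa [Complex.conj_conj, map_one] at this
  have := hl 1
  rwa [one_mul, e3, one_mul] at this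

/-- **constituents in `S = N / scalars`** -/
theorem exists_below [Finite K] [FiniteDimensional K V] [Finite V] {N : Subgroup F.iso} [N.Normal]
    {S : Type w} [Group S] [Finite S] (q : N →* S) (hq : Function.Surjective q)
    (hker : ∀ n : N, q n = 1 → ∃ a : K, ∀ v, ((n : F.iso) : V ≃ₗ[K] V) v = a • v)
    {k : ℕ} [Fintype (F.Om k)] (hk : 0 < k) {W₀ : Submodule K V} (hW₀ : W₀ ∈ F.Om k)
    {c : GL (Fin k) K → ℂ} (hc : CusG K k F.σ c) :
    ∃ (θ : S → ℂ) (e : ℕ), IsIrrCharacter S θ ∧ θ 1 = e ∧ e ∣ dg F k ∧ dg F k / e ∣ N.index ∧ 0 < e ∧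
      ∀ [Fintype N], classInner (fun n : N => F.hc c (fun _ _ => 1) n) (fun n => θ (q n)) ≠ 0 := by
  have hfi := finite_iso F
  let _ := Fintype.ofFinite F.iso
  have hcl := Core.isIrr_isClassFunction hc.irr
  have hχ := F.isIrr_hc_one hc.irr hc.cusp hc.dual hW₀
  have hχ1 : F.hc c (fun _ _ => 1) 1 = (dg F k : ℂ) := by
    rw [F.hc_one hcl (fun _ _ => 1) (d := 1) (fun _ _ => rfl), hc.deg, mul_one]
    unfold dg
    rw [Nat.cast_mul]
  obtain ⟨θ, e, hθ, he, h1, h2, h3, h4, h5⟩ := down_constituent' N hχ hχ1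
  -- a non-zero value of the form
  obtain ⟨u, w, huw⟩ : ∃ u w, F.B u w ≠ 0 := by
    have h0 : W₀ ≠ ⊥ := by
      rintro rfl
      have := hW₀.2
      rw [finrank_bot] at this
      omega
    obtain ⟨x, -, hx⟩ := Submodule.exists_mem_ne_zero_of_ne_bot h0
    by_contra hcon
    push Not at hcon
    exact hx (F.nondeg x fun u => hcon x u)
  obtain ⟨η, hη, hη'⟩ := exists_quot_hom q hq hθ (fun z hz => by
    obtain ⟨a, ha⟩ := hker z hz
    have e1 : a * F.σ a * F.B u w = F.B u w := by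
      have h6 := F.iso_B (z : F.iso) u w
      rw [ha, ha, F.B_smul_left, F.B_smul_right] at h6
      rw [mul_assoc]
      exact h6
    have e2 : a * F.σ a = 1 := by
      have := mul_right_cancel₀ huw (e1.trans (one_mul _).symm)
      exact this
    have ha0 : a ≠ 0 := by
      rintro rfl
      rw [zero_mul] at e2
      exact zero_ne_one e2
    let a' : Kˣ := Units.mk0 a ha0
    have e3 : c (Matrix.GeneralLinearGroup.scalar (Fin k) a') = c 1 := by
      obtain ⟨ν, hν⟩ := hc.nu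
      have h7 := hν a' 1
      have h8 : a' * Units.map (F.σ : K →* K) a' = 1 := Units.ext e2
      rw [mul_one, h8, map_one, Units.val_one, one_mul] at h7
      exact h7
    refine h5 z ?_ (F.hc_scalar hcl (fun _ _ => 1) (a := a') ha e3 (fun _ _ => rfl))
    rw [Subgroup.mem_center_iff]
    intro g
    apply Subtype.ext
    apply Subtype.ext
    ext v
    change ((g : F.iso) : V ≃ₗ[K] V) (((z : F.iso) : V ≃ₗ[K] V) v) =
      ((z : F.iso) : V ≃ₗ[K] V) (((g : F.iso) : V ≃ₗ[K] V) v)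
    rw [ha, ha, map_smul])
  refine ⟨η, e, hη, ?_, h1, h2, h3, fun {inst} => ?_⟩
  · rw [← he, ← hη' 1, map_one]
  · have e4 : (fun n : N => η (q n)) = θ := funext hη'
    rw [e4]
    exact h4

/-- the arithmetic of the descent, `r ≠ 2` or `16 ∣ d` -/
theorem dvd_of_index {r d e j : ℕ} (hr : r.Prime) (hd : (r ≠ 2 ∧ r ∣ d) ∨ (r = 2 ∧ 16 ∣ d)) (he : e ∣ d)
    (he0 : 0 < e) (hj : d / e ∣ j) (hj8 : j ∣ 8) : r ∣ e := by
  obtain ⟨f, rfl⟩ := he
  rw [Nat.mul_div_cancel_left _ he0] at hj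
  have hf : f ∣ 2 ^ 3 := hj.trans hj8
  rcases hd with ⟨h2, hd⟩ | ⟨rfl, hd⟩
  · rcases hr.dvd_mul.1 hd with h | h
    · exact h
    · exfalso
      exact h2 ((Nat.prime_dvd_prime_iff_eq hr Nat.prime_two).1 (hr.dvd_of_dvd_pow (h.trans hf)))
  · by_contra h
    have h1 : Nat.Coprime (2 ^ 4) e := Nat.Coprime.pow_left 4 ((Nat.Prime.coprime_iff_not_dvd Nat.prime_two).2 h)
    have h2 : 2 ^ 4 ∣ f := h1.dvd_of_dvd_mul_left hd
    have h3 := Nat.le_of_dvd (by norm_num) (h2.trans hf)
    norm_num at h3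

end below

end Cfsg.Agent.H624.ExtO
end
end
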