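import Cfsg.Agent.H664.R1.U3Four
import Cfsg.Agent.LieClassical.HermBasic
import Cfsg.Agent.H664.R1.Cusp
import Cfsg.Agent.H664.R1.NoFix
import Cfsg.Agent.Characters.GaloisBasic
import Cfsg.Agent.S0136
import Mathlib
import Cfsg.Agent.H597.L2Aut
import Cfsg.Agent.H732.ExtPSL.Twist_m3
import Cfsg.Agent.H113.PSL.Theta
import Cfsg.Agent.H67.ExtBase
import Cfsg.Agent.H525.ExtMult
import Cfsg.Agent.H113.PSL.Pass
import Cfsg.Agent.ClassicalGeometry.AutPSL.Main
import Cfsg.Agent.S0157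
import Cfsg.Agent.H113.PSL.Facts
import Cfsg.Agent.H576.Ext.Defs
import Cfsg.Agent.H907.ExtFree
import Cfsg.Agent.H464.ExtQU
import Cfsg.Agent.H477.HC.RowSp
import Cfsg.Agent.DS.Cl.Grp
import Cfsg.Agent.H477.HC.Rk3Chars_m3
import Cfsg.Agent.GTwoFour.RedHyp_mg_m3
import Cfsg.Agent.AutOrth.Final
import Cfsg.Agent.ClassicalGeometry.OrthSemiForms
import Cfsg.Agent.H328.Ext.PsuLevi
import Cfsg.Agent.H163.PG.PslAut
import Cfsg.Agent.H464.ExtRows
import Cfsg.Agent.H477.HC.Arith_m3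
import Cfsg.Agent.H113.PSU.Main
import Cfsg.Agent.H235.ExtOut
import Cfsg.Agent.Blocks.Basic
import Cfsg.Agent.H579.RR.Psl2Real
import Cfsg.Agent.H664.R1.PSLTwo
import Cfsg.Agent.ClassicalGeometry.PSL2Solvable
import Cfsg.Agent.H477.HC.Levi
import Cfsg.Agent.H989.OutOrth.Four
import Cfsg.Agent.H481.TBound
import Cfsg.Agent.FastGrp
import Cfsg.Agent.Prune
set_option linter.all false

section
prune_inst 0x7fb9ecf8bba861dfdfff7e3fa6d8cff811800fffe6dff943ffe0e1bf0bdf030209452b850de010fe0ed7621410b87803fb7eeeffe06bdc7ffffd5ff41ffbee0fe5f7b508119688240f340ff703f0778a6f3fffffffffffffffffffffffffffbeffbffbfeffff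

-- part: H212/Ext/U3Non
section
prune_inst 0x46100344428e200000018058071003c26a600019000288000c020024006810f0a20010920b62011020008a24400300048110000e0420000000a00000001180080000806048049a008800080000080400000000000000000000000000000000004000000000
set_option linter.all false
open scoped Cfsg.Agent.FastGrp

-- part: H212/Ext/U3Aut
section
/-!
# Field and diagonal automorphisms of `PSU(3,q)` in the model `S σ` (helper212, S4832)
-/

set_option autoImplicit false
set_option linter.unusedSimpArgs false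
set_option linter.unusedSectionVars false

namespace Cfsg.Agent.H212.Ext

open Matrix Cfsg Cfsg.Agent.LieRecognition.PSUThreeSylow Cfsg.Agent.LieClassical.HermBasic
open Cfsg.Agent.H664.R1 Cfsg.Agent.H664.R1.U3

variable {F : Type*} [Field F] {σ : F →+* F} [hσ : Fact (∀ x, σ (σ x) = x)]

section field

variable (τ : F ≃+* F) (hτ : ∀ x, τ (σ x) = σ (τ x))

theorem Jm_map' : (Jm F).map τ = Jm F := by
  ext i j
  (revert i j; simp only [Jm, _root_.Fin.forall_fin_succ, _root_.Matrix.map_apply, _root_.Matrix.of_apply, _root_.Matrix.cons_val', _root_.Matrix.cons_val_fin_one, Fin.isValue, _root_.Matrix.cons_val_zero, _root_.Matrix.cons_val_succ, _root_.forall_const, _root_.map_zero, _root_.map_one, _root_.and_self, _root_.implies_true])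

include hτ in
theorem map_spec (g : GUJ σ) : ((mat σ g).map τ)ᵀ * Jm F * ((mat σ g).map τ).map σ = Jm F := by
  have h1 : ((mat σ g)ᵀ * Jm F * (mat σ g).map σ).map τ = (Jm F).map τ := by rw [mat_spec g]
  rw [Jm_map'] at h1
  have hm : ∀ M N : Matrix (Fin 3) (Fin 3) F, (M * N).map τ = M.map τ * N.map τ := fun M N =>
    Matrix.map_mul (f := (τ : F →+* F))
  rw [hm, hm, Jm_map'] at h1
  rw [← Matrix.transpose_map]
  have h2 : ((mat σ g).map τ).map σ = ((mat σ g).map σ).map τ := by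
    ext i j
    exact (hτ _).symm
  rw [h2]
  exact h1

/-- field automorphisms of `GUJ` -/
def fG : GUJ σ →* GUJ σ where
  toFun g := mk ((mat σ g).map τ) (map_spec τ hτ g)
  map_one' := by
    apply mat_inj
    rw [mat_mk, mat_one]
    ext i j
    rw [Matrix.map_apply, Matrix.one_apply]
    split_ifs
    · exact map_one τ
    · exact map_zero τ
  map_mul' g h := by
    apply mat_inj
    rw [mat_mk, mat_mul, mat_mul, mat_mk, mat_mk]
    exact Matrix.map_mul (f := (τ : F →+* F))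

theorem mat_fG (g : GUJ σ) : mat σ (fG τ hτ g) = (mat σ g).map τ := rfl

include hτ in
theorem symm_comm : ∀ x, τ.symm (σ x) = σ (τ.symm x) := by
  intro x
  apply τ.injective
  rw [τ.apply_symm_apply, hτ, τ.apply_symm_apply]

/-- field automorphisms of `GUJ` -/
def fGe : GUJ σ ≃* GUJ σ :=
  { fG τ hτ with
    invFun := fG τ.symm (symm_comm τ hτ)
    left_inv := fun g => by
      apply mat_inj
      show ((mat σ g).map τ).map τ.symm = mat σ g
      ext i j
      exact τ.symm_apply_apply _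
    right_inv := fun g => by
      apply mat_inj
      show ((mat σ g).map τ.symm).map τ = mat σ g
      ext i j
      exact τ.apply_symm_apply _ }

theorem fG_mem_Up {g : GUJ σ} (h : g ∈ Bo σ) : fG τ hτ g ∈ Bo σ := by
  obtain ⟨h1, h2, h3⟩ := h
  refine ⟨?_, ?_, ?_⟩ <;> rw [mat_fG, Matrix.map_apply] <;> simp [h1, h2, h3]

theorem fG_mem_To {g : GUJ σ} (h : g ∈ To σ) : fG τ hτ g ∈ To σ := by
  obtain ⟨h0, h1, h2, h3⟩ := h
  refine ⟨fG_mem_Up τ hτ h0, ?_, ?_, ?_⟩ <;> rw [mat_fG, Matrix.map_apply] <;> simp [h1, h2, h3]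

theorem fG_mem_Sc {g : GUJ σ} (h : g ∈ Sc σ) : fG τ hτ g ∈ Sc σ := by
  obtain ⟨h0, h1, h2⟩ := h
  refine ⟨fG_mem_To τ hτ h0, ?_, ?_⟩ <;> rw [mat_fG, Matrix.map_apply, Matrix.map_apply]
  · rw [h1]
  · rw [h2]

theorem fG_mem_SUs {g : GUJ σ} (h : g ∈ SUs σ) : fG τ hτ g ∈ SUs σ := by
  rw [mem_SUs] at h ⊢
  rw [mat_fG]
  have h1 : ((mat σ g).map τ).det = τ (mat σ g).det := ((τ : F →+* F).map_det _).symm
  rw [h1, h, map_one]

theorem fG_dg (t s : F) (ht : t ≠ 0) (hs : s * σ s = 1) :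
    fG τ hτ (dg t s ht hs) = dg (τ t) (τ s) ((map_ne_zero τ).2 ht) (by rw [← hτ, ← map_mul, hs, map_one]) := by
  apply mat_inj
  rw [mat_fG, mat_dg, mat_dg]
  ext i j
  (revert i j; simp only [hτ, _root_.Fin.forall_fin_succ, _root_.Matrix.map_apply, _root_.Matrix.of_apply, _root_.Matrix.cons_val', _root_.Matrix.cons_val_fin_one, Fin.isValue, _root_.Matrix.cons_val_zero, _root_.Matrix.cons_val_succ, _root_.forall_const, _root_.map_zero, _root_.and_self, _root_.map_inv₀, _root_.implies_true])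

theorem map_Sc : (Sc σ).map (fGe τ hτ : GUJ σ →* GUJ σ) = Sc σ := by
  apply le_antisymm
  · rintro _ ⟨g, hg, rfl⟩
    exact fG_mem_Sc τ hτ hg
  · intro g hg
    exact ⟨(fGe τ hτ).symm g, fG_mem_Sc _ (symm_comm τ hτ) hg, (fGe τ hτ).apply_symm_apply g⟩

/-- field automorphisms of `PG` -/
def fP : PG σ ≃* PG σ := QuotientGroup.congr (Sc σ) (Sc σ) (fGe τ hτ) (map_Sc τ hτ)

theorem fP_pr (g : GUJ σ) : fP τ hτ (pr σ g) = pr σ (fG τ hτ g) := rfl

theorem map_S : (S σ).map (fP τ hτ : PG σ →* PG σ) = S σ := by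
  apply le_antisymm
  · rintro _ ⟨_, ⟨g, hg, rfl⟩, rfl⟩
    exact ⟨_, fG_mem_SUs τ hτ hg, rfl⟩
  · rintro _ ⟨g, hg, rfl⟩
    refine ⟨pr σ ((fGe τ hτ).symm g), ⟨_, fG_mem_SUs _ (symm_comm τ hτ) hg, rfl⟩, ?_⟩
    show pr σ (fGe τ hτ ((fGe τ hτ).symm g)) = _
    rw [(fGe τ hτ).apply_symm_apply]

/-- field automorphisms of `S` -/
def fS : MulAut (S σ) := ((fP τ hτ).subgroupMap (S σ)).trans (MulEquiv.subgroupCongr (map_S τ hτ))

theorem coe_fS (x : S σ) : ((fS τ hτ x : S σ) : PG σ) = fP τ hτ x := rfl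

end field

section conj

/-- conjugation by the elements of `PG` -/
def cS : PG σ →* MulAut (S σ) := MulAut.conjNormal

theorem coe_cS (g : PG σ) (x : S σ) : ((cS g x : S σ) : PG σ) = g * x * g⁻¹ := rfl

theorem cS_coe (g : S σ) : cS (g : PG σ) = MulAut.conj g := by
  ext x
  rfl

theorem fS_conj (τ : F ≃+* F) (hτ : ∀ x, τ (σ x) = σ (τ x)) (g : PG σ) :
    fS τ hτ * cS g * (fS τ hτ)⁻¹ = cS (fP τ hτ g) := by
  rw [mul_inv_eq_iff_eq_mul]
  apply MulEquiv.ext
  intro x
  apply Subtype.ext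
  show fP τ hτ (g * x * g⁻¹) = fP τ hτ g * fP τ hτ x * (fP τ hτ g)⁻¹
  rw [map_mul, map_mul, map_inv]

/-- `σ` as an automorphism -/
def sigE (σ : F →+* F) [hσ : Fact (∀ x, σ (σ x) = x)] : F ≃+* F :=
  { σ with
    invFun := σ
    left_inv := hσ.out
    right_inv := hσ.out }

theorem sigE_apply (x : F) : sigE σ x = σ x := rfl

theorem sigE_comm (x : F) : sigE σ (σ x) = σ (sigE σ x) := rfl

/-- the element `diag (1, s, 1)` -/
def g0 (s : F) (hs : s * σ s = 1) : PG σ := pr σ (dg 1 s one_ne_zero hs)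

theorem g0_inv (s : F) (hs : s * σ s = 1) : fP (sigE σ) sigE_comm (g0 s hs) = (g0 s hs)⁻¹ := by
  rw [g0, fP_pr, ← map_inv]
  congr 1
  rw [eq_inv_iff_mul_eq_one]
  apply mat_inj
  rw [mat_mul, mat_fG, mat_dg, mat_one]
  ext i j
  (revert i j; simp only [Matrix.mul_apply, Fin.sum_univ_three, sigE_apply, _root_.Fin.forall_fin_succ, _root_.map_one, _root_.inv_one, _root_.Matrix.map_apply, _root_.Matrix.of_apply, _root_.Matrix.cons_val', _root_.Matrix.cons_val_fin_one, Fin.isValue, _root_.Matrix.cons_val_zero, _root_.Matrix.cons_val_one, _root_.Matrix.cons_val, _root_.mul_one, _root_.MulZeroClass.mul_zero, _root_.add_zero, _root_.Matrix.cons_val_succ, _root_.zero_add, _root_.IsEmpty.forall_iff, _root_.Matrix.one_apply_eq, _root_.map_zero, _root_.MulZeroClass.zero_mul, Nat.reduceAdd, _root_.Fin.succ_zero_eq_one, _root_.ne_eq, _root_.zero_ne_one, _root_.not_false_eq_true, _root_.Matrix.one_apply_ne, _root_.Fin.succ_one_eq_two, Fin.reduceEq,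 _root_.Fin.succ_ne_zero, _root_.map_eq_zero, _root_.and_true, _root_.true_and]) <;> (repeat' with_reducible apply And.intro)
  rw [mul_comm]; exact hs

/-- `diag (1, s, 1)³ ∈ S` -/
theorem g0_cube (s : F) (hs : s * σ s = 1) : g0 s hs ^ 3 ∈ S σ := by
  have hs0 : s ≠ 0 := left_ne_zero_of_mul_eq_one hs
  have hσs : σ s = s⁻¹ := eq_inv_of_mul_eq_one_right hs
  have hs' : s⁻¹ * σ s⁻¹ = 1 := by rw [map_inv₀, ← mul_inv, hs, inv_one]
  have h2 : s ^ 2 * σ (s ^ 2) = 1 := by rw [map_pow, ← mul_pow, hs, one_pow]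
  refine ⟨dg s⁻¹ (s ^ 2) (inv_ne_zero hs0) h2, ?_, ?_⟩
  · show (mat σ _).det = 1
    rw [mat_dg, Matrix.det_fin_three]
    simp only [hσs, _root_.map_inv₀, _root_.inv_inv, _root_.Fin.isValue, _root_.Matrix.of_apply, _root_.Matrix.cons_val', _root_.Matrix.cons_val_zero, _root_.Matrix.cons_val_fin_one, _root_.Matrix.cons_val_one, _root_.Matrix.cons_val, _root_.MulZeroClass.mul_zero, _root_.sub_zero, _root_.MulZeroClass.zero_mul, _root_.add_zero]
    field_simp
  · rw [g0, ← map_pow]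
    refine (QuotientGroup.eq (s := Sc σ)).2 ?_
    have h1 : (dg s⁻¹ (s ^ 2) (inv_ne_zero hs0) h2)⁻¹ * dg 1 s one_ne_zero hs ^ 3 =
        dg s s hs0 hs := by
      rw [inv_mul_eq_iff_eq_mul]
      apply mat_inj
      rw [pow_succ, pow_two, mat_mul, mat_mul, mat_mul, mat_dg, mat_dg, mat_dg]
      ext i j
      (revert i j; simp only [Matrix.mul_apply, Fin.sum_univ_three, hσs, hs0, pow_succ, _root_.Fin.forall_fin_succ, _root_.map_one, _root_.inv_one, _root_.Matrix.cons_mul, _root_.Nat.succ_eq_add_one, Nat.reduceAdd, _root_.Matrix.vecMul_cons, _root_.Matrix.head_cons, _root_.one_smul, _root_.Matrix.tail_cons, _root_.zero_smul, _root_.Matrix.empty_vecMul, _root_.add_zero, _root_.Matrix.smul_cons, _root_.smul_eq_mul, _root_.MulZeroClass.mul_zero, _root_.Matrix.smul_empty, _root_.zero_add, _root_.Matrix.empty_mul, _root_.Equiv.symm_apply_apply, _root_.Matrix.of_apply, _root_.Matrix.cons_val', _root_.Matrix.cons_val_fin_one, Fin.isValue, _root_.Matrix.cons_val_zero,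 _root_.Matrix.cons_val_one, _root_.Matrix.cons_val, _root_.pow_zero, _root_.one_mul, _root_.map_inv₀, _root_.inv_inv, _root_.mul_one, _root_.Matrix.cons_val_succ, _root_.forall_const, _root_.true_and, _root_.ne_eq, _root_.not_false_eq_true, _root_.inv_mul_cancel₀, _root_.MulZeroClass.zero_mul, _root_.and_self, _root_.implies_true])
    rw [h1]
    refine ⟨dg_mem _ _ _ _, rfl, ?_⟩
    rw [mat_dg]
    show s = (σ s)⁻¹
    rw [hσs, inv_inv]

end conj

end Cfsg.Agent.H212.Ext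
end

-- part: H212/Ext/U3Fld
section
/-!
# Arithmetic of the field with `q²` elements (helper212, S4832)
-/

set_option autoImplicit false
set_option linter.unusedSectionVars false

namespace Cfsg.Agent.H212.Ext

open Cfsg.Agent.LieClassical.HermBasic

variable {F : Type*} [Field F] [Fintype F] {q : ℕ}

/-- a faithful character of a finite cyclic group -/
theorem exists_faithful (A : Type*) [CommGroup A] [Finite A] [IsCyclic A] : ∃ χ : A →* ℂˣ, Function.Injective χ := by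
  obtain ⟨g, hg⟩ := IsCyclic.exists_generator (α := A)
  have hn : Nat.card A ≠ 0 := Nat.card_pos.ne'
  have hz := Complex.isPrimitiveRoot_exp (Nat.card A) hn
  have hu := hz.isUnit hn
  have hz' : IsPrimitiveRoot hu.unit (Nat.card A) := by
    rw [← IsPrimitiveRoot.coe_units_iff]
    exact hz
  have ho : orderOf g = Nat.card A := orderOf_eq_card_of_forall_mem_zpowers hg
  have ho' : orderOf hu.unit = Nat.card A := hz'.eq_orderOf.symm
  refine ⟨monoidHomOfForallMemZpowers hg (g' := hu.unit) (by rw [ho, ho']), ?_⟩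
  rw [injective_iff_map_eq_one]
  intro x hx
  obtain ⟨k, rfl⟩ := Subgroup.mem_zpowers_iff.1 (hg x)
  rw [map_zpow, monoidHomOfForallMemZpowers_apply_gen, ← orderOf_dvd_iff_zpow_eq_one, ho', ← ho] at hx
  exact orderOf_dvd_iff_zpow_eq_one.1 hx

/-- sums of two complex numbers of norm one -/
theorem sum_unit {a b c d : ℂ} (ha : a * (starRingEnd ℂ) a = 1) (hb : b * (starRingEnd ℂ) b = 1)
    (hc : c * (starRingEnd ℂ) c = 1) (hd : d * (starRingEnd ℂ) d = 1) (h : a + b = c + d) :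
    a + b = 0 ∨ a = c ∨ a = d := by
  by_cases h0 : a + b = 0
  · exact Or.inl h0
  right
  have h1 : (starRingEnd ℂ) a + (starRingEnd ℂ) b = (starRingEnd ℂ) c + (starRingEnd ℂ) d := by
    rw [← map_add, ← map_add, h]
  have h2 : a + b = (a * b) * ((starRingEnd ℂ) a + (starRingEnd ℂ) b) := by
    linear_combination -(b * ha) - a * hb
  have h3 : c + d = (c * d) * ((starRingEnd ℂ) c + (starRingEnd ℂ) d) := by
    linear_combination -(d * hc) - c * hd
  have h4 : (a + b) * (c * d - a * b) = 0 := by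
    have h5 : (c * d - a * b) * ((starRingEnd ℂ) a + (starRingEnd ℂ) b) = 0 := by
      have e1 : (c * d) * ((starRingEnd ℂ) a + (starRingEnd ℂ) b) = c + d := by rw [h1, ← h3]
      linear_combination e1 + h2 - h
    rcases mul_eq_zero.1 h5 with h6 | h6
    · rw [h6, mul_zero]
    · rw [h6, mul_zero] at h2
      exact absurd h2 h0
  have h5 : c * d - a * b = 0 := (mul_eq_zero.1 h4).resolve_left h0
  have h6 : (a - c) * (a - d) = 0 := by linear_combination a * h + h5
  rcases mul_eq_zero.1 h6 with h7 | h7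
  · exact Or.inl (sub_eq_zero.1 h7)
  · exact Or.inr (sub_eq_zero.1 h7)

theorem order_gen (hF : Fintype.card F = q ^ 2) {γ : Fˣ} (hγ : ∀ x, x ∈ Subgroup.zpowers γ) :
    orderOf γ = (q + 1) * (q - 1) := by
  rw [orderOf_eq_card_of_forall_mem_zpowers hγ, card_units_eq hF]

/-- powers of the generator -/
theorem gen_pow_ne (hF : Fintype.card F = q ^ 2) {γ : Fˣ} (hγ : ∀ x, x ∈ Subgroup.zpowers γ) {m : ℕ} (h0 : 0 < m)
    (hm : m < (q + 1) * (q - 1)) : γ ^ m ≠ 1 := by
  intro h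
  have h1 := orderOf_dvd_of_pow_eq_one h
  rw [order_gen hF hγ] at h1
  exact absurd (Nat.le_of_dvd h0 h1) (by omega)

/-- an element of norm one which is not a cube -/
theorem exists_norm_not_cube (hF : Fintype.card F = q ^ 2) (h3 : 3 ∣ q + 1) :
    ∃ s : F, s * s ^ q = 1 ∧ ∀ y : F, y ^ 3 ≠ s := by
  obtain ⟨γ, hγ⟩ := IsCyclic.exists_generator (α := Fˣ)
  have ho := order_gen hF hγ
  have h2 := two_le hF
  refine ⟨((γ ^ (q - 1) : Fˣ) : F), ?_, ?_⟩
  · rw [← Units.val_pow_eq_pow_val, ← Units.val_mul, ← pow_mul, ← pow_add]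
    have : q - 1 + (q - 1) * q = (q + 1) * (q - 1) := by
      obtain ⟨m, rfl⟩ : ∃ m, q = m + 1 := ⟨q - 1, by omega⟩
      simp only [Nat.add_sub_cancel]
      ring
    rw [this, ← ho, pow_orderOf_eq_one, Units.val_one]
  · intro y hy
    have hy0 : y ≠ 0 := by
      rintro rfl
      rw [zero_pow (by norm_num)] at hy
      exact (Units.ne_zero _) hy.symm
    obtain ⟨k, hk⟩ := hγ (Units.mk0 y hy0)
    have hk' : γ ^ k = Units.mk0 y hy0 := hk
    have h4 : γ ^ (3 * k - (q - 1 : ℕ) : ℤ) = 1 := by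
      have e1 : (3 * k : ℤ) = k * 3 := mul_comm _ _
      have e2 : γ ^ (k * 3) = Units.mk0 y hy0 ^ 3 := by
        rw [zpow_mul, hk']
        exact zpow_natCast (Units.mk0 y hy0) 3
      rw [zpow_sub, e1, e2, zpow_natCast, mul_inv_eq_one]
      apply Units.ext
      rw [← hy, Units.val_pow_eq_pow_val, Units.val_mk0]
    have h5 := orderOf_dvd_iff_zpow_eq_one.2 h4
    rw [ho] at h5
    have h6 : (3 : ℤ) ∣ 3 * k - (q - 1 : ℕ) := by
      refine dvd_trans ?_ h5
      push_cast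
      exact Dvd.dvd.mul_right (by exact_mod_cast h3) _
    omega

/-- norms are cubes -/
theorem norm_cube {y : F} (hq : 3 ∣ q + 1) (_h2 : 2 ≤ q) (hy : y ^ q = y) (h0 : y ≠ 0) : ∃ z : F, z ^ 3 = y := by
  refine ⟨y ^ ((2 * q - 1) / 3), ?_⟩
  rw [← pow_mul, Nat.div_mul_cancel (by omega)]
  have h1 : 2 * q - 1 = q + (q - 1) := by omega
  have h3 : y ^ (q - 1) = 1 := by
    have : y ^ (q - 1) * y = 1 * y := by rw [← pow_succ, Nat.sub_add_cancel (by omega), hy, one_mul]
    exact mul_right_cancel₀ h0 this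
  rw [h1, pow_add, h3, mul_one, hy]

end Cfsg.Agent.H212.Ext
end

-- part: H212/Ext/SplitAut
section
/-!
# Rank one groups: automorphisms and the principal series (helper212, S4832)

* `ps_aut` : the principal series is invariant under the automorphisms `α` with `α B = B`, `f ∘ α = f`;
* `inv_of_fixed` : characters with `U`-fixed vectors are invariant under such `α` with `α³` inner;
* `dvd_of_cusp` : `q - 1` divides the degree of the characters without `U`-fixed vectors;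
* `ps_T` : the values on regular elements of the torus.
-/

set_option autoImplicit false
set_option linter.unusedSectionVars false

open Cfsg
open scoped ComplexConjugate

namespace Cfsg.Agent.H212.Ext

open Cfsg.Agent.Characters.Core Cfsg.Agent.OddOrderCharacters.Clifford
  Cfsg.Agent.CharactersDeep.MackeyLinear Cfsg.Agent.H681.DegBasic Cfsg.Agent.H664.R1

universe u

variable {G : Type u} [Group G] (D : Split G)

section ps

variable [Fintype G]

theorem ps_aut (f : D.B →* ℂˣ) (α : G ≃* G) (hB : ∀ b, b ∈ D.B → α b ∈ D.B) (hB' : ∀ b, α b ∈ D.B → b ∈ D.B)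
    (hf : ∀ (b : G) (hb : b ∈ D.B), f ⟨α b, hB b hb⟩ = f ⟨b, hb⟩) (x : G) : D.ps f (α x) = D.ps f x := by
  classical
  have := Fintype.ofFinite D.B
  rw [D.ps_def, OddOrderCharacters.Clifford.indFun_apply, OddOrderCharacters.Clifford.indFun_apply]
  congr 1
  refine (Fintype.sum_equiv α.toEquiv _ _ fun y => ?_).symm
  show extendByZero D.B (fun b => (f b : ℂ)) (y⁻¹ * x * y) =
    extendByZero D.B (fun b => (f b : ℂ)) ((α y)⁻¹ * α x * α y)
  rw [← map_inv, ← map_mul, ← map_mul]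
  by_cases h : y⁻¹ * x * y ∈ D.B
  · rw [ext_apply_mem D.B _ _ h, ext_apply_mem D.B _ _ (hB _ h), hf _ h]
  · rw [ext_apply_not_mem D.B _ _ h, ext_apply_not_mem D.B _ _ (fun h' => h (hB' _ h'))]

theorem comp_irr {θ : G → ℂ} (hθ : IsIrrCharacter G θ) (α : G ≃* G) : IsIrrCharacter G (fun x => θ (α x)) :=
  isIrr_comp (α : G →* G) α.surjective hθ

theorem classInner_aut (θ φ : G → ℂ) (α : G ≃* G) :
    classInner (fun x => θ (α x)) (fun x => φ (α x)) = classInner θ φ := by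
  rw [classInner_def, classInner_def]
  congr 1
  exact Fintype.sum_equiv α.toEquiv _ _ fun _ => rfl

/-- Characters with `U`-fixed vectors. -/
theorem inv_of_fixed [Fintype D.U] {θ : G → ℂ} (hθ : IsIrrCharacter G θ)
    (h : classInner (fun u : D.U => θ u) 1 ≠ 0) (α : G ≃* G) (hB : ∀ b, b ∈ D.B → α b ∈ D.B)
    (hB' : ∀ b, α b ∈ D.B → b ∈ D.B)
    (hf : ∀ f : D.B →* ℂˣ, (∀ b : D.B, (b : G) ∈ D.U → f b = 1) → ∀ (b : G) (hb : b ∈ D.B),
      f ⟨α b, hB b hb⟩ = f ⟨b, hb⟩)
    (h3 : ∀ x, θ (α (α (α x))) = θ x) (x : G) : θ (α x) = θ x := by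
  classical
  obtain ⟨f, hfU, hf0⟩ := D.exists_ps hθ h
  have hinv : ∀ x, D.ps f (α x) = D.ps f x := ps_aut D f α hB hB' (hf f hfU)
  have hc : IsCharacter G (D.ps f) := D.isCharacter_ps f
  have hθα : IsIrrCharacter G (fun x => θ (α x)) := comp_irr hθ α
  have h4 : classInner (D.ps f) (fun x => θ (α x)) ≠ 0 := by
    rw [← classInner_aut (D.ps f) θ α] at hf0
    have e : (fun x => D.ps f (α x)) = D.ps f := funext hinv
    rwa [e] at hf0
  by_cases hw : ∃ t, ∃ ht : t ∈ D.T, f ⟨t, D.TB ht⟩ ≠ f ⟨D.w⁻¹ * t * D.w, D.TB (D.wT t ht)⟩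
  · have hirr := D.isIrr_ps f hw
    have e1 : D.ps f = θ := by
      by_contra hne
      exact hf0 (classInner_irr_ne hirr hθ hne)
    rw [← e1]
    exact hinv x
  · push Not at hw
    have h2 := D.norm_ps f hw
    by_contra hne
    have hne' : (⟨θ, hθ⟩ : IrrCharacter G) ≠ ⟨_, hθα⟩ := by
      intro h
      exact hne (congrFun (congrArg Subtype.val h) x).symm
    have h5 := eq_add_of_norm_two hc h2 hne' hf0 h4
    have h6 : ∀ x, D.ps f x = θ x + θ (α x) := fun x => congrFun h5 x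
    have h7 : ∀ y, θ (α (α y)) = θ y := by
      intro y
      have e1 := h6 y
      have e2 := h6 (α y)
      rw [hinv, e1] at e2
      linear_combination -e2
    apply hne
    rw [← h3 x, h7]

/-- The values on regular elements of the torus. -/
theorem ps_T (f : D.B →* ℂˣ) {t : G} (ht : t ∈ D.T) (hreg : ∀ u ∈ D.U, u⁻¹ * t * u ∈ D.T → u = 1) :
    D.ps f t = (f ⟨t, D.TB ht⟩ : ℂ) + (f ⟨D.w⁻¹ * t * D.w, D.TB (D.wT t ht)⟩ : ℂ) := by
  classical
  have := Fintype.ofFinite D.U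
  rw [D.ps_apply f t, ext_apply_mem D.B _ _ (D.TB ht), Finset.sum_eq_single (1 : D.U)]
  · have e : ((1 : D.U) * D.w : G)⁻¹ * t * (((1 : D.U) : G) * D.w) = D.w⁻¹ * t * D.w := by
      rw [Subgroup.coe_one, one_mul]
    rw [e, ext_apply_mem D.B _ _ (D.TB (D.wT t ht))]
  · intro u _ hu
    apply ext_apply_not_mem
    intro h
    apply hu
    apply Subtype.ext
    apply hreg u u.2
    refine D.mem_T_of_conj (b := 1) D.B.one_mem u.2 (D.TB ht) ?_
    rwa [mul_one]
  · intro h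
    exact absurd (Finset.mem_univ _) h

end ps

section free

theorem sum_free {R Ω : Type*} [Group R] [Fintype R] [Fintype Ω] [MulAction R Ω]
    (hfree : ∀ (r : R) (x : Ω), r • x = x → r = 1) (f : Ω → ℂ) (hf : ∀ (r : R) (x : Ω), f (r • x) = f x)
    (hint : ∀ x, IsIntegral ℤ (f x)) : ∃ z, IsIntegral ℤ z ∧ ∑ x, f x = Nat.card R * z := by
  classical
  have hs : ∀ b : Ω, MulAction.stabilizer R b = ⊥ := by
    intro b
    rw [eq_bot_iff]
    intro r hr
    exact Subgroup.mem_bot.2 (hfree r b hr)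
  have := Fintype.ofFinite (Quotient (MulAction.orbitRel R Ω))
  let e := MulAction.selfEquivOrbitsQuotientProd (G := R) (X := Ω) hs
  let g : Quotient (MulAction.orbitRel R Ω) → ℂ := Quotient.lift f (by
    rintro a b ⟨r, hr⟩
    have hr' : r • b = a := hr
    rw [← hr', hf])
  have hg : ∀ x, g (e x).1 = f x := by
    intro x
    have : (e x).1 = Quotient.mk'' x := by
      obtain ⟨p, rfl⟩ := e.symm.surjective x
      rw [e.apply_symm_apply]
      obtain ⟨a, r⟩ := p
      have h1 : e.symm (a, r) ∈ MulAction.orbit R (Quotient.out a) := by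
        refine ⟨r, ?_⟩
        rfl
      have h2 : Quotient.mk'' (e.symm (a, r)) = Quotient.mk'' (Quotient.out a) :=
        (Quotient.eq'' (s₁ := MulAction.orbitRel R Ω)).2 (MulAction.orbitRel_apply.2 h1)
      rw [h2, Quotient.out_eq']
    rw [this]
    rfl
  refine ⟨∑ a, g a, IsIntegral.sum _ fun a _ => ?_, ?_⟩
  · obtain ⟨x, rfl⟩ := Quotient.exists_rep a
    exact hint x
  · calc ∑ x, f x = ∑ x, g (e x).1 := Finset.sum_congr rfl fun x _ => (hg x).symm
      _ = ∑ p : Quotient (MulAction.orbitRel R Ω) × R, g p.1 := Fintype.sum_equiv e _ _ fun _ => rfl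
      _ = _ := by
        rw [Fintype.sum_prod_type]
        simp only [Finset.sum_const, Finset.card_univ, nsmul_eq_mul, ← Nat.card_eq_fintype_card]
        rw [← Finset.mul_sum]

/-- `q - 1` divides the degree of the characters without `U`-fixed vectors. -/
theorem dvd_of_cusp [Finite G] {X : Subgroup G} (hXU : X ≤ D.U)
    (hX : ∀ x ∈ X, x ≠ 1 → ∀ y ∈ X, y ≠ 1 → ∃ g : G, g * x * g⁻¹ = y) (hX2 : 2 ≤ Nat.card X)
    {R : Type*} [Group R] [Fintype R] (ρ : R →* G) (hR : Nat.card R = Nat.card X - 1)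
    (hρU : ∀ r, ∀ u ∈ D.U, ρ r * u * (ρ r)⁻¹ ∈ D.U) (hρX : ∀ r, ∀ u ∈ X, ρ r * u * (ρ r)⁻¹ ∈ X)
    (hfree : ∀ r, ∀ u ∈ D.U, u ∉ X → ρ r * u * (ρ r)⁻¹ = u → r = 1)
    {θ : G → ℂ} (hθ : IsIrrCharacter G θ) [Fintype D.U] (h : ∑ u : D.U, θ u = 0) {n : ℕ} (hn : θ 1 = n) :
    Nat.card R ∣ n := by
  classical
  have := Fintype.ofFinite X
  have hcl := isIrr_isClassFunction hθ
  have hint : ∀ x, IsIntegral ℤ (θ x) := fun x =>
    Characters.GaloisBasic.isIntegral_apply (isIrr_isCharacter hθ) _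
  obtain ⟨z, hz⟩ : ∃ z : X, z ≠ 1 := by
    have : Nontrivial X := Finite.one_lt_card_iff_nontrivial.1 (by omega)
    exact exists_ne 1
  -- the action on `U \ X`
  let _ : MulAction R {u : D.U // (u : G) ∉ X} :=
    { smul := fun r u => ⟨⟨ρ r * u.1 * (ρ r)⁻¹, hρU r _ u.1.2⟩, fun hu => u.2 (by
        have h1 := hρX r⁻¹ _ hu
        have h2 : ρ r⁻¹ * (ρ r * (u.1 : G) * (ρ r)⁻¹) * (ρ r⁻¹)⁻¹ = u.1 := by
          rw [map_inv]; group
        rwa [h2] at h1)⟩
      one_smul := fun u => by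
        apply Subtype.ext
        apply Subtype.ext
        show ρ 1 * (u.1 : G) * (ρ 1)⁻¹ = u.1
        rw [map_one]; group
      mul_smul := fun r s u => by
        apply Subtype.ext
        apply Subtype.ext
        show ρ (r * s) * (u.1 : G) * (ρ (r * s))⁻¹ = ρ r * (ρ s * (u.1 : G) * (ρ s)⁻¹) * (ρ r)⁻¹
        rw [map_mul]; group }
  have hsm : ∀ (r : R) (u : {u : D.U // (u : G) ∉ X}), (((r • u).1 : D.U) : G) = ρ r * u.1 * (ρ r)⁻¹ := fun _ _ => rfl
  obtain ⟨y, hy, hsum⟩ := sum_free (R := R) (Ω := {u : D.U // (u : G) ∉ X}) (fun r u hu =>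
      hfree r _ u.1.2 u.2 (by rw [← hsm, hu])) (fun u => θ (u.1 : G)) (fun r u => by
      show θ (((r • u).1 : D.U) : G) = θ (u.1 : G)
      rw [hsm]; exact hcl _ _) (fun u => hint _)
  -- the sum over `X`
  have hXsum : ∑ x : X, θ x = n + (Nat.card X - 1 : ℕ) * θ z := by
    have h1 : ∀ x : X, θ x = (if x = 1 then (n : ℂ) - θ z else 0) + θ z := by
      intro x
      split_ifs with hx
      · rw [hx, Subgroup.coe_one, hn]; ring
      · rw [zero_add]
        obtain ⟨g, hg⟩ := hX z z.2 (fun h' => hz (Subtype.ext h')) x x.2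
          (fun h' => hx (Subtype.ext h'))
        rw [← hg]
        exact hcl _ _
    rw [Finset.sum_congr rfl fun x _ => h1 x, Finset.sum_add_distrib,
      Finset.sum_ite_eq' Finset.univ, if_pos (Finset.mem_univ _), Finset.sum_const,
      Finset.card_univ, nsmul_eq_mul, ← Nat.card_eq_fintype_card, Nat.cast_sub (by omega)]
    push_cast
    ring
  have hsplit : ∑ u : D.U, θ u = ∑ x : X, θ x + ∑ u : {u : D.U // (u : G) ∉ X}, θ (u.1 : G) := by
    rw [← Fintype.sum_subtype_add_sum_subtype (fun u : D.U => (u : G) ∈ X)]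
    congr 1
    refine Fintype.sum_equiv ⟨fun u => ⟨(u.1 : G), u.2⟩, fun x => ⟨⟨x, hXU x.2⟩, x.2⟩, fun _ => rfl, fun _ => rfl⟩ _ _
      fun _ => rfl
  rw [hsplit, hXsum, hsum, ← hR] at h
  have h2 : (n : ℂ) = Nat.card R * (-(θ z + y)) := by linear_combination h
  have hk0 : (Nat.card R : ℂ) ≠ 0 := by
    have : Nat.card R ≠ 0 := by omega
    exact_mod_cast this
  have h3 : IsIntegral ℤ (-(θ z + y)) := ((hint _).add hy).neg
  obtain ⟨e, he⟩ := (h3.exists_int_iff_exists_rat).1 ⟨(n : ℚ) / Nat.card R, by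
    push_cast
    field_simp
    linear_combination -h2⟩
  rw [he] at h2
  have h4 : (n : ℤ) = Nat.card R * e := by exact_mod_cast h2
  have h5 : (Nat.card R : ℤ) ∣ n := ⟨e, h4⟩
  exact_mod_cast h5

end free

end Cfsg.Agent.H212.Ext
end

-- part: H212/Ext/U3Non
section
/-!
# `PSU(3,q)`, `3 ∣ q + 1`: characters which are not invariant under the diagonal automorphisms (helper212, S4832)
-/

set_option autoImplicit false
set_option linter.unusedSimpArgs false
set_option linter.unusedSectionVars false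

namespace Cfsg.Agent.H212.Ext

open Matrix Cfsg Cfsg.Agent.LieRecognition.PSUThreeSylow Cfsg.Agent.LieClassical.HermBasic
open Cfsg.Agent.H664.R1 Cfsg.Agent.H664.R1.U3
open Cfsg.Agent.Characters.Core

section general

variable {F : Type*} [Field F] {σ : F →+* F} [hσ : Fact (∀ x, σ (σ x) = x)]

theorem g0_mem_T (s : F) (hs : s * σ s = 1) : g0 s hs ∈ (spP σ).T := ⟨_, dg_mem _ _ _ _, rfl⟩

/-- `g ∈ T` acts on `B` -/
theorem cS_B {g : PG σ} (hg : g ∈ (spP σ).T) (b : S σ) (hb : b ∈ (spS σ).B) : cS g b ∈ (spS σ).B :=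
  (spP σ).B.mul_mem ((spP σ).B.mul_mem ((spP σ).TB hg) hb) ((spP σ).B.inv_mem ((spP σ).TB hg))

theorem cS_B' {g : PG σ} (hg : g ∈ (spP σ).T) (b : S σ) (hb : cS g b ∈ (spS σ).B) : b ∈ (spS σ).B := by
  have h1 := cS_B ((spP σ).T.inv_mem hg) _ hb
  rw [← MulAut.mul_apply, ← map_mul, inv_mul_cancel, map_one] at h1
  exact h1

/-- the linear characters of `B` trivial on `U` are invariant under `T` -/
theorem cS_f {g : PG σ} (hg : g ∈ (spP σ).T) (f : (spS σ).B →* ℂˣ)
    (hf : ∀ b : (spS σ).B, (b : S σ) ∈ (spS σ).U → f b = 1) (b : S σ) (hb : b ∈ (spS σ).B) :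
    f ⟨cS g b, cS_B hg b hb⟩ = f ⟨b, hb⟩ := by
  obtain ⟨u, hu, t, ht, rfl⟩ := (spS σ).dec b hb
  have hu' : cS g u ∈ (spS σ).U := (spP σ).nU g ((spP σ).TB hg) u hu
  have ht' : cS g t = t := by
    apply Subtype.ext
    rw [coe_cS, (spP σ).comm g hg t ht, mul_inv_cancel_right]
  have e1 : (⟨cS g (u * t), cS_B hg _ hb⟩ : (spS σ).B) = ⟨cS g u, (spS σ).UB hu'⟩ * ⟨t, (spS σ).TB ht⟩ := by
    apply Subtype.ext
    show cS g (u * t) = cS g u * t
    rw [map_mul, ht']
  have e2 : (⟨u * t, hb⟩ : (spS σ).B) = ⟨u, (spS σ).UB hu⟩ * ⟨t, (spS σ).TB ht⟩ := rfl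
  rw [e1, e2, map_mul, map_mul, hf ⟨cS g u, (spS σ).UB hu'⟩ hu', hf ⟨u, (spS σ).UB hu⟩ hu]

/-- the cube of the diagonal automorphism is inner -/
theorem cS_cube (s : F) (hs : s * σ s = 1) : ∃ c : S σ, cS (g0 s hs) ^ 3 = MulAut.conj c :=
  ⟨⟨_, g0_cube s hs⟩, by rw [← map_pow, ← cS_coe]⟩

theorem pr_eq_of_Un {u v : GUJ σ} (hu : u ∈ Un σ) (hv : v ∈ Un σ) (h : pr σ u = pr σ v) : u = v := by
  have h1 : u⁻¹ * v ∈ Sc σ := (QuotientGroup.eq (s := Sc σ)).1 h
  have h2 : u⁻¹ * v = 1 := (split' σ).disj _ ((Un σ).mul_mem ((Un σ).inv_mem hu) hv) (Sc_le h1)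
  rwa [inv_mul_eq_one] at h2

/-- the elements of `B` in `S` -/
theorem exists_Bo {x : PG σ} (hx : x ∈ S σ) (hB : x ∈ (spP σ).B) : ∃ y ∈ Bo σ, y ∈ SUs σ ∧ pr σ y = x := by
  obtain ⟨y, hy, rfl⟩ := hx
  obtain ⟨b, hb, hby⟩ := hB
  refine ⟨y, ?_, hy, rfl⟩
  have h1 : b⁻¹ * y ∈ Sc σ := (QuotientGroup.eq (s := Sc σ)).1 hby
  have h2 : b⁻¹ * y ∈ Bo σ := (Sc_le h1).1
  have h3 := (Bo σ).mul_mem hb h2
  rwa [mul_inv_cancel_left] at h3

/-- the quotient of the first two diagonal entries is a cube times a norm -/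
theorem entry_SUs {y : GUJ σ} (hy : y ∈ Bo σ) (hS : y ∈ SUs σ) :
    mat σ y 0 0 ≠ 0 ∧ mat σ y 1 1 ≠ 0 ∧
      mat σ y 0 0 * (mat σ y 0 0 * σ (mat σ y 0 0)) = (mat σ y 0 0) ^ 3 * mat σ y 1 1 := by
  have h0 := det_of_Up hy
  rw [mem_SUs] at hS
  rw [hS] at h0
  obtain ⟨h1, h2, h3⟩ := hy
  have e02 := entry y 0 2
  have hJ2 : Jm F 0 2 = 1 := rfl
  rw [h1, h2, hJ2] at e02
  have e02' : mat σ y 0 0 * σ (mat σ y 2 2) = 1 := by linear_combination e02
  have e02'' : σ (mat σ y 0 0) * mat σ y 2 2 = 1 := by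
    have := congrArg σ e02'
    rwa [map_mul, hσ.out, map_one] at this
  refine ⟨left_ne_zero_of_mul_eq_one e02', ?_, ?_⟩
  · intro h
    rw [h] at h0
    simp at h0
  · linear_combination (mat σ y 0 0) ^ 2 * σ (mat σ y 0 0) * h0 + (mat σ y 0 0) ^ 3 * mat σ y 1 1 * e02''

/-- conjugate elements of `U` in a rank one group are conjugate in `B` -/
theorem mem_B_of_conj {G : Type*} [Group G] (D : Split G) {u v x : G} (hu : u ∈ D.U) (hv : v ∈ D.U) (hu1 : u ≠ 1)
    (h : x * u * x⁻¹ = v) : x ∈ D.B := by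
  by_contra hx
  obtain ⟨b, hb, c, hc, rfl⟩ := D.big x hx
  obtain ⟨y, hy, t, ht, rfl⟩ := D.dec b hb
  have h1 : y * t * D.w * c = y * D.w * (D.w⁻¹ * t * D.w * c) := by group
  rw [h1] at h
  have h2 : D.w⁻¹ * t * D.w * c ∈ D.B := D.B.mul_mem (D.TB (D.wT t ht)) hc
  have h3 : (y * D.w * (D.w⁻¹ * t * D.w * c))⁻¹ * v * (y * D.w * (D.w⁻¹ * t * D.w * c)) = u := by
    rw [← h]; group
  have h4 := D.eq_one_of_conj (v := v) h2 hy hv (by rw [h3]; exact D.UB hu)
  rw [h4, mul_one, inv_mul_cancel] at h3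
  exact hu1 h3.symm

end general

section finite

variable {F : Type*} [Field F] [Fintype F] {q : ℕ} {σ : F →+* F} [hσ : Fact (∀ x, σ (σ x) = x)]

/-- **a class of `S` which is not invariant under the diagonal automorphism** -/
theorem exists_not_conj (hF : Fintype.card F = q ^ 2) (h3 : 3 ∣ q + 1) (hs : ∀ x, σ x = x ^ q) {s : F}
    (hs1 : s * σ s = 1) (hsc : ∀ y : F, y ^ 3 ≠ s) : ∃ u : S σ, ¬ IsConj u (cS (g0 s hs1) u) := by
  have h2 := two_le hF
  obtain ⟨b, hb⟩ := exists_snd (σ := σ) hF hs 1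
  have huU : pr σ (un 1 b hb) ∈ (spP σ).U := ⟨_, un_mem _ _ _, rfl⟩
  refine ⟨⟨pr σ (un 1 b hb), U_le_S huU⟩, ?_⟩
  intro hc
  rw [isConj_iff] at hc
  obtain ⟨x, hx⟩ := hc
  have hx' : (x : PG σ) * pr σ (un 1 b hb) * (x : PG σ)⁻¹ = g0 s hs1 * pr σ (un 1 b hb) * (g0 s hs1)⁻¹ :=
    congrArg Subtype.val hx
  have hgB : g0 s hs1 ∈ (spP σ).B := (spP σ).TB (g0_mem_T s hs1)
  have hne : pr σ (un 1 b hb) ≠ 1 := by
    intro h
    have h1 := pr_eq_of_Un (un_mem _ _ _) (Un σ).one_mem (h.trans (map_one _).symm)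
    have h4 := congrFun (congrFun (congrArg (mat σ) h1) 0) 1
    rw [mat_un, mat_one] at h4
    simp at h4
  have hxB : (x : PG σ) ∈ (spP σ).B := mem_B_of_conj (spP σ) huU ((spP σ).nU _ hgB _ huU) hne hx'
  obtain ⟨y, hyB, hyS, hyx⟩ := exists_Bo x.2 hxB
  rw [← hyx] at hx'
  have hrel := conj_rel (t := 1) hs1 hb
  have e1 : dg 1 s one_ne_zero hs1 * un 1 b hb * (dg 1 s one_ne_zero hs1)⁻¹ = un _ _ hrel :=
    dg_conj_un 1 s one_ne_zero hs1 1 b hb hrel
  have h5 : pr σ (y * un 1 b hb * y⁻¹) = pr σ (un _ _ hrel) := by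
    rw [← e1, map_mul, map_mul, map_inv, hx', g0, map_mul, map_mul, map_inv]
  have h6 : y * un 1 b hb * y⁻¹ ∈ Un σ := (split' σ).nU y hyB _ (un_mem _ _ _)
  have h7 := pr_eq_of_Un h6 (un_mem _ _ _) h5
  rw [mul_inv_eq_iff_eq_mul] at h7
  have h8 := congrFun (congrFun (congrArg (mat σ) h7) 0) 1
  obtain ⟨k1, k2, k3⟩ := hyB
  rw [mul_entry, mul_entry, mat_un, mat_un] at h8
  simp only [k1, k2, k3, _root_.Fin.isValue, _root_.map_one, _root_.Matrix.of_apply, _root_.Matrix.cons_val', _root_.Matrix.cons_val_one, _root_.Matrix.cons_val_zero, _root_.Matrix.cons_val_fin_one, _root_.mul_one, _root_.Matrix.cons_val, _root_.MulZeroClass.mul_zero, _root_.add_zero, _root_.one_mul] at h8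
  obtain ⟨n1, n2, n3⟩ := entry_SUs ⟨k1, k2, k3⟩ hyS
  -- `σ s` is a cube
  obtain ⟨z, hz⟩ : ∃ z : F, z ^ 3 = mat σ y 0 0 * σ (mat σ y 0 0) := by
    refine norm_cube h3 h2 ?_ (mul_ne_zero n1 ((map_ne_zero σ).2 n1))
    rw [← hs, map_mul, hσ.out, mul_comm]
  have hz0 : z ≠ 0 := by
    rintro rfl
    rw [zero_pow (by norm_num)] at hz
    exact (mul_ne_zero n1 ((map_ne_zero σ).2 n1)) hz.symm
  apply hsc (σ (mat σ y 0 0 / z))
  rw [← map_pow, div_pow, hz]
  have h9 : mat σ y 0 0 = σ s * mat σ y 1 1 := by linear_combination h8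
  have h10 : mat σ y 0 0 ^ 3 / (mat σ y 0 0 * σ (mat σ y 0 0)) = σ s := by
    rw [div_eq_iff (mul_ne_zero n1 ((map_ne_zero σ).2 n1))]
    apply mul_right_cancel₀ n2
    rw [← n3]
    linear_combination (mat σ y 0 0 * σ (mat σ y 0 0)) * h9
  rw [h10, hσ.out]

end finite

end Cfsg.Agent.H212.Ext
end

private theorem dce_aa48dd73cfc6 : _root_.True := by
  try have : _root_.True := by simp only [_root_.Cfsg.Agent.H212.Ext.sigE.congr_simp]
  try have : _root_.True := by simp only [_root_.Cfsg.Agent.H212.Ext.g0.eq_1]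
  exact _root_.True.intro
end

-- part: H732/ExtPSL/Row_mg
section
prune_inst 0x42110440008c0000000000580010042200400000000008000c08008000a00000a00000000000010020008008000000000000000804000000000000400000400000080040000010008800086000000400000000000000000000000000000000004000000000
set_option linter.all false
open scoped Cfsg.Agent.FastGrp

-- part: H732/ExtPSL/Count
section
/-!
# Fixed points of semilinear maps on points and hyperplanes (helper732, S4832)

`card_fix_eq` : the semilinear maps `v ↦ A (σ v)` and `v ↦ A⁻ᵀ (σ v)` of `F^n` fix the same number of points of the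
projective space.
-/

set_option autoImplicit false
set_option linter.unusedSectionVars false

namespace Cfsg.Agent.H732.ExtPSL

open Matrix Module

open scoped LinearAlgebra.Projectivization

universe u

variable {F : Type u} [Field F] {n : ℕ}

/-- the semilinear map `v ↦ A (σ v)` -/
def sl (A : GL (Fin n) F) (σ : F ≃+* F) : (Fin n → F) →ₛₗ[(σ : F →+* F)] (Fin n → F) where
  toFun v := (A : Matrix (Fin n) (Fin n) F) *ᵥ (fun i => σ (v i))
  map_add' v w := by
    rw [← mulVec_add]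
    congr 1
    ext i
    simp
  map_smul' c v := by
    rw [← mulVec_smul]
    congr 1
    ext i
    simp

theorem sl_apply (A : GL (Fin n) F) (σ : F ≃+* F) (v : Fin n → F) :
    sl A σ v = (A : Matrix (Fin n) (Fin n) F) *ᵥ (fun i => σ (v i)) := rfl

theorem sl_injective (A : GL (Fin n) F) (σ : F ≃+* F) : Function.Injective (sl A σ) := by
  intro v w h
  have h1 := congrArg (fun x => ((A⁻¹ : GL (Fin n) F) : Matrix (Fin n) (Fin n) F) *ᵥ x) h
  simp only [sl_apply, mulVec_mulVec, ← Units.val_mul, inv_mul_cancel, Units.val_one, one_mulVec] at h1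
  ext i
  exact σ.injective (congrFun h1 i)

section count

variable [Fintype F] [DecidableEq F]

/-- the vectors orthogonal to a non-zero vector -/
theorem card_orth_one {v : Fin n → F} (hv : v ≠ 0) :
    (Finset.univ.filter fun w : Fin n → F => w ⬝ᵥ v = 0).card * Fintype.card F = Fintype.card F ^ n := by
  have h1 : LinearIndependent F (fun _ : Fin 1 => v) := by
    rw [linearIndependent_unique_iff]
    exact hv
  let M : Matrix (Fin 1) (Fin n) F := fun _ => v
  have h2 : M.rank = 1 := by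
    have := LinearIndependent.rank_matrix (M := M) h1
    simpa using this
  have h3 := LinearMap.finrank_range_add_finrank_ker M.mulVecLin
  have h4 : finrank F (LinearMap.range M.mulVecLin) = 1 := h2
  rw [h4, finrank_fin_fun] at h3
  have h5 : (Finset.univ.filter fun w : Fin n → F => w ⬝ᵥ v = 0).card = Nat.card (LinearMap.ker M.mulVecLin) := by
    rw [← Fintype.card_subtype, ← Nat.card_eq_fintype_card]
    refine Nat.card_congr (Equiv.subtypeEquivRight fun w => ?_)
    rw [LinearMap.mem_ker, mulVecLin_apply, dotProduct_comm]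
    constructor
    · intro h
      ext i
      exact h
    · intro h
      exact congrFun h 0
  rw [h5, Module.natCard_eq_pow_finrank (K := F), Nat.card_eq_fintype_card, ← pow_succ]
  congr 1
  omega

/-- the vectors orthogonal to two independent vectors -/
theorem card_orth_two {v u : Fin n → F} (h : LinearIndependent F ![v, u]) :
    (Finset.univ.filter fun w : Fin n → F => w ⬝ᵥ v = 0 ∧ w ⬝ᵥ u = 0).card * Fintype.card F ^ 2 = Fintype.card F ^ n := by
  let M : Matrix (Fin 2) (Fin n) F := ![v, u]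
  have h2 : M.rank = 2 := by
    have := LinearIndependent.rank_matrix (M := M) h
    simpa using this
  have h3 := LinearMap.finrank_range_add_finrank_ker M.mulVecLin
  have h4 : finrank F (LinearMap.range M.mulVecLin) = 2 := h2
  rw [h4, finrank_fin_fun] at h3
  have h5 : (Finset.univ.filter fun w : Fin n → F => w ⬝ᵥ v = 0 ∧ w ⬝ᵥ u = 0).card =
      Nat.card (LinearMap.ker M.mulVecLin) := by
    rw [← Fintype.card_subtype, ← Nat.card_eq_fintype_card]
    refine Nat.card_congr (Equiv.subtypeEquivRight fun w => ?_)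
    rw [LinearMap.mem_ker, mulVecLin_apply, dotProduct_comm, dotProduct_comm w u]
    constructor
    · rintro ⟨ha, hb⟩
      ext i
      fin_cases i
      · exact ha
      · exact hb
    · intro h
      exact ⟨congrFun h 0, congrFun h 1⟩
  rw [h5, Module.natCard_eq_pow_finrank (K := F), Nat.card_eq_fintype_card, ← pow_add]
  congr 1
  omega

/-- the common statement -/
theorem card_orth {v u : Fin n → F} (hv : v ≠ 0) [Decidable (∃ c : F, u = c • v)] :
    (Finset.univ.filter fun w : Fin n → F => w ⬝ᵥ v = 0 ∧ w ⬝ᵥ u = 0).card * Fintype.card F ^ 2 =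
      if ∃ c : F, u = c • v then Fintype.card F ^ n * Fintype.card F else Fintype.card F ^ n := by
  split_ifs with h
  · obtain ⟨c, rfl⟩ := h
    rw [← card_orth_one hv, sq, ← mul_assoc]
    congr 3
    ext w
    simp only [Finset.mem_filter, Finset.mem_univ, true_and, dotProduct_smul, and_iff_left_iff_imp]
    intro hw
    rw [hw, smul_zero]
  · apply card_orth_two
    rw [LinearIndependent.pair_iff' hv]
    intro a ha
    exact h ⟨a, ha.symm⟩

/-- the number of vectors mapped to a multiple of themselves determines the number of orthogonal pairs -/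
theorem sum_orth (f : (Fin n → F) → (Fin n → F)) (hf : f 0 = 0) [DecidablePred fun v => ∃ c : F, f v = c • v] :
    (∑ v : Fin n → F, (Finset.univ.filter fun w : Fin n → F => w ⬝ᵥ v = 0 ∧ w ⬝ᵥ f v = 0).card) * Fintype.card F ^ 2 =
      Fintype.card F ^ n * (Fintype.card F ^ 2 - 1) + Fintype.card F ^ n * Fintype.card F ^ n +
      Fintype.card F ^ n * (Fintype.card F - 1) *
        (Finset.univ.filter fun v : Fin n → F => v ≠ 0 ∧ ∃ c : F, f v = c • v).card := by
  have hq : 1 ≤ Fintype.card F := Fintype.card_pos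
  have hq2 : 1 ≤ Fintype.card F ^ 2 := Nat.one_le_pow _ _ hq
  obtain ⟨a, ha⟩ : ∃ a, Fintype.card F = a + 1 := ⟨Fintype.card F - 1, by omega⟩
  obtain ⟨b, hb⟩ : ∃ b, Fintype.card F ^ 2 = b + 1 := ⟨Fintype.card F ^ 2 - 1, by omega⟩
  rw [Finset.sum_mul]
  have h1 : ∀ v : Fin n → F, (Finset.univ.filter fun w : Fin n → F => w ⬝ᵥ v = 0 ∧ w ⬝ᵥ f v = 0).card *
      Fintype.card F ^ 2 = (if v = 0 then Fintype.card F ^ n * (Fintype.card F ^ 2 - 1) else 0) +
        Fintype.card F ^ n + (if v ≠ 0 ∧ ∃ c : F, f v = c • v then Fintype.card F ^ n * (Fintype.card F - 1) else 0) := by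
    intro v
    by_cases hv : v = 0
    · subst hv
      have h2 : (Finset.univ.filter fun w : Fin n → F => w ⬝ᵥ (0 : Fin n → F) = 0 ∧ w ⬝ᵥ f 0 = 0).card =
          Fintype.card F ^ n := by
        rw [hf, Finset.filter_true_of_mem (fun w _ => ⟨dotProduct_zero w, dotProduct_zero w⟩), Finset.card_univ,
          Fintype.card_fun, Fintype.card_fin]
      rw [h2, if_pos rfl, if_neg (fun h => h.1 rfl), hb, Nat.add_sub_cancel]
      ring
    · rw [card_orth hv, if_neg hv]
      by_cases hc : ∃ c : F, f v = c • v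
      · rw [if_pos hc, if_pos ⟨hv, hc⟩, ha, Nat.add_sub_cancel]
        ring
      · rw [if_neg hc, if_neg (fun h => hc h.2)]
        ring
  rw [Finset.sum_congr rfl fun v _ => h1 v, Finset.sum_add_distrib, Finset.sum_add_distrib, Finset.sum_ite_eq' ,
    if_pos (Finset.mem_univ _), Finset.sum_const, Finset.card_univ, Fintype.card_fun, Fintype.card_fin, smul_eq_mul,
    ← Finset.sum_filter, Finset.sum_const, smul_eq_mul]
  ring

theorem dot_sl (A : GL (Fin n) F) (σ : F ≃+* F) (v w : Fin n → F) :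
    w ⬝ᵥ sl A σ v = σ ((fun i => σ.symm ((w ᵥ* (A : Matrix (Fin n) (Fin n) F)) i)) ⬝ᵥ v) := by
  rw [sl_apply, dotProduct_mulVec]
  unfold dotProduct
  rw [map_sum]
  refine Finset.sum_congr rfl fun i _ => ?_
  rw [map_mul, RingEquiv.apply_symm_apply]

theorem fix_iff (A : GL (Fin n) F) (σ : F ≃+* F) {w : Fin n → F} (hw : w ≠ 0) :
    (∃ c : F, (fun i => σ.symm ((w ᵥ* (A : Matrix (Fin n) (Fin n) F)) i)) = c • w) ↔
      ∃ c : F, sl (Cfsg.Agent.Schreier.ClassPSL.ctr A) σ w = c • w := by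
  have e1 : ∀ x : Fin n → F, x ᵥ* (A : Matrix (Fin n) (Fin n) F) = (A : Matrix (Fin n) (Fin n) F)ᵀ *ᵥ x := by
    intro x
    rw [mulVec_transpose]
  have e2 : ((Cfsg.Agent.Schreier.ClassPSL.ctr A : GL (Fin n) F) : Matrix (Fin n) (Fin n) F) *
      (A : Matrix (Fin n) (Fin n) F)ᵀ = 1 := by
    change ((A⁻¹ : GL (Fin n) F) : Matrix (Fin n) (Fin n) F)ᵀ * (A : Matrix (Fin n) (Fin n) F)ᵀ = 1
    rw [← transpose_mul, ← Units.val_mul, mul_inv_cancel, Units.val_one, transpose_one]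
  have e3 : (A : Matrix (Fin n) (Fin n) F)ᵀ *
      ((Cfsg.Agent.Schreier.ClassPSL.ctr A : GL (Fin n) F) : Matrix (Fin n) (Fin n) F) = 1 := by
    change (A : Matrix (Fin n) (Fin n) F)ᵀ * ((A⁻¹ : GL (Fin n) F) : Matrix (Fin n) (Fin n) F)ᵀ = 1
    rw [← transpose_mul, ← Units.val_mul, inv_mul_cancel, Units.val_one, transpose_one]
  constructor
  · rintro ⟨c, hc⟩
    have h1 : w ᵥ* (A : Matrix (Fin n) (Fin n) F) = σ c • (fun i => σ (w i)) := by
      ext i
      have := congrArg σ (congrFun hc i)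
      rw [RingEquiv.apply_symm_apply] at this
      rw [this]
      simp
    have hc0 : σ c ≠ 0 := by
      intro h0
      rw [h0, zero_smul, e1] at h1
      apply hw
      rw [← one_mulVec w, ← e2, ← mulVec_mulVec, h1, mulVec_zero]
    refine ⟨(σ c)⁻¹, ?_⟩
    rw [sl_apply]
    have h2 : (fun i => σ (w i)) = (σ c)⁻¹ • (w ᵥ* (A : Matrix (Fin n) (Fin n) F)) := by
      rw [h1, smul_smul, inv_mul_cancel₀ hc0, one_smul]
    rw [h2, mulVec_smul, e1, mulVec_mulVec, e2, one_mulVec]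
  · rintro ⟨c, hc⟩
    rw [sl_apply] at hc
    have h1 : (fun i => σ (w i)) = c • (w ᵥ* (A : Matrix (Fin n) (Fin n) F)) := by
      rw [e1, ← mulVec_smul, ← hc, mulVec_mulVec, e3, one_mulVec]
    have hc0 : c ≠ 0 := by
      rintro rfl
      rw [zero_smul] at h1
      apply hw
      ext i
      have := congrFun h1 i
      exact (map_eq_zero σ).1 this
    refine ⟨σ.symm c⁻¹, ?_⟩
    have h2 : w ᵥ* (A : Matrix (Fin n) (Fin n) F) = c⁻¹ • (fun i => σ (w i)) := by
      rw [h1, smul_smul, inv_mul_cancel₀ hc0, one_smul]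
    rw [h2]
    ext i
    simp

/-- **vectors mapped to multiples of themselves** -/
theorem card_vec_fix (A : GL (Fin n) F) (σ : F ≃+* F) [DecidablePred fun v => ∃ c : F, sl A σ v = c • v]
    [DecidablePred fun v => ∃ c : F, sl (Cfsg.Agent.Schreier.ClassPSL.ctr A) σ v = c • v] :
    (Finset.univ.filter fun v : Fin n → F => v ≠ 0 ∧ ∃ c : F, sl A σ v = c • v).card =
      (Finset.univ.filter fun v : Fin n → F => v ≠ 0 ∧
        ∃ c : F, sl (Cfsg.Agent.Schreier.ClassPSL.ctr A) σ v = c • v).card := by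
  classical
  let g : (Fin n → F) → (Fin n → F) := fun w i => σ.symm ((w ᵥ* (A : Matrix (Fin n) (Fin n) F)) i)
  have h1 := sum_orth (sl A σ) (map_zero _)
  have h2 := sum_orth g (by
    ext i
    change σ.symm (((0 : Fin n → F) ᵥ* (A : Matrix (Fin n) (Fin n) F)) i) = 0
    rw [zero_vecMul]
    exact map_zero _)
  have h3 : ∑ v : Fin n → F, (Finset.univ.filter fun w : Fin n → F => w ⬝ᵥ v = 0 ∧ w ⬝ᵥ sl A σ v = 0).card =
      ∑ w : Fin n → F, (Finset.univ.filter fun v : Fin n → F => v ⬝ᵥ w = 0 ∧ v ⬝ᵥ g w = 0).card := by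
    simp only [Finset.card_filter]
    rw [Finset.sum_comm]
    refine Finset.sum_congr rfl fun w _ => Finset.sum_congr rfl fun v _ => ?_
    have h4 : (w ⬝ᵥ v = 0 ∧ w ⬝ᵥ sl A σ v = 0) ↔ (v ⬝ᵥ w = 0 ∧ v ⬝ᵥ g w = 0) := by
      rw [dot_sl, dotProduct_comm v w, dotProduct_comm v (g w)]
      exact and_congr_right fun _ => map_eq_zero σ
    by_cases h5 : w ⬝ᵥ v = 0 ∧ w ⬝ᵥ sl A σ v = 0
    · rw [if_pos h5, if_pos (h4.1 h5)]
    · rw [if_neg h5, if_neg (fun h => h5 (h4.2 h))]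
  rw [h3] at h1
  rw [h1] at h2
  have h6 := Nat.add_left_cancel h2
  have hq1 : 1 < Fintype.card F := Fintype.one_lt_card
  have hpos : 0 < Fintype.card F ^ n * (Fintype.card F - 1) :=
    Nat.mul_pos (Nat.pow_pos (by omega)) (by omega)
  have h7 := Nat.eq_of_mul_eq_mul_left hpos h6
  rw [h7]
  congr 1
  ext w
  simp only [Finset.mem_filter, Finset.mem_univ, true_and]
  exact and_congr_right fun hw => fix_iff A σ hw

end count

/-- the action on the points -/
def pact (A : GL (Fin n) F) (σ : F ≃+* F) : ℙ F (Fin n → F) → ℙ F (Fin n → F) :=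
  Projectivization.map (sl A σ) (sl_injective A σ)

theorem pact_mk (A : GL (Fin n) F) (σ : F ≃+* F) (v : Fin n → F) (hv : v ≠ 0) :
    pact A σ (Projectivization.mk F v hv) = Projectivization.mk F (sl A σ v)
      (fun h => hv (sl_injective A σ (h.trans (map_zero _).symm))) := rfl

/-- points and vectors -/
theorem card_points [Fintype F] (A : GL (Fin n) F) (σ : F ≃+* F) :
    Nat.card {x : ℙ F (Fin n → F) // pact A σ x = x} * (Fintype.card F - 1) =
      Nat.card {v : Fin n → F // v ≠ 0 ∧ ∃ c : F, sl A σ v = c • v} := by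
  classical
  have h1 : Fintype.card F - 1 = Nat.card Fˣ := by
    rw [Nat.card_units, Nat.card_eq_fintype_card]
  rw [h1, ← Nat.card_prod]
  symm
  have key : ∀ (x : ℙ F (Fin n → F)) (c : Fˣ), pact A σ x = x ↔ ∃ d : F, sl A σ ((c : F) • x.rep) = d • ((c : F) • x.rep) := by
    intro x c
    have h2 : x = Projectivization.mk F ((c : F) • x.rep) (smul_ne_zero c.ne_zero x.rep_nonzero) := by
      conv_lhs => rw [← x.mk_rep]
      rw [Projectivization.mk_eq_mk_iff']
      exact ⟨((c⁻¹ : Fˣ) : F), by rw [smul_smul, Units.inv_mul, one_smul]⟩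
    conv_lhs => rw [h2, pact_mk, Projectivization.mk_eq_mk_iff']
    constructor
    · rintro ⟨a, ha⟩
      exact ⟨a, ha.symm⟩
    · rintro ⟨a, ha⟩
      exact ⟨a, ha.symm⟩
  symm
  refine Nat.card_congr (Equiv.ofBijective (fun p : {x : ℙ F (Fin n → F) // pact A σ x = x} × Fˣ =>
    (⟨((p.2 : F)) • p.1.1.rep, smul_ne_zero p.2.ne_zero p.1.1.rep_nonzero, (key p.1.1 p.2).1 p.1.2⟩ :
      {v : Fin n → F // v ≠ 0 ∧ ∃ c : F, sl A σ v = c • v})) ⟨?_, ?_⟩)
  · rintro ⟨⟨x, hx⟩, c⟩ ⟨⟨y, hy⟩, d⟩ h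
    have h2 : (c : F) • x.rep = (d : F) • y.rep := congrArg Subtype.val h
    have h3 : x = y := by
      rw [← x.mk_rep, ← y.mk_rep, Projectivization.mk_eq_mk_iff']
      refine ⟨((c⁻¹ : Fˣ) : F) * d, ?_⟩
      rw [← smul_smul, ← h2, smul_smul, Units.inv_mul, one_smul]
    subst h3
    have h4 : (c : F) = d := by
      have h5 : ((c : F) - d) • x.rep = 0 := by rw [sub_smul, h2, sub_self]
      rcases smul_eq_zero.1 h5 with h6 | h6
      · exact sub_eq_zero.1 h6
      · exact absurd h6 x.rep_nonzero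
    rw [Units.ext h4]
  · rintro ⟨v, hv, hc⟩
    obtain ⟨a, ha⟩ := Projectivization.exists_smul_eq_mk_rep F v hv
    have h2 : ((a⁻¹ : Fˣ) : F) • (Projectivization.mk F v hv).rep = v := by
      rw [← ha, Units.smul_def, smul_smul, Units.inv_mul, one_smul]
    refine ⟨⟨⟨Projectivization.mk F v hv, ?_⟩, a⁻¹⟩, Subtype.ext h2⟩
    rw [key _ a⁻¹, h2]
    exact hc

/-- **`A σ` and `A⁻ᵀ σ` fix the same number of points** -/
theorem card_fix_eq [Fintype F] (A : GL (Fin n) F) (σ : F ≃+* F) :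
    Nat.card {x : ℙ F (Fin n → F) // pact A σ x = x} =
      Nat.card {x : ℙ F (Fin n → F) // pact (Cfsg.Agent.Schreier.ClassPSL.ctr A) σ x = x} := by
  classical
  have hq1 : 1 < Fintype.card F := Fintype.one_lt_card
  apply Nat.eq_of_mul_eq_mul_right (show 0 < Fintype.card F - 1 by omega)
  rw [card_points, card_points, Nat.card_eq_fintype_card, Nat.card_eq_fintype_card, Fintype.card_subtype,
    Fintype.card_subtype]
  exact card_vec_fix A σ

end Cfsg.Agent.H732.ExtPSL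
end

-- part: H732/ExtPSL/Arith
section
/-!
# Arithmetic for the characters of order `(q^m - 1)/(q - 1)` (helper732, S4832)

`q = r ^ f`, `M = 1 + q + ... + q^(m-1)`, `m ≥ 2`: `M ∣ r^t - 1` implies `f ∣ t`; `M ∣ r^t + 1` implies `m = 2` and
`f ∣ t`.
-/

set_option autoImplicit false

namespace Cfsg.Agent.H732.ExtPSL

variable {r f m : ℕ}

theorem geo_lower (k q : ℕ) : 1 + q ^ (k + 1) ≤ ∑ i ∈ Finset.range (k + 2), q ^ i := by
  rw [Finset.sum_range_succ, Finset.sum_range_succ', pow_zero]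
  omega

theorem geo_lower' (k q : ℕ) (hk : 1 ≤ k) : 1 + q + q ^ (k + 1) ≤ ∑ i ∈ Finset.range (k + 2), q ^ i := by
  rw [Finset.sum_range_succ, Finset.sum_range_succ', pow_zero]
  have h : q ≤ ∑ i ∈ Finset.range k, q ^ (i + 1) := by
    have h1 := Finset.single_le_sum (f := fun i => q ^ (i + 1)) (s := Finset.range k) (fun i _ => Nat.zero_le _)
      (Finset.mem_range.2 (show 0 < k by omega))
    simpa using h1
  omega

theorem geo_coprime (hf : 0 < f) (hm : 2 ≤ m) : Nat.Coprime (∑ i ∈ Finset.range m, (r ^ f) ^ i) r := by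
  obtain ⟨k, rfl⟩ : ∃ k, m = k + 1 := ⟨m - 1, by omega⟩
  rw [Finset.sum_range_succ', pow_zero]
  have h1 : r ∣ ∑ i ∈ Finset.range k, (r ^ f) ^ (i + 1) := by
    apply Finset.dvd_sum
    intro i _
    exact (dvd_pow_self r hf.ne').trans (dvd_pow_self _ (Nat.succ_ne_zero i))
  obtain ⟨c, hc⟩ := h1
  rw [hc, Nat.coprime_mul_left_add_left]
  exact Nat.coprime_one_left r

/-- `r ^ (f m) = 1` modulo `M` -/
theorem geo_pow_eq (hr : 2 ≤ r) :
    ((r : ZMod (∑ i ∈ Finset.range m, (r ^ f) ^ i)) ^ (f * m)) = 1 := by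
  have hq : 1 ≤ r ^ f := Nat.one_le_pow _ _ (by omega)
  have h1 := geom_sum_mul_of_one_le hq m
  have h2 : (∑ i ∈ Finset.range m, (r ^ f) ^ i) ∣ (r ^ f) ^ m - 1 := ⟨_, h1.symm⟩
  have h3 := (ZMod.natCast_eq_zero_iff _ _).2 h2
  rw [Nat.cast_sub (Nat.one_le_pow _ _ (by omega)), sub_eq_zero] at h3
  rw [pow_mul]
  exact_mod_cast h3

/-- reduction of the exponent -/
theorem exists_red (hr : 2 ≤ r) (hf : 0 < f) (hm : 2 ≤ m) (t : ℕ) (ε : ZMod (∑ i ∈ Finset.range m, (r ^ f) ^ i))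
    (hε : ε * ε = 1) (h : ((r : ZMod (∑ i ∈ Finset.range m, (r ^ f) ^ i)) ^ t) = ε) :
    ∃ u : ℕ, 2 * u ≤ f * m ∧ (f ∣ u → f ∣ t) ∧ ((r : ZMod (∑ i ∈ Finset.range m, (r ^ f) ^ i)) ^ u) = ε := by
  have h0 := geo_pow_eq (f := f) (m := m) hr
  have h1 : ((r : ZMod (∑ i ∈ Finset.range m, (r ^ f) ^ i)) ^ (t % (f * m))) = ε := by
    rw [← h]
    conv_rhs => rw [← Nat.mod_add_div t (f * m), pow_add, pow_mul, h0, one_pow, mul_one]
  have hd : f ∣ t % (f * m) → f ∣ t := fun h2 => (Nat.dvd_mod_iff (dvd_mul_right f m)).1 h2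
  have hlt : t % (f * m) < f * m := Nat.mod_lt _ (by positivity)
  by_cases h2 : 2 * (t % (f * m)) ≤ f * m
  · exact ⟨_, h2, hd, h1⟩
  · refine ⟨f * m - t % (f * m), by omega, fun h3 => hd ?_, ?_⟩
    · have h4 : t % (f * m) = f * m - (f * m - t % (f * m)) := by omega
      rw [h4]
      exact Nat.dvd_sub (dvd_mul_right f m) h3
    · have h3 : ((r : ZMod (∑ i ∈ Finset.range m, (r ^ f) ^ i)) ^ (f * m - t % (f * m))) * ε = 1 := by
        rw [← h0, ← h1, ← pow_add]
        congr 1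
        omega
      calc _ = ((r : ZMod (∑ i ∈ Finset.range m, (r ^ f) ^ i)) ^ (f * m - t % (f * m))) * (ε * ε) := by
            rw [hε, mul_one]
        _ = _ := by rw [← mul_assoc, h3, one_mul]

theorem dvd_of_sub (hr : 2 ≤ r) (hf : 0 < f) (hm : 2 ≤ m) {t : ℕ}
    (h : (∑ i ∈ Finset.range m, (r ^ f) ^ i) ∣ r ^ t - 1) : f ∣ t := by
  have h3 := (ZMod.natCast_eq_zero_iff _ _).2 h
  rw [Nat.cast_sub (Nat.one_le_pow _ _ (by omega)), sub_eq_zero] at h3
  obtain ⟨u, hu, hd, h4⟩ := exists_red hr hf hm t 1 (one_mul 1) (by exact_mod_cast h3)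
  apply hd
  have h5 : (∑ i ∈ Finset.range m, (r ^ f) ^ i) ∣ r ^ u - 1 := by
    rw [← ZMod.natCast_eq_zero_iff, Nat.cast_sub (Nat.one_le_pow _ _ (by omega)), sub_eq_zero]
    exact_mod_cast h4
  obtain ⟨k, rfl⟩ : ∃ k, m = k + 2 := ⟨m - 2, by omega⟩
  have h6 := geo_lower k (r ^ f)
  have h7 : r ^ u ≤ (r ^ f) ^ (k + 1) := by
    rw [← pow_mul]
    apply Nat.pow_le_pow_right (by omega)
    nlinarith only [hu]
  have h8 : r ^ u - 1 = 0 := by
    by_contra hne
    have := Nat.le_of_dvd (Nat.pos_of_ne_zero hne) h5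
    omega
  have h9 : u = 0 := by
    by_contra hne
    have := Nat.one_lt_pow hne (show 1 < r by omega)
    omega
  rw [h9]
  exact dvd_zero f

theorem dvd_of_add (hr : 2 ≤ r) (hf : 0 < f) (hm : 2 ≤ m) {t : ℕ}
    (h : (∑ i ∈ Finset.range m, (r ^ f) ^ i) ∣ r ^ t + 1) : m = 2 ∧ f ∣ t := by
  have h3 := (ZMod.natCast_eq_zero_iff _ _).2 h
  obtain ⟨u, hu, hd, h4⟩ := exists_red hr hf hm t (-1) (by ring) (by
    rw [eq_neg_iff_add_eq_zero]
    exact_mod_cast h3)
  have h5 : (∑ i ∈ Finset.range m, (r ^ f) ^ i) ∣ r ^ u + 1 := by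
    rw [← ZMod.natCast_eq_zero_iff]
    push_cast
    rw [h4]
    ring
  have h9 := Nat.le_of_dvd (Nat.succ_pos _) h5
  obtain ⟨k, rfl⟩ : ∃ k, m = k + 2 := ⟨m - 2, by omega⟩
  have hlow := geo_lower k (r ^ f)
  have h7 : r ^ u ≤ (r ^ f) ^ (k + 1) := by
    rw [← pow_mul]
    apply Nat.pow_le_pow_right (by omega)
    nlinarith only [hu]
  have hk : k = 0 := by
    by_contra hk
    have := geo_lower' k (r ^ f) (by omega)
    have h10 : 0 < r ^ f := Nat.pow_pos (by omega)
    omega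
  subst hk
  refine ⟨rfl, hd ?_⟩
  have h8 : r ^ u = r ^ f := by
    rw [zero_add, pow_one] at h7 hlow
    omega
  have h10 : u = f := Nat.pow_right_injective hr h8
  rw [h10]

end Cfsg.Agent.H732.ExtPSL
end

-- part: H732/ExtPSL/Par
section
/-!
# The parameter of order `(q^m - 1)/(q - 1)` (helper732, S4832)

`Par F m θ` : `θ : L →*₀ ℂ` has order exactly `M = 1 + q + ... + q^(m-1)`.

* `exists_par`, `Par.regular`, `Par.triv`;
* `Par.fix_field` : if `X θ` on `SL_{m+1}(q)` is invariant under `cj A * fld σ` then `σ = 1`;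
* `Par.fix_graph` : if it is invariant under `cj A * fld σ * itr` then `m = 2` and `σ = 1`.
-/

set_option autoImplicit false
set_option linter.unusedSectionVars false
set_option linter.style.haveILetI false

open scoped ComplexConjugate
open Cfsg

namespace Cfsg.Agent.H732.ExtPSL

open Cfsg.Agent.H53.HC Cfsg.Agent.Characters MulAction Module Cfsg.Agent.H139.Cusp Matrix
open Cfsg.Agent.ClassicalGeometry.AutPSL.Auto

universe u v w

/-- `θ` has order `1 + q + ... + q^(m-1)` -/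
structure Par (F : Type u) {L : Type w} [Field L] (m : ℕ) (θ : L →*₀ ℂ) : Prop where
  pow : ∀ x : L, x ≠ 0 → θ x ^ (∑ i ∈ Finset.range m, Nat.card F ^ i) = 1
  dvd : ∀ k : ℕ, (∀ x : L, x ≠ 0 → θ x ^ k = 1) → (∑ i ∈ Finset.range m, Nat.card F ^ i) ∣ k

variable {F : Type u} [Field F] [Finite F] {L : Type w} [Field L] [Finite L] [Algebra F L] {m : ℕ}

theorem card_eq_mul (hL : finrank F L = m) :
    (Nat.card F - 1) * (∑ i ∈ Finset.range m, Nat.card F ^ i) = Nat.card L - 1 := by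
  have hq : 2 ≤ Nat.card F := Finite.one_lt_card
  have hcard : Nat.card L = Nat.card F ^ m := by
    rw [← hL]
    exact Module.natCard_eq_pow_finrank
  rw [hcard, mul_comm]
  exact geom_sum_mul_of_one_le (by omega) m

theorem exists_par (hL : finrank F L = m) : ∃ θ : L →*₀ ℂ, Par F m θ := by
  obtain ⟨θ, h1, h2⟩ := Cfsg.Agent.H113.PSL.Theta.exists_of_order (L := L)
    (k := ∑ i ∈ Finset.range m, Nat.card F ^ i) (by rw [← card_eq_mul hL]; exact dvd_mul_left _ _)
  exact ⟨θ, h1, h2⟩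

namespace Par

theorem triv (hL : finrank F L = m) {θ : L →*₀ ℂ} (h : Par F m θ) (a : F) (ha : a ≠ 0) :
    θ (algebraMap F L a) = 1 :=
  Cfsg.Agent.H113.PSL.Theta.theta_algebraMap (k := ∑ i ∈ Finset.range m, Nat.card F ^ i)
    (by rw [card_eq_mul hL]) h.pow a ha

theorem regular {θ : L →*₀ ℂ} (h : Par F m θ) : Regular F m θ := by
  intro i hi hin
  have hq : 2 ≤ Nat.card F := Finite.one_lt_card
  obtain ⟨x, hx⟩ := Cfsg.Agent.H113.PSL.Theta.theta_regular (k := ∑ i ∈ Finset.range m, Nat.card F ^ i)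
    (q := Nat.card F) (i := i) (θ := θ) (by omega) h.dvd (by
      intro hdvd
      have h3 : 0 < Nat.card F ^ i - 1 := Nat.sub_pos_of_lt (Nat.one_lt_pow (by omega) hq)
      have h4 := Nat.le_of_dvd h3 hdvd
      have h5 : Nat.card F ^ i ≤ ∑ i ∈ Finset.range m, Nat.card F ^ i :=
        Finset.single_le_sum (f := fun j => Nat.card F ^ j) (fun j _ => Nat.zero_le _) (Finset.mem_range.2 hin)
      omega)
  exact ⟨x, fun h => hx h.symm⟩

theorem ne_zero {θ : L →*₀ ℂ} {x : L} (hx : x ≠ 0) : θ x ≠ 0 := (map_ne_zero θ).2 hx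

theorem frob_eq (hm : 2 ≤ m) {θ : L →*₀ ℂ} (h : Par F m θ) {r f : ℕ} (hr : 2 ≤ r) (hf : 0 < f)
    (hq : Nat.card F = r ^ f) {i j : ℕ} (he : ∀ x : L, θ (x ^ r ^ j) = θ (x ^ Nat.card F ^ i)) : f ∣ j := by
  have hdvd := h.dvd
  rw [hq] at he hdvd
  have hcop := geo_coprime (r := r) hf hm
  rcases le_total j (f * i) with hle | hle
  · have h1 : (∑ i ∈ Finset.range m, (r ^ f) ^ i) ∣ r ^ j * (r ^ (f * i - j) - 1) := by
      apply hdvd
      intro x hx
      have h2 := he x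
      rw [map_pow, map_pow, ← pow_mul r f i] at h2
      have h3 : r ^ (f * i) = r ^ j + r ^ j * (r ^ (f * i - j) - 1) := by
        rw [Nat.mul_sub_one, ← pow_add, Nat.add_sub_cancel' hle, Nat.add_sub_cancel']
        exact Nat.pow_le_pow_right (by omega) hle
      rw [h3, pow_add] at h2
      have h4 := pow_ne_zero (r ^ j) (ne_zero (θ := θ) hx)
      exact mul_left_cancel₀ h4 (h2.symm.trans (mul_one _).symm)
    have h2 := Nat.Coprime.dvd_of_dvd_mul_left (hcop.pow_right j) h1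
    have h3 := dvd_of_sub hr hf hm h2
    have h4 := (Nat.dvd_sub_iff_right hle (dvd_mul_right f i)).1 h3
    exact h4
  · have h1 : (∑ i ∈ Finset.range m, (r ^ f) ^ i) ∣ r ^ (f * i) * (r ^ (j - f * i) - 1) := by
      apply hdvd
      intro x hx
      have h2 := he x
      rw [map_pow, map_pow, ← pow_mul r f i] at h2
      have h3 : r ^ j = r ^ (f * i) + r ^ (f * i) * (r ^ (j - f * i) - 1) := by
        rw [Nat.mul_sub_one, ← pow_add, Nat.add_sub_cancel' hle, Nat.add_sub_cancel']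
        exact Nat.pow_le_pow_right (by omega) hle
      rw [h3, pow_add] at h2
      have h4 := pow_ne_zero (r ^ (f * i)) (ne_zero (θ := θ) hx)
      exact mul_left_cancel₀ h4 (h2.trans (mul_one _).symm)
    have h2 := Nat.Coprime.dvd_of_dvd_mul_left (hcop.pow_right (f * i)) h1
    have h3 := dvd_of_sub hr hf hm h2
    have h4 := (Nat.dvd_sub_iff_left hle (dvd_mul_right f i)).1 h3
    exact h4

theorem conj_frob (hm : 2 ≤ m) {θ : L →*₀ ℂ} (h : Par F m θ) {r f : ℕ} (hr : 2 ≤ r) (hf : 0 < f)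
    (hq : Nat.card F = r ^ f) {i j : ℕ} (he : ∀ x : L, conj (θ (x ^ r ^ j)) = θ (x ^ Nat.card F ^ i)) :
    m = 2 ∧ f ∣ j := by
  have hdvd := h.dvd
  rw [hq] at he hdvd
  have hcop := geo_coprime (r := r) hf hm
  have h0 : (∑ i ∈ Finset.range m, (r ^ f) ^ i) ∣ r ^ (f * i) + r ^ j := by
    apply hdvd
    intro x hx
    have h2 := he x
    rw [conj_theta_eq, map_inv₀, map_pow, map_pow, ← pow_mul r f i] at h2
    rw [pow_add, ← h2]
    exact inv_mul_cancel₀ (pow_ne_zero _ (ne_zero hx))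
  rcases le_total j (f * i) with hle | hle
  · have h1 : (∑ i ∈ Finset.range m, (r ^ f) ^ i) ∣ r ^ j * (r ^ (f * i - j) + 1) := by
      rw [mul_add, mul_one, ← pow_add, Nat.add_sub_cancel' hle]
      exact h0
    have h2 := Nat.Coprime.dvd_of_dvd_mul_left (hcop.pow_right j) h1
    obtain ⟨h5, h3⟩ := dvd_of_add hr hf hm h2
    exact ⟨h5, (Nat.dvd_sub_iff_right hle (dvd_mul_right f i)).1 h3⟩
  · have h1 : (∑ i ∈ Finset.range m, (r ^ f) ^ i) ∣ r ^ (f * i) * (r ^ (j - f * i) + 1) := by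
      rw [mul_add, mul_one, ← pow_add, Nat.add_sub_cancel' hle, add_comm]
      exact h0
    have h2 := Nat.Coprime.dvd_of_dvd_mul_left (hcop.pow_right (f * i)) h1
    obtain ⟨h5, h3⟩ := dvd_of_add hr hf hm h2
    exact ⟨h5, (Nat.dvd_sub_iff_left hle (dvd_mul_right f i)).1 h3⟩

end Par

/-! ### automorphisms of `SL` -/

theorem toGL_cj_fld {n : ℕ} (A : GL (Fin n) F) (σ : F ≃+* F) (g : _root_.Matrix.SpecialLinearGroup (Fin n) F) :
    SpecialLinearGroup.toGL ((cj A * fld σ : MulAut (_root_.Matrix.SpecialLinearGroup (Fin _) F)) g) =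
      A * GeneralLinearGroup.map (σ : F →+* F) (SpecialLinearGroup.toGL g) * A⁻¹ := by
  apply Units.ext
  rfl

theorem toGL_itr {n : ℕ} (g : _root_.Matrix.SpecialLinearGroup (Fin n) F) :
    SpecialLinearGroup.toGL (itr g) = invTr (SpecialLinearGroup.toGL g) := by
  apply Units.ext
  rfl

/-- twisting `θ` -/
theorem regular_comp {θ : L →*₀ ℂ} (h : Regular F m θ) (τ : L ≃+* L) :
    Regular F m (θ.comp (τ : L →+* L).toMonoidWithZeroHom) := by
  intro i hi hin
  obtain ⟨y, hy⟩ := h i hi hin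
  refine ⟨τ.symm y, ?_⟩
  change θ (τ (τ.symm y)) ≠ θ (τ (τ.symm y ^ Nat.card F ^ i))
  rw [map_pow τ, RingEquiv.apply_symm_apply]
  exact hy

theorem regular_conj {θ : L →*₀ ℂ} (h : Regular F m θ) : Regular F m (conjTheta θ) := by
  intro i hi hin
  obtain ⟨y, hy⟩ := h i hi hin
  refine ⟨y, fun h1 => hy ?_⟩
  rw [conjTheta_apply, conjTheta_apply] at h1
  exact star_injective h1

theorem X_fld (hL : finrank F L = m) (θ : L →*₀ ℂ)
    {σ : F ≃+* F} {τ : L ≃+* L} (hτ : ∀ c : F, τ (algebraMap F L c) = algebraMap F L (σ c))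
    (A : GL (Fin (m + 1)) F) (g : _root_.Matrix.SpecialLinearGroup (Fin (m + 1)) F) :
    X F m θ (SpecialLinearGroup.toGL ((cj A * fld σ : MulAut (_root_.Matrix.SpecialLinearGroup (Fin _) F)) g)) =
      X F m (θ.comp (τ : L →+* L).toMonoidWithZeroHom) (SpecialLinearGroup.toGL g) := by
  rw [toGL_cj_fld, X_class θ, X_map hL hτ (θ := θ.comp (τ : L →+* L).toMonoidWithZeroHom) (fun x => rfl)]

/-- a power of the `q`-power map is trivial on `F` -/
theorem eq_one_of_dvd {p f j : ℕ} {σ : F ≃+* F} (hσ : ∀ x, σ x = x ^ p ^ j) (hq : Nat.card F = p ^ f) (h : f ∣ j) :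
    σ = 1 := by
  obtain ⟨k, rfl⟩ := h
  letI : Fintype F := Fintype.ofFinite F
  apply RingEquiv.ext
  intro x
  change σ x = x
  rw [hσ, pow_mul, ← hq, Nat.card_eq_fintype_card]
  exact FiniteField.pow_card_pow k x

namespace Par

theorem fix_field (hm : 2 ≤ m) (hL : finrank F L = m) {θ : L →*₀ ℂ} (h : Par F m θ) (A : GL (Fin (m + 1)) F)
    (σ : F ≃+* F) (hfix : ∀ g : _root_.Matrix.SpecialLinearGroup (Fin (m + 1)) F,
      X F m θ (SpecialLinearGroup.toGL ((cj A * fld σ : MulAut (_root_.Matrix.SpecialLinearGroup (Fin _) F)) g)) = X F m θ (SpecialLinearGroup.toGL g)) : σ = 1 := by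
  obtain ⟨p, hp'⟩ := CharP.exists F
  have : Fact p.Prime := ⟨CharP.char_is_prime F p⟩
  letI : Fintype F := Fintype.ofFinite F
  obtain ⟨f, -, hf⟩ := FiniteField.card F p
  rw [← Nat.card_eq_fintype_card] at hf
  obtain ⟨j, hj⟩ := Gal.exists_frob_pow (p := p) σ
  obtain ⟨τ, hτ1, hτ2⟩ := Gal.exists_ext (L := L) hj
  have hreg := h.regular
  obtain ⟨i, -, hi⟩ := exists_frob_of_X_eq hm hL hreg (regular_comp hreg τ) (by
    funext g
    exact ((X_fld hL θ hτ2 A g).symm.trans (hfix g)).symm)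
  refine eq_one_of_dvd hj hf (h.frob_eq hm (Fact.out : p.Prime).two_le f.2 hf (i := i) fun x => ?_)
  rw [← hi, ← hτ1]
  rfl

theorem fix_graph (hm : 2 ≤ m) (hL : finrank F L = m) {θ : L →*₀ ℂ} (h : Par F m θ) (A : GL (Fin (m + 1)) F)
    (σ : F ≃+* F) (hfix : ∀ g : _root_.Matrix.SpecialLinearGroup (Fin (m + 1)) F,
      X F m θ (SpecialLinearGroup.toGL ((cj A * fld σ * itr : MulAut (_root_.Matrix.SpecialLinearGroup (Fin _) F)) g)) = X F m θ (SpecialLinearGroup.toGL g)) :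
    m = 2 ∧ σ = 1 := by
  obtain ⟨p, hp'⟩ := CharP.exists F
  have : Fact p.Prime := ⟨CharP.char_is_prime F p⟩
  letI : Fintype F := Fintype.ofFinite F
  obtain ⟨f, -, hf⟩ := FiniteField.card F p
  rw [← Nat.card_eq_fintype_card] at hf
  obtain ⟨j, hj⟩ := Gal.exists_frob_pow (p := p) σ
  obtain ⟨τ, hτ1, hτ2⟩ := Gal.exists_ext (L := L) hj
  have hreg := h.regular
  have hreg' := regular_comp hreg τ
  obtain ⟨i, -, hi⟩ := exists_frob_of_X_eq hm hL hreg (regular_conj hreg') (by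
    funext g
    have h1 := hfix g
    rw [MulAut.mul_apply, X_fld hL θ hτ2 A, toGL_itr, X_invTr hm hL hreg'] at h1
    exact h1.symm)
  have h2 := h.conj_frob hm (Fact.out : p.Prime).two_le f.2 hf (i := i) (j := j) fun x => by
    rw [← hi, ← hτ1]
    rfl
  exact ⟨h2.1, eq_one_of_dvd hj hf h2.2⟩

end Par

end Cfsg.Agent.H732.ExtPSL
end

-- part: H732/ExtPSL/Stab
section
/-!
# The characters `X θ` of `PSL_{m+1}(q)` extend to their stabilisers (helper732, S4832)

`exists_ext` : `m ≥ 2`: there is `η ∈ Irr(PSL_{m+1}(q))` of degree `#hyperplanes * ∏_{0<i<m} (q^i - 1)` which extends to its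
stabiliser in `Aut(PSL_{m+1}(q))`.
-/

set_option autoImplicit false
set_option linter.unusedSectionVars false
set_option linter.style.haveILetI false

open scoped ComplexConjugate
open Cfsg

namespace Cfsg.Agent.H732.ExtPSL

open Cfsg.Agent.H53.HC Cfsg.Agent.Characters Module Cfsg.Agent.H139.Cusp Matrix
open Cfsg.Agent.ClassicalGeometry.AutPSL.Auto Cfsg.Agent.ClassicalGeometry.AutPSL.Root
open Cfsg.Agent.ClassicalGeometry.AutPSL.Main
open Cfsg.Agent.H576.Ext hiding cj

universe u v w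

/-! ### generalities -/

/-- `Inn S` of square free index in `A` -/
theorem sylCycIn_of_squarefree {S : Type u} [Group S] [Finite S] {A : Subgroup (MulAut S)}
    (h : Squarefree ((MulAut.conj (G := S)).range.relIndex A)) : SylCycIn A := by
  intro ℓ hℓ P hPA hP
  have : Fact ℓ.Prime := ⟨hℓ⟩
  have hfin : Finite (MulAut S) := inferInstance
  refine exists_gen_of_isCyclic_map ?_
  have h1 : IsPGroup ℓ (P.map (QuotientGroup.mk' (Cfsg.Inn S))) := hP.map _
  obtain ⟨n, hn⟩ := IsPGroup.iff_card.1 h1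
  have h2 : Nat.card (P.map (QuotientGroup.mk' (Cfsg.Inn S))) ∣ Nat.card (A.map (QuotientGroup.mk' (Cfsg.Inn S))) :=
    Subgroup.card_dvd_of_le (Subgroup.map_mono hPA)
  have h3 : Nat.card (A.map (QuotientGroup.mk' (Cfsg.Inn S))) = (MulAut.conj (G := S)).range.relIndex A := by
    have h4 := Subgroup.relIndex_ker A (QuotientGroup.mk' (Cfsg.Inn S))
    rw [QuotientGroup.ker_mk'] at h4
    rw [← h4]
  rw [hn, h3] at h2
  have h5 : n ≤ 1 := by
    by_contra h6
    have h7 : ℓ * ℓ ∣ (MulAut.conj (G := S)).range.relIndex A := by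
      rw [← sq]
      exact (pow_dvd_pow ℓ (by omega)).trans h2
    exact hℓ.one_lt.ne' (Nat.isUnit_iff.1 (h ℓ h7))
  have h6 : n = 0 ∨ n = 1 := by omega
  rcases h6 with h6 | h6
  · have h7 : Subsingleton (P.map (QuotientGroup.mk' (Cfsg.Inn S))) := by
      rw [← Finite.card_le_one_iff_subsingleton, hn, h6, pow_zero]
    exact isCyclic_of_subsingleton
  · exact isCyclic_of_prime_card (p := ℓ) (by rw [hn, h6, pow_one])

section psl

variable {F : Type u} [Field F] {n : ℕ}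

theorem conj_pr (g : _root_.Matrix.SpecialLinearGroup (Fin n) F) :
    MulAut.conj (pr g) = lift (cj (SpecialLinearGroup.toGL g)) := by
  ext x
  obtain ⟨x, rfl⟩ := pr_surjective x
  rw [lift_pr, MulAut.conj_apply, ← map_inv, ← map_mul, ← map_mul]
  congr 1

/-- the homomorphism `GL → Aut PSL` -/
def toAut (F : Type u) [Field F] (n : ℕ) : GL (Fin n) F →* MulAut (ProjectiveSpecialLinearGroup (Fin n) F) :=
  (lift (ι := Fin n) (F := F)).comp cj

theorem toAut_apply (A : GL (Fin n) F) : toAut F n A = lift (cj A) := rfl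

theorem toAut_eq_one (hn : 2 ≤ n) {A : GL (Fin n) F} (h : toAut F n A = 1) :
    ∃ c : Fˣ, A = GeneralLinearGroup.scalar (Fin n) c := by
  have : Nontrivial (Fin n) := Fin.nontrivial_iff_two_le.2 hn
  obtain ⟨⟨r, hr⟩, -⟩ := injective_aux (C := A) (σ := (1 : F ≃+* F)) (τ := 1)
    (by rw [map_one, mul_one, map_one]; exact h)
  have hr0 : r ≠ 0 := by
    rintro rfl
    have h1 : (A : Matrix (Fin n) (Fin n) F) = 0 := by rw [← hr, map_zero]
    have h2 : (A : Matrix (Fin n) (Fin n) F) * ((A⁻¹ : GL (Fin n) F) : Matrix (Fin n) (Fin n) F) = 1 := by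
      rw [← Units.val_mul, mul_inv_cancel, Units.val_one]
    rw [h1, zero_mul] at h2
    have i : Fin n := ⟨0, by omega⟩
    have := congrFun (congrFun h2 i) i
    rw [one_apply_eq] at this
    exact zero_ne_one this
  refine ⟨Units.mk0 r hr0, ?_⟩
  apply Units.ext
  rw [← hr]
  rfl

theorem toAut_scalar (c : Fˣ) : toAut F n (GeneralLinearGroup.scalar (Fin n) c) = 1 := by
  rw [toAut_apply, cj_eq_one_of_scalar (r := (c : F)) rfl, map_one]

theorem center_psl (hn : 2 ≤ n) : Subgroup.center (ProjectiveSpecialLinearGroup (Fin n) F) = ⊥ := by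
  rw [Subgroup.eq_bot_iff_forall]
  intro x hx
  obtain ⟨g, rfl⟩ := pr_surjective x
  have h1 : MulAut.conj (pr g) = 1 := by
    ext y
    rw [MulAut.conj_apply, MulAut.one_apply, ← Subgroup.mem_center_iff.1 hx y, mul_inv_cancel_right]
  rw [conj_pr] at h1
  obtain ⟨c, hc⟩ := toAut_eq_one hn h1
  rw [pr_eq_one_iff, Matrix.SpecialLinearGroup.mem_center_iff]
  have h2 : scalar (Fin n) (c : F) = (g : Matrix (Fin n) (Fin n) F) := by
    have := congrArg (fun B : GL (Fin n) F => (B : Matrix (Fin n) (Fin n) F)) hc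
    exact this.symm
  refine ⟨c, ?_, h2⟩
  have h3 := g.2
  rw [← h2, scalar_apply, det_diagonal, Finset.prod_const, Finset.card_univ] at h3
  exact h3

variable [Fintype F]

/-- `|Inn S|` in the group of the inner-diagonal automorphisms -/
theorem relIndex_inn (hn : 2 ≤ n) : (MulAut.conj (G := ProjectiveSpecialLinearGroup (Fin n) F)).range.relIndex
    (toAut F n).range ∣ Nat.gcd n (Fintype.card F - 1) := by
  rw [← Subgroup.index_comap, ← Cfsg.Agent.H113.PSL.Pass.index_range_toPGL hn,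
    ← Subgroup.index_comap_of_surjective _ (ProjGenLinGroup.mk_surjective (n := Fin n) (R := F))]
  apply Subgroup.index_dvd_of_le
  intro A hA
  obtain ⟨x, hx⟩ := hA
  obtain ⟨g, rfl⟩ := pr_surjective x
  have h1 : ProjectiveSpecialLinearGroup.toPGL (pr g) = ProjGenLinGroup.mk (SpecialLinearGroup.toGL g) :=
    ProjectiveSpecialLinearGroup.toPGL_mk g
  rw [h1] at hx
  obtain ⟨u, hu⟩ := ProjGenLinGroup.mk_eq_mk_iff.1 hx
  refine Subgroup.mem_comap.2 ⟨pr g, ?_⟩
  rw [conj_pr, ← toAut_apply, ← hu, map_mul, toAut_scalar, mul_one]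

end psl

section main

variable {F : Type u} [Field F] [Fintype F] {L : Type w} [Field L] [Finite L] [Algebra F L] {m : ℕ}

/-- deflation to `PSL` -/
theorem exists_deflate (hm : 2 ≤ m) (hL : finrank F L = m) {θ : L →*₀ ℂ} (h : Par F m θ) :
    ∃ η : ProjectiveSpecialLinearGroup (Fin (m + 1)) F → ℂ, IsIrrCharacter _ η ∧
      ∀ g : _root_.Matrix.SpecialLinearGroup (Fin (m + 1)) F, η (pr g) = X F m θ (SpecialLinearGroup.toGL g) := by
  classical
  have hirr := X_sl_isIrr hm hL h.regular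
  letI : Fintype (Subgroup.center (_root_.Matrix.SpecialLinearGroup (Fin (m + 1)) F)) := Fintype.ofFinite _
  have h1 : ∀ z : Subgroup.center (_root_.Matrix.SpecialLinearGroup (Fin (m + 1)) F),
      (X F m θ ∘ SpecialLinearGroup.toGL) (z : _root_.Matrix.SpecialLinearGroup (Fin (m + 1)) F) =
        (X F m θ ∘ SpecialLinearGroup.toGL) 1 := by
    rintro ⟨z, hz⟩
    obtain ⟨r, hr1, hr⟩ := Matrix.SpecialLinearGroup.mem_center_iff.1 hz
    have hr0 : r ≠ 0 := by
      rintro rfl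
      rw [Fintype.card_fin, zero_pow (by omega)] at hr1
      exact zero_ne_one hr1
    have h2 : SpecialLinearGroup.toGL z = GeneralLinearGroup.scalar (Fin (m + 1)) (Units.mk0 r hr0) := by
      apply Units.ext
      exact hr.symm
    rw [Function.comp_apply, Function.comp_apply, h2, map_one]
    exact X_scalar hL θ (h.triv hL) _
  have hsum : ∑ z : Subgroup.center (_root_.Matrix.SpecialLinearGroup (Fin (m + 1)) F),
      (X F m θ ∘ SpecialLinearGroup.toGL) (z : _root_.Matrix.SpecialLinearGroup (Fin (m + 1)) F) ≠ 0 := by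
    rw [Finset.sum_congr rfl fun z _ => h1 z, Finset.sum_const, nsmul_eq_mul]
    refine mul_ne_zero ?_ (Core.isIrr_apply_one_ne_zero hirr)
    rw [Finset.card_univ]
    exact_mod_cast Fintype.card_ne_zero
  obtain ⟨χ', h'⟩ := Blocks.Deflate.exists_deflation (Subgroup.center (_root_.Matrix.SpecialLinearGroup (Fin (m + 1)) F)) _ hirr hsum
  exact ⟨_, χ'.2, fun g => (congrFun h' g).symm⟩

/-- the matrices of determinant one as elements of `SL` -/
def slOf (F : Type u) [Field F] (n : ℕ) : (GeneralLinearGroup.det (n := Fin n) (R := F)).ker →* _root_.Matrix.SpecialLinearGroup (Fin n) F where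
  toFun A := ⟨((A : GL (Fin n) F) : Matrix (Fin n) (Fin n) F), by
    have h := A.2
    rw [MonoidHom.mem_ker] at h
    rw [← GeneralLinearGroup.val_det_apply, h, Units.val_one]⟩
  map_one' := rfl
  map_mul' _ _ := rfl

theorem toGL_slOf {n : ℕ} (A : (GeneralLinearGroup.det (n := Fin n) (R := F)).ker) :
    SpecialLinearGroup.toGL (slOf F n A) = A := Units.ext rfl

theorem slOf_surjective {n : ℕ} : Function.Surjective (slOf F n) := by
  intro g
  refine ⟨⟨SpecialLinearGroup.toGL g, ?_⟩, ?_⟩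
  · rw [MonoidHom.mem_ker]
    apply Units.ext
    exact g.2
  · apply Subtype.ext
    rfl

variable {θ : L →*₀ ℂ} {η : ProjectiveSpecialLinearGroup (Fin (m + 1)) F → ℂ}

theorem mem_stab_lift (hη : ∀ g : _root_.Matrix.SpecialLinearGroup (Fin (m + 1)) F, η (pr g) = X F m θ (SpecialLinearGroup.toGL g))
    (e : MulAut (_root_.Matrix.SpecialLinearGroup (Fin (m + 1)) F)) :
    lift e ∈ stab η ↔ ∀ g : _root_.Matrix.SpecialLinearGroup (Fin (m + 1)) F,
      X F m θ (SpecialLinearGroup.toGL (e g)) = X F m θ (SpecialLinearGroup.toGL g) := by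
  rw [mem_stab]
  constructor
  · intro h g
    have := h (pr g)
    rwa [lift_pr, hη, hη] at this
  · intro h s
    obtain ⟨g, rfl⟩ := pr_surjective s
    rw [lift_pr, hη, hη]
    exact h g

theorem range_toAut_le (hη : ∀ g : _root_.Matrix.SpecialLinearGroup (Fin (m + 1)) F, η (pr g) = X F m θ (SpecialLinearGroup.toGL g)) :
    (toAut F (m + 1)).range ≤ stab η := by
  rintro _ ⟨A, rfl⟩
  rw [toAut_apply, mem_stab_lift hη]
  intro g
  have h1 : SpecialLinearGroup.toGL (cj A g) = A * SpecialLinearGroup.toGL g * A⁻¹ := Units.ext rfl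
  rw [h1]
  exact X_class θ _ _

/-- the elements of the stabiliser -/
theorem stab_cases (hm : 2 ≤ m) (hL : finrank F L = m) (h : Par F m θ)
    (hη : ∀ g : _root_.Matrix.SpecialLinearGroup (Fin (m + 1)) F, η (pr g) = X F m θ (SpecialLinearGroup.toGL g))
    {α : MulAut (ProjectiveSpecialLinearGroup (Fin (m + 1)) F)} (hα : α ∈ stab η) :
    α ∈ (toAut F (m + 1)).range ∨ (m = 2 ∧ ∃ A : GL (Fin (m + 1)) F, α = lift (cj A * itr)) := by
  obtain ⟨p, hp'⟩ := CharP.exists F
  have : Fact p.Prime := ⟨CharP.char_is_prime F p⟩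
  rcases surj_three p (by omega) α with ⟨A, σ, rfl⟩ | ⟨A, σ, rfl⟩
  · left
    have h1 := h.fix_field hm hL A σ ((mem_stab_lift hη _).1 hα)
    subst h1
    exact ⟨A, by rw [map_one, mul_one]; rfl⟩
  · right
    obtain ⟨h1, h2⟩ := h.fix_graph hm hL A σ ((mem_stab_lift hη _).1 hα)
    subst h2
    exact ⟨h1, A, by rw [map_one, mul_one]⟩

/-- **extension, `m ≥ 3`** -/
theorem ext_of_three (hm : 3 ≤ m) (hL : finrank F L = m) (h : Par F m θ) (hirr : IsIrrCharacter _ η)
    (hη : ∀ g : _root_.Matrix.SpecialLinearGroup (Fin (m + 1)) F, η (pr g) = X F m θ (SpecialLinearGroup.toGL g)) :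
    ExtTo η (stab η) := by
  classical
  have hst : (toAut F (m + 1)).range ⊓ stab η = stab η := by
    apply inf_of_le_right
    intro α hα
    rcases stab_cases (by omega) hL h hη hα with h1 | ⟨h1, -⟩
    · exact h1
    · omega
  have hX := X_isIrr (by omega) hL h.regular
  rw [← hst]
  have e1 : ∀ n : (GeneralLinearGroup.det (n := Fin (m + 1)) (R := F)).ker,
      X F m θ (n : GL (Fin (m + 1)) F) = η (pr (slOf F (m + 1) n)) := by
    intro n
    rw [hη, toGL_slOf]
  refine extTo_of_hom (center_psl (by omega)) hirr (toAut F (m + 1)) (GeneralLinearGroup.det (n := Fin (m + 1)) (R := F)).ker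
    (pr.comp (slOf F (m + 1))) (pr_surjective.comp slOf_surjective) (fun n => ?_) hX (fun z hz => ?_) ?_
  · rw [MonoidHom.comp_apply, conj_pr, toGL_slOf]
    rfl
  · obtain ⟨c, rfl⟩ := toAut_eq_one (by omega) hz
    exact X_scalar hL θ (h.triv hL) c
  · intro _
    have h2 : IsIrrCharacter (GeneralLinearGroup.det (n := Fin (m + 1)) (R := F)).ker
        (fun n => η (pr (slOf F (m + 1) n))) :=
      Core.isIrr_comp (pr.comp (slOf F (m + 1))) (pr_surjective.comp slOf_surjective) hirr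
    have h3 : (fun n : (GeneralLinearGroup.det (n := Fin (m + 1)) (R := F)).ker => X F m θ (n : GL (Fin (m + 1)) F)) =
        (fun n => η (pr (slOf F (m + 1) n))) := funext e1
    rw [h3]
    exact Core.classInner_irr_self h2

/-- **extension, `m = 2`** -/
theorem ext_of_two (hm : m = 2) (hL : finrank F L = m) (h : Par F m θ) (hirr : IsIrrCharacter _ η)
    (hη : ∀ g : _root_.Matrix.SpecialLinearGroup (Fin (m + 1)) F, η (pr g) = X F m θ (SpecialLinearGroup.toGL g)) :
    ExtTo η (stab η) := by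
  classical
  refine extTo_of_sylCyc (center_psl (by omega)) hirr (inn_le_stab hirr) le_rfl (sylCycIn_of_squarefree ?_)
  have hI : (MulAut.conj (G := ProjectiveSpecialLinearGroup (Fin (m + 1)) F)).range ≤ (toAut F (m + 1)).range := by
    rintro _ ⟨x, rfl⟩
    obtain ⟨g, rfl⟩ := pr_surjective x
    exact ⟨_, (conj_pr g).symm⟩
  have hR := range_toAut_le hη
  rw [← Subgroup.relIndex_mul_relIndex _ _ _ hI hR]
  have h1 := (relIndex_inn (F := F) (n := m + 1) (by omega)).trans (Nat.gcd_dvd_left _ _)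
  have h2 : (toAut F (m + 1)).range.relIndex (stab η) ∣ 2 := by
    rw [Subgroup.relIndex_dvd_two_iff]
    by_cases hex : ∃ A : GL (Fin (m + 1)) F, lift (cj A * itr) ∈ stab η
    · obtain ⟨A, hA⟩ := hex
      refine ⟨_, hA, fun β hβ => ?_⟩
      rcases stab_cases (by omega) hL h hη hβ with h3 | ⟨-, B, rfl⟩
      · exact Or.inr h3
      · left
        rw [← map_mul]
        have h4 : (cj B * itr * (cj A * itr) : MulAut (_root_.Matrix.SpecialLinearGroup (Fin (m + 1)) F)) =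
            cj (B * Cfsg.Agent.Schreier.ClassPSL.ctr A) := by
          rw [mul_assoc, ← mul_assoc itr, Cfsg.Agent.Schreier.ClassPSL.itr_mul_cj, mul_assoc, itr_mul_itr, mul_one, map_mul]
        rw [h4]
        exact ⟨_, rfl⟩
    · refine ⟨1, (stab η).one_mem, fun β hβ => Or.inr ?_⟩
      rcases stab_cases (by omega) hL h hη hβ with h3 | ⟨-, B, rfl⟩
      · exact h3
      · exact absurd ⟨B, hβ⟩ hex
  subst hm
  have h3 : (MulAut.conj (G := ProjectiveSpecialLinearGroup (Fin (2 + 1)) F)).range.relIndex (toAut F (2 + 1)).range = 1 ∨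
      (MulAut.conj (G := ProjectiveSpecialLinearGroup (Fin (2 + 1)) F)).range.relIndex (toAut F (2 + 1)).range = 3 :=
    (Nat.dvd_prime Nat.prime_three).1 h1
  have h4 := (Nat.dvd_prime Nat.prime_two).1 h2
  have s6 : Squarefree (3 * 2) := by
    rw [Nat.squarefree_mul (by norm_num)]
    exact ⟨Nat.prime_three.squarefree, Nat.prime_two.squarefree⟩
  rcases h3 with h3 | h3 <;> rcases h4 with h4 | h4 <;> rw [h3, h4]
  · simp
  · simpa using Nat.prime_two.squarefree
  · simpa using Nat.prime_three.squarefree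
  · exact s6

end main

/-- **The character of degree `#hyperplanes * ∏_{0<i<m} (q^i - 1)` extends to its stabiliser.** -/
theorem exists_ext {F : Type u} [Field F] [Fintype F] {m : ℕ} (hm : 2 ≤ m) :
    ∃ η : ProjectiveSpecialLinearGroup (Fin (m + 1)) F → ℂ, IsIrrCharacter _ η ∧
      charDegree η = Nat.card {W : Submodule F (Fin (m + 1) → F) // finrank F W = m} *
        ∏ i ∈ Finset.Ico 1 m, (Fintype.card F ^ i - 1) ∧ ExtTo η (stab η) := by
  obtain ⟨p, hp⟩ := CharP.exists F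
  have hpp : Fact p.Prime := ⟨CharP.char_is_prime F p⟩
  have hnz : NeZero m := ⟨by omega⟩
  let L := FiniteField.Extension F p m
  have hL : Module.finrank F L = m := FiniteField.finrank_extension F p m
  obtain ⟨θ, h⟩ := exists_par (F := F) (L := L) hL
  obtain ⟨η, h1, h2⟩ := exists_deflate hm hL h
  refine ⟨η, h1, ?_, ?_⟩
  · apply Blocks.Basic.charDegree_of_eq
    have h3 := h2 1
    rw [map_one, map_one, X_one hm θ, Nat.card_eq_fintype_card (α := F)] at h3
    exact h3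
  · rcases (show m = 2 ∨ 3 ≤ m by omega) with h4 | h4
    · exact ext_of_two h4 hL h h1 h2
    · exact ext_of_three h4 hL h h1 h2

end Cfsg.Agent.H732.ExtPSL
end

-- part: H732/ExtPSL/Points
section
/-!
# The character of degree `q (q^(n-1) - 1)/(q - 1)` of `PSL_n(q)` extends to `Aut(PSL_n(q))` (helper732, S4832)

`exists_ext_points` : the permutation character on the points of the projective space minus one is an irreducible
character which extends to `Aut(PSL_n(q))`, `n ≥ 3`.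
-/

set_option autoImplicit false
set_option linter.unusedSectionVars false
set_option linter.style.haveILetI false

open Cfsg

namespace Cfsg.Agent.H732.ExtPSL

open Cfsg.Agent.Characters Module Matrix MulAction
open Cfsg.Agent.ClassicalGeometry.AutPSL.Auto Cfsg.Agent.ClassicalGeometry.AutPSL.Root
open Cfsg.Agent.ClassicalGeometry.AutPSL.Main
open Cfsg.Agent.H576.Ext hiding cj
open Cfsg.Agent.Schreier.ClassPSL

open scoped LinearAlgebra.Projectivization

universe u

section D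

variable {F : Type u} [Field F] {n : ℕ}

/-- the automorphisms `cj A * fld σ` of `SL` -/
def fldSub (F : Type u) [Field F] (n : ℕ) : Subgroup (MulAut (Matrix.SpecialLinearGroup (Fin n) F)) where
  carrier := {e | ∃ (A : GL (Fin n) F) (σ : F ≃+* F), e = cj A * fld σ}
  one_mem' := ⟨1, 1, by rw [map_one, map_one, mul_one]⟩
  mul_mem' := by
    rintro _ _ ⟨A, σ, rfl⟩ ⟨B, τ, rfl⟩
    refine ⟨A * GeneralLinearGroup.map (σ : F →+* F) B, σ * τ, ?_⟩
    rw [map_mul cj, map_mul fld, mul_assoc, ← mul_assoc (fld σ), fld_mul_cj]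
    simp only [mul_assoc]
  inv_mem' := by
    rintro _ ⟨A, σ, rfl⟩
    refine ⟨GeneralLinearGroup.map ((σ⁻¹ : F ≃+* F) : F →+* F) A⁻¹, σ⁻¹, ?_⟩
    rw [_root_.mul_inv_rev, ← map_inv, ← map_inv, fld_mul_cj]

/-- the projective semilinear group, as a group of automorphisms of `PSL` -/
def DD (F : Type u) [Field F] (n : ℕ) : Subgroup (MulAut (ProjectiveSpecialLinearGroup (Fin n) F)) :=
  (fldSub F n).map lift

theorem mem_DD {α : MulAut (ProjectiveSpecialLinearGroup (Fin n) F)} :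
    α ∈ DD F n ↔ ∃ (A : GL (Fin n) F) (σ : F ≃+* F), α = lift (cj A * fld σ) := by
  constructor
  · rintro ⟨e, ⟨A, σ, rfl⟩, rfl⟩
    exact ⟨A, σ, rfl⟩
  · rintro ⟨A, σ, rfl⟩
    exact ⟨_, ⟨A, σ, rfl⟩, rfl⟩

theorem inn_le_DD : (MulAut.conj (G := ProjectiveSpecialLinearGroup (Fin n) F)).range ≤ DD F n := by
  rintro _ ⟨x, rfl⟩
  obtain ⟨g, rfl⟩ := pr_surjective x
  rw [mem_DD]
  exact ⟨SpecialLinearGroup.toGL g, 1, by rw [conj_pr, map_one, mul_one]⟩

theorem itr_conj (A : GL (Fin n) F) (σ : F ≃+* F) :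
    lift itr * lift (cj A * fld σ) * (lift itr)⁻¹ = lift (cj (ctr A) * fld σ) := by
  rw [← map_inv, ← map_mul, ← map_mul]
  congr 1
  rw [mul_inv_eq_iff_eq_mul, ← mul_assoc, itr_mul_cj, mul_assoc, itr_mul_fld, ← mul_assoc]

theorem itr_conj_mem {d : MulAut (ProjectiveSpecialLinearGroup (Fin n) F)} (hd : d ∈ DD F n) :
    lift itr * d * (lift itr)⁻¹ ∈ DD F n := by
  obtain ⟨A, σ, rfl⟩ := mem_DD.1 hd
  rw [itr_conj, mem_DD]
  exact ⟨_, _, rfl⟩

theorem cases_DD [Fintype F] (hn : 3 ≤ n) (α : MulAut (ProjectiveSpecialLinearGroup (Fin n) F)) :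
    α ∈ DD F n ∨ ∃ d ∈ DD F n, α = d * lift itr := by
  obtain ⟨p, hp'⟩ := CharP.exists F
  have : Fact p.Prime := ⟨CharP.char_is_prime F p⟩
  rcases surj_three p hn α with ⟨A, σ, rfl⟩ | ⟨A, σ, rfl⟩
  · exact Or.inl (mem_DD.2 ⟨A, σ, rfl⟩)
  · exact Or.inr ⟨_, mem_DD.2 ⟨A, σ, rfl⟩, by rw [← map_mul]⟩

theorem norm_DD [Fintype F] (hn : 3 ≤ n) (a d : MulAut (ProjectiveSpecialLinearGroup (Fin n) F)) (hd : d ∈ DD F n) :
    a * d * a⁻¹ ∈ DD F n := by
  rcases cases_DD hn a with h | ⟨b, hb, rfl⟩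
  · exact (DD F n).mul_mem ((DD F n).mul_mem h hd) ((DD F n).inv_mem h)
  · have e : b * lift itr * d * (b * lift itr)⁻¹ = b * (lift itr * d * (lift itr)⁻¹) * b⁻¹ := by group
    rw [e]
    exact (DD F n).mul_mem ((DD F n).mul_mem hb (itr_conj_mem hd)) ((DD F n).inv_mem hb)

end D

section St

variable {F : Type u} [Field F] {n : ℕ}

theorem pr_smul_mk (g : Matrix.SpecialLinearGroup (Fin n) F) (v : Fin n → F) (hv : v ≠ 0)
    (hv' : (g : Matrix (Fin n) (Fin n) F) *ᵥ v ≠ 0) :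
    (pr g : ProjectiveSpecialLinearGroup (Fin n) F) • Projectivization.mk F v hv =
      Projectivization.mk F ((g : Matrix (Fin n) (Fin n) F) *ᵥ v) hv' := rfl

/-- equivariance -/
theorem pact_smul (A : GL (Fin n) F) (σ : F ≃+* F) (s : ProjectiveSpecialLinearGroup (Fin n) F) (x : ℙ F (Fin n → F)) :
    lift (cj A * fld σ) s • pact A σ x = pact A σ (s • x) := by
  obtain ⟨g, rfl⟩ := pr_surjective s
  induction x using Projectivization.ind with
  | _ v hv =>
    have hgv : (g : Matrix (Fin n) (Fin n) F) *ᵥ v ≠ 0 := by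
      intro h
      apply hv
      have h2 := congrArg (fun x => ((g⁻¹ : Matrix.SpecialLinearGroup (Fin n) F) : Matrix (Fin n) (Fin n) F) *ᵥ x) h
      simp only [mulVec_mulVec, ← Matrix.SpecialLinearGroup.coe_mul, inv_mul_cancel, Matrix.SpecialLinearGroup.coe_one,
        one_mulVec, mulVec_zero] at h2
      exact h2
    have h1 : ((cj A * fld σ : MulAut (Matrix.SpecialLinearGroup (Fin n) F)) g : Matrix (Fin n) (Fin n) F) *ᵥ (sl A σ v) =
        sl A σ ((g : Matrix (Fin n) (Fin n) F) *ᵥ v) := by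
      rw [MulAut.mul_apply, coe_cj, sl_apply, sl_apply, mulVec_mulVec]
      have h2 : (A : Matrix (Fin n) (Fin n) F) * (fld σ g : Matrix (Fin n) (Fin n) F) *
          ((A⁻¹ : GL (Fin n) F) : Matrix (Fin n) (Fin n) F) * (A : Matrix (Fin n) (Fin n) F) =
          (A : Matrix (Fin n) (Fin n) F) * (fld σ g : Matrix (Fin n) (Fin n) F) := by
        rw [mul_assoc _ _ (A : Matrix (Fin n) (Fin n) F), ← Units.val_mul, inv_mul_cancel, Units.val_one, mul_one]
      rw [h2, ← mulVec_mulVec]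
      congr 1
      ext i
      change ∑ k, σ ((g : Matrix (Fin n) (Fin n) F) i k) * σ (v k) = σ (∑ k, (g : Matrix (Fin n) (Fin n) F) i k * v k)
      rw [map_sum]
      exact Finset.sum_congr rfl fun k _ => (map_mul _ _ _).symm
    rw [lift_pr, pr_smul_mk g v hv hgv, pact_mk, pact_mk, pr_smul_mk _ _ _ (by
      rw [h1]
      exact fun h => hgv (sl_injective A σ (h.trans (map_zero _).symm)))]
    congr 1

theorem pact_injective (A : GL (Fin n) F) (σ : F ≃+* F) : Function.Injective (pact A σ) := by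
  have : RingHomInvPair (σ : F →+* F) (σ.symm : F →+* F) := RingHomInvPair.of_ringEquiv σ
  exact Projectivization.map_injective (τ := (σ.symm : F →+* F)) (sl A σ) (sl_injective A σ)

/-- the point stabilisers -/
theorem map_stabilizer (A : GL (Fin n) F) (σ : F ≃+* F) (x : ℙ F (Fin n → F)) :
    (stabilizer (ProjectiveSpecialLinearGroup (Fin n) F) x).map (lift (cj A * fld σ)).toMonoidHom =
      stabilizer (ProjectiveSpecialLinearGroup (Fin n) F) (pact A σ x) := by
  ext s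
  obtain ⟨t, rfl⟩ := (lift (cj A * fld σ)).surjective s
  rw [mem_stabilizer_iff, pact_smul]
  constructor
  · rintro ⟨u, hu, h⟩
    have h1 : u = t := (lift (cj A * fld σ)).injective h
    subst h1
    rw [mem_stabilizer_iff.1 hu]
  · intro h
    exact ⟨t, mem_stabilizer_iff.2 (pact_injective A σ h), rfl⟩

theorem two_trans : IsMultiplyPretransitive (ProjectiveSpecialLinearGroup (Fin n) F) (ℙ F (Fin n → F)) 2 := by
  have h : IsMultiplyPretransitive (Matrix.SpecialLinearGroup (Fin n) F) (ℙ F (Fin n → F)) 2 := inferInstance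
  constructor
  intro x y
  obtain ⟨g, hg⟩ := h.exists_smul_eq x y
  refine ⟨QuotientGroup.mk g, ?_⟩
  rw [← hg]
  ext i
  rfl

theorem exists_two (a b c d : ℙ F (Fin n → F)) (hab : a ≠ b) (hcd : c ≠ d) :
    ∃ g : ProjectiveSpecialLinearGroup (Fin n) F, g • a = c ∧ g • b = d :=
  is_two_pretransitive_iff.1 two_trans hab hcd

theorem card_points_eq [Fintype F] (hn : 1 ≤ n) : Nat.card (ℙ F (Fin n → F)) =
    Fintype.card F * (∑ i ∈ Finset.range (n - 1), Fintype.card F ^ i) + 1 := by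
  rw [Projectivization.card_of_finrank F (Fin n → F) (n := n) (by simp only [_root_.Module.finrank_fintype_fun_eq_card, _root_.Fintype.card_fin]), Nat.card_eq_fintype_card]
  obtain ⟨k, rfl⟩ : ∃ k, n = k + 1 := ⟨n - 1, by omega⟩
  rw [Finset.sum_range_succ', Nat.add_sub_cancel, Finset.mul_sum]
  congr 1
  refine Finset.sum_congr rfl fun i _ => ?_
  rw [pow_succ']

theorem finite_points [Fintype F] : Finite (ℙ F (Fin n → F)) := by
  unfold Projectivization
  infer_instance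

theorem stabilizer_injective [Fintype F] (hn : 2 ≤ n) :
    Function.Injective (fun x : ℙ F (Fin n → F) => stabilizer (ProjectiveSpecialLinearGroup (Fin n) F) x) := by
  classical
  intro x y hxy
  by_contra hne
  have hfin := finite_points (F := F) (n := n)
  letI : Fintype (ℙ F (Fin n → F)) := Fintype.ofFinite _
  have hq : 1 < Fintype.card F := Fintype.one_lt_card
  have hcard : 3 ≤ Fintype.card (ℙ F (Fin n → F)) := by
    rw [← Nat.card_eq_fintype_card, card_points_eq (by omega)]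
    have : 1 ≤ ∑ i ∈ Finset.range (n - 1), Fintype.card F ^ i := by
      have h1 := Finset.single_le_sum (f := fun i => Fintype.card F ^ i) (s := Finset.range (n - 1))
        (fun i _ => Nat.zero_le _) (Finset.mem_range.2 (show 0 < n - 1 by omega))
      simpa only [_root_.ge_iff_le, _root_.pow_zero] using h1
    nlinarith
  obtain ⟨z, hz⟩ : ∃ z : ℙ F (Fin n → F), z ∉ ({x, y} : Finset (ℙ F (Fin n → F))) := by
    by_contra hno
    push Not at hno
    have h1 := Finset.card_le_card (fun z _ => hno z : (Finset.univ : Finset (ℙ F (Fin n → F))) ⊆ {x, y})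
    have h2 := Finset.card_le_two (a := x) (b := y)
    rw [Finset.card_univ] at h1
    omega
  simp only [Finset.mem_insert, Finset.mem_singleton, not_or] at hz
  obtain ⟨g, hg1, hg2⟩ := exists_two x y x z hne (Ne.symm hz.1)
  have h1 : g ∈ stabilizer (ProjectiveSpecialLinearGroup (Fin n) F) y := by
    have h2 : g ∈ stabilizer (ProjectiveSpecialLinearGroup (Fin n) F) x := mem_stabilizer_iff.2 hg1
    have h3 : stabilizer (ProjectiveSpecialLinearGroup (Fin n) F) x =
      stabilizer (ProjectiveSpecialLinearGroup (Fin n) F) y := hxy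
    rwa [h3] at h2
  rw [mem_stabilizer_iff, hg2] at h1
  exact hz.2 h1

/-- the set of the point stabilisers -/
def Om (F : Type u) [Field F] (n : ℕ) : Type u :=
  {H : Subgroup (ProjectiveSpecialLinearGroup (Fin n) F) // ∃ x : ℙ F (Fin n → F),
    stabilizer (ProjectiveSpecialLinearGroup (Fin n) F) x = H}

instance instActOm : MulAction (DD F n) (Om F n) where
  smul d H := ⟨H.1.map (d : MulAut (ProjectiveSpecialLinearGroup (Fin n) F)).toMonoidHom, by
    obtain ⟨A, σ, h⟩ := mem_DD.1 d.2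
    obtain ⟨x, hx⟩ := H.2
    refine ⟨pact A σ x, ?_⟩
    rw [← map_stabilizer, h, ← hx]⟩
  one_smul H := Subtype.ext (Subgroup.map_id _)
  mul_smul a b H := Subtype.ext (by
    change H.1.map ((a : MulAut (ProjectiveSpecialLinearGroup (Fin n) F)).toMonoidHom.comp
      (b : MulAut (ProjectiveSpecialLinearGroup (Fin n) F)).toMonoidHom) = _
    rw [← Subgroup.map_map]
    rfl)

/-- the point with given stabiliser -/
def omk (x : ℙ F (Fin n → F)) : Om F n := ⟨_, x, rfl⟩

theorem omk_surjective : Function.Surjective (omk (F := F) (n := n)) := by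
  rintro ⟨H, x, rfl⟩
  exact ⟨x, rfl⟩

theorem omk_injective [Fintype F] (hn : 2 ≤ n) : Function.Injective (omk (F := F) (n := n)) := fun _ _ h =>
  stabilizer_injective hn (congrArg Subtype.val h)

theorem smul_omk {A : GL (Fin n) F} {σ : F ≃+* F} {d : MulAut (ProjectiveSpecialLinearGroup (Fin n) F)} (hd : d ∈ DD F n)
    (h : d = lift (cj A * fld σ)) (x : ℙ F (Fin n → F)) : (⟨d, hd⟩ : DD F n) • omk x = omk (pact A σ x) := by
  apply Subtype.ext
  change (stabilizer (ProjectiveSpecialLinearGroup (Fin n) F) x).map d.toMonoidHom = _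
  rw [h, map_stabilizer]
  rfl

theorem smul_omk_conj (s : ProjectiveSpecialLinearGroup (Fin n) F) (x : ℙ F (Fin n → F)) :
    (⟨MulAut.conj s, inn_le_DD ⟨s, rfl⟩⟩ : DD F n) • omk x = omk (s • x) := by
  apply Subtype.ext
  exact (stabilizer_smul_eq_stabilizer_map_conj s x).symm

theorem finite_om [Fintype F] : Finite (Om F n) := by
  have := finite_points (F := F) (n := n)
  exact Finite.of_surjective _ omk_surjective

theorem card_om [Fintype F] (hn : 2 ≤ n) : Nat.card (Om F n) = Nat.card (ℙ F (Fin n → F)) :=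
  (Nat.card_congr (Equiv.ofBijective _ ⟨omk_injective hn, omk_surjective⟩)).symm

theorem two_trans_om : IsMultiplyPretransitive (DD F n) (Om F n) 2 := by
  rw [is_two_pretransitive_iff]
  intro a b c d hab hcd
  obtain ⟨a, rfl⟩ := omk_surjective a
  obtain ⟨b, rfl⟩ := omk_surjective b
  obtain ⟨c, rfl⟩ := omk_surjective c
  obtain ⟨d, rfl⟩ := omk_surjective d
  obtain ⟨g, hg1, hg2⟩ := exists_two a b c d (fun h => hab (by rw [h])) (fun h => hcd (by rw [h]))
  exact ⟨⟨MulAut.conj g, inn_le_DD ⟨g, rfl⟩⟩, by rw [smul_omk_conj, hg1], by rw [smul_omk_conj, hg2]⟩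

/-- the number of fixed points -/
theorem card_fixedBy [Fintype F] (hn : 2 ≤ n) {A : GL (Fin n) F} {σ : F ≃+* F}
    {d : MulAut (ProjectiveSpecialLinearGroup (Fin n) F)} (hd : d ∈ DD F n) (h : d = lift (cj A * fld σ)) :
    Nat.card (fixedBy (Om F n) (⟨d, hd⟩ : DD F n)) = Nat.card {x : ℙ F (Fin n → F) // pact A σ x = x} := by
  symm
  refine Nat.card_congr (Equiv.subtypeEquiv (Equiv.ofBijective _ ⟨omk_injective hn, omk_surjective⟩) fun x => ?_)
  rw [mem_fixedBy]
  change _ ↔ (⟨d, hd⟩ : DD F n) • omk x = omk x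
  rw [smul_omk hd h]
  exact ⟨fun h => by rw [h], fun h => omk_injective hn h⟩

theorem card_fixedBy_conj [Fintype F] (hn : 2 ≤ n) (s : ProjectiveSpecialLinearGroup (Fin n) F) :
    Nat.card (fixedBy (Om F n) (⟨MulAut.conj s, inn_le_DD ⟨s, rfl⟩⟩ : DD F n)) =
      Nat.card (fixedBy (ℙ F (Fin n → F)) s) := by
  symm
  refine Nat.card_congr (Equiv.subtypeEquiv (Equiv.ofBijective _ ⟨omk_injective hn, omk_surjective⟩) fun x => ?_)
  rw [mem_fixedBy, mem_fixedBy]
  change _ ↔ (⟨MulAut.conj s, inn_le_DD ⟨s, rfl⟩⟩ : DD F n) • omk x = omk x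
  rw [smul_omk_conj]
  exact ⟨fun h => by rw [h], fun h => omk_injective hn h⟩

end St

/-- **The character of degree `q (q^(n-1) - 1)/(q - 1)` extends to `Aut(PSL_n(q))`.** -/
theorem exists_ext_points {F : Type u} [Field F] [Fintype F] {n : ℕ} (hn : 3 ≤ n) :
    ∃ η : ProjectiveSpecialLinearGroup (Fin n) F → ℂ, IsIrrCharacter _ η ∧
      charDegree η = Fintype.card F * (∑ i ∈ Finset.range (n - 1), Fintype.card F ^ i) ∧ ExtTo η (stab η) := by
  classical
  have hfp := finite_points (F := F) (n := n)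
  have hfo := finite_om (F := F) (n := n)
  have hfin : Finite (ProjectiveSpecialLinearGroup (Fin n) F) := by
    unfold ProjectiveSpecialLinearGroup
    infer_instance
  have hfa : Finite (MulAut (ProjectiveSpecialLinearGroup (Fin n) F)) := inferInstance
  have hcard := card_points_eq (F := F) (n := n) (by omega)
  have hq : 1 < Fintype.card F := Fintype.one_lt_card
  have hpos : 1 ≤ ∑ i ∈ Finset.range (n - 1), Fintype.card F ^ i := by
    have h1 := Finset.single_le_sum (f := fun i => Fintype.card F ^ i) (s := Finset.range (n - 1))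
      (fun i _ => Nat.zero_le _) (Finset.mem_range.2 (show 0 < n - 1 by omega))
    simpa only [_root_.ge_iff_le, _root_.pow_zero] using h1
  have hcard2 : 2 ≤ Nat.card (ℙ F (Fin n → F)) := by
    rw [hcard]
    nlinarith only [hq, hpos]
  have h2 := two_trans (F := F) (n := n)
  have h2' := two_trans_om (F := F) (n := n)
  have htr : IsPretransitive (ProjectiveSpecialLinearGroup (Fin n) F) (ℙ F (Fin n → F)) :=
    MulAction.isPretransitive_of_is_two_pretransitive
  have htr' : IsPretransitive (DD F n) (Om F n) := MulAction.isPretransitive_of_is_two_pretransitive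
  have hη := (Cfsg.Agent.S0157.result (G := ProjectiveSpecialLinearGroup (Fin n) F) (ℙ F (Fin n → F)) hcard2).2 h2
  have hψ := (Cfsg.Agent.S0157.result (G := DD F n) (Om F n) (by rw [card_om (by omega)]; exact hcard2)).2 h2'
  have hinv : ∀ (a : MulAut (ProjectiveSpecialLinearGroup (Fin n) F)) (ha : a ∈ (⊤ : Subgroup _))
      (d : MulAut (ProjectiveSpecialLinearGroup (Fin n) F)) (hd : d ∈ DD F n),
      (Nat.card (fixedBy (Om F n) (⟨a * d * a⁻¹, norm_DD hn a d hd⟩ : DD F n)) : ℂ) - 1 =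
        (Nat.card (fixedBy (Om F n) (⟨d, hd⟩ : DD F n)) : ℂ) - 1 := by
    intro a _ d hd
    have hcl := Core.isIrr_isClassFunction hψ
    rcases cases_DD hn a with ha | ⟨b, hb, rfl⟩
    · exact hcl ⟨d, hd⟩ ⟨a, ha⟩
    · have hd' := itr_conj_mem hd
      have e : (⟨b * lift itr * d * (b * lift itr)⁻¹, norm_DD hn (b * lift itr) d hd⟩ : DD F n) =
          ⟨b, hb⟩ * ⟨lift itr * d * (lift itr)⁻¹, hd'⟩ * ⟨b, hb⟩⁻¹ := by
        apply Subtype.ext
        change b * lift itr * d * (b * lift itr)⁻¹ = b * (lift itr * d * (lift itr)⁻¹) * b⁻¹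
        group
      rw [e]
      refine (hcl ⟨lift itr * d * (lift itr)⁻¹, hd'⟩ ⟨b, hb⟩).trans ?_
      obtain ⟨A, σ, hA⟩ := mem_DD.1 hd
      have hB : lift itr * d * (lift itr)⁻¹ = lift (cj (ctr A) * fld σ) := by rw [hA, itr_conj]
      change (Nat.card (fixedBy (Om F n) (⟨lift itr * d * (lift itr)⁻¹, hd'⟩ : DD F n)) : ℂ) - 1 = _
      rw [card_fixedBy (by omega) hd hA, card_fixedBy (by omega) hd' hB, ← card_fix_eq]
  have hψη : ∀ s : ProjectiveSpecialLinearGroup (Fin n) F,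
      (Nat.card (fixedBy (Om F n) (⟨MulAut.conj s, inn_le_DD ⟨s, rfl⟩⟩ : DD F n)) : ℂ) - 1 =
        (Nat.card (fixedBy (ℙ F (Fin n → F)) s) : ℂ) - 1 := by
    intro s
    rw [card_fixedBy_conj (by omega)]
  have hst : stab (fun s : ProjectiveSpecialLinearGroup (Fin n) F =>
      (Nat.card (fixedBy (ℙ F (Fin n → F)) s) : ℂ) - 1) = ⊤ := by
    rw [eq_top_iff]
    intro a _ s
    change (Nat.card (fixedBy (ℙ F (Fin n → F)) (a s)) : ℂ) - 1 = (Nat.card (fixedBy (ℙ F (Fin n → F)) s) : ℂ) - 1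
    rw [← hψη, ← hψη, ← hinv a trivial (MulAut.conj s) (inn_le_DD ⟨s, rfl⟩)]
    have e : (⟨MulAut.conj (a s), inn_le_DD ⟨a s, rfl⟩⟩ : DD F n) =
        ⟨a * MulAut.conj s * a⁻¹, norm_DD hn a _ (inn_le_DD ⟨s, rfl⟩)⟩ :=
      Subtype.ext (mul_conj_mul_inv a s).symm
    rw [e]
  refine ⟨_, hη, ?_, ?_⟩
  · apply Blocks.Basic.charDegree_of_eq
    have h3 : fixedBy (ℙ F (Fin n → F)) (1 : ProjectiveSpecialLinearGroup (Fin n) F) = Set.univ := by
      ext i
      simp
    rw [h3, Nat.card_univ, hcard]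
    push_cast
    ring
  · rw [hst]
    refine extTo_of_step (center_psl (by omega)) hη inn_le_DD le_top (by rw [hst]) (fun a _ d hd => norm_DD hn a d hd)
      hψ hψη hinv ?_
    intro ℓ _ P _ _
    by_cases hex : ∃ γ ∈ P, γ ∉ DD F n
    · obtain ⟨γ, hγ, hγ'⟩ := hex
      refine ⟨γ, hγ, fun α _ => ?_⟩
      rcases cases_DD hn α with h3 | ⟨b, hb, rfl⟩
      · exact ⟨0, α, h3, by rw [zpow_zero, mul_one]⟩
      · rcases cases_DD hn γ with h4 | ⟨c, hc, rfl⟩
        · exact absurd h4 hγ'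
        · refine ⟨1, b * c⁻¹, (DD F n).mul_mem hb ((DD F n).inv_mem hc), ?_⟩
          rw [zpow_one]
          group
    · push Not at hex
      exact ⟨1, P.one_mem, fun α hα => ⟨0, α, hex α hα, by rw [zpow_zero, mul_one]⟩⟩

end Cfsg.Agent.H732.ExtPSL
end

-- part: H732/ExtPSL/Row
section
/-!
# S4832, rows `PSL_n(q)`, `n ≥ 3` (helper732)

`row_psl` : every prime divisor `p` of `|PSL_n(q)|`, `n ≥ 3`, divides the degree of an irreducible character which extends
to its stabiliser in `Aut(PSL_n(q))`.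
-/

set_option autoImplicit false
set_option linter.unusedSectionVars false

open Cfsg

namespace Cfsg.Agent.H732.ExtPSL

open Cfsg.Agent.Characters Module Matrix Cfsg.Agent.H576.Ext Cfsg.Agent.H113.PSL.Facts

universe u v

variable {F : Type u} [Field F] [Fintype F]

/-- primes dividing `q^i - 1`, `0 < i < n - 1`, or the number of hyperplanes -/
theorem ext_of_dvd {m p : ℕ} (hm : 2 ≤ m)
    (h : (∃ i, 1 ≤ i ∧ i < m ∧ p ∣ Fintype.card F ^ i - 1) ∨
      p ∣ Nat.card {W : Submodule F (Fin (m + 1) → F) // finrank F W = m}) :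
    HasExt p (ProjectiveSpecialLinearGroup (Fin (m + 1)) F) := by
  obtain ⟨η, h1, h2, h3⟩ := exists_ext (F := F) hm
  refine ⟨η, h1, ?_, h3⟩
  rw [h2]
  rcases h with ⟨i, hi1, hi2, hi⟩ | h
  · exact (hi.trans (Finset.dvd_prod_of_mem (fun i => Fintype.card F ^ i - 1) (Finset.mem_Ico.2 ⟨hi1, hi2⟩))).mul_left _
  · exact h.mul_right _

/-- primes dividing `q` or `(q^(n-1) - 1)/(q - 1)` -/
theorem ext_of_dvd_points {n p : ℕ} (hn : 3 ≤ n)
    (h : p ∣ Fintype.card F ∨ p ∣ ∑ i ∈ Finset.range (n - 1), Fintype.card F ^ i) :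
    HasExt p (ProjectiveSpecialLinearGroup (Fin n) F) := by
  obtain ⟨η, h1, h2, h3⟩ := exists_ext_points (F := F) hn
  refine ⟨η, h1, ?_, h3⟩
  rw [h2]
  rcases h with h | h
  · exact h.mul_right _
  · exact h.mul_left _

/-- **S4832 for `PSL_n(q)`, `n ≥ 3`.** -/
theorem row_psl {n p : ℕ} (hn : 3 ≤ n) (hp : p.Prime)
    (hd : p ∣ Nat.card (ProjectiveSpecialLinearGroup (Fin n) F)) :
    HasExt p (ProjectiveSpecialLinearGroup (Fin n) F) := by
  obtain ⟨m, rfl⟩ : ∃ m, n = m + 1 := ⟨n - 1, by omega⟩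
  have hm : 2 ≤ m := by omega
  have hcard := Cfsg.Agent.H113.PSL.Degrees.card_hyper (F := F) (V := Fin (m + 1) → F) (m := m) (finrank_fin_fun F)
  have hone : p ∣ Fintype.card F - 1 → HasExt p (ProjectiveSpecialLinearGroup (Fin (m + 1)) F) := fun h =>
    ext_of_dvd hm (Or.inl ⟨1, le_rfl, by omega, by rwa [pow_one]⟩)
  rcases cover hp hd with h | ⟨i, hi1, hi2, hi⟩ | h | ⟨i, hi1, hi2, hi⟩
  · exact ext_of_dvd_points hn (Or.inl h)
  · rcases (show i < m ∨ i = m by omega) with h3 | rfl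
    · exact ext_of_dvd hm (Or.inl ⟨i, hi1, h3, hi⟩)
    · rw [← geom, hp.dvd_mul] at hi
      rcases hi with hi | hi
      · exact ext_of_dvd_points hn (Or.inr (by rwa [Nat.add_sub_cancel]))
      · exact hone hi
  · rw [← hcard, hp.dvd_mul] at h
    rcases h with h | h
    · exact ext_of_dvd hm (Or.inr h)
    · exact hone h
  · exact ext_of_dvd hm (Or.inl ⟨i, hi1, by omega, hi⟩)

/-- the row, up to isomorphism -/
theorem row_psl_of_equiv {S : Type v} [Group S] {n p : ℕ} (hn : 3 ≤ n)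
    (e : S ≃* ProjectiveSpecialLinearGroup (Fin n) F) (hp : p.Prime) (hd : p ∣ Nat.card S) : HasExt p S :=
  HasExt.of_equiv e (row_psl hn hp (by rwa [← Nat.card_congr e.toEquiv]))

end Cfsg.Agent.H732.ExtPSL
end

-- part: H212/Ext/OutLem
section
/-!
# Subgroups of `Aut S` with Sylow-cyclic image in `Out S`, if `Out S` is an extension of a group of
order three by a cyclic group (helper212, S4832)
-/

set_option autoImplicit false
set_option linter.unusedSectionVars false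

open Cfsg

namespace Cfsg.Agent.H212.Ext

open Cfsg.Agent.H576.Ext

universe u v

variable {S : Type u} [Group S] {C : Type v} [CommGroup C] [IsCyclic C] (ψ : MulAut S →* C)

theorem gen_of_inf {P : Subgroup (MulAut S)} (h : P ⊓ ψ.ker ≤ (MulAut.conj (G := S)).range) :
    ∃ γ ∈ P, ∀ α ∈ P, ∃ (k : ℤ) (s : S), α = MulAut.conj s * γ ^ k := by
  have hc : IsCyclic (P.map ψ) := inferInstance
  obtain ⟨⟨_, γ, hγ, rfl⟩, hg⟩ := hc.exists_generator
  refine ⟨γ, hγ, fun α hα => ?_⟩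
  obtain ⟨k, hk⟩ := hg ⟨ψ α, α, hα, rfl⟩
  have hk' : ψ γ ^ k = ψ α := congrArg Subtype.val hk
  have h1 : α * (γ ^ k)⁻¹ ∈ P ⊓ ψ.ker := by
    refine ⟨P.mul_mem hα (P.inv_mem (P.zpow_mem hγ k)), ?_⟩
    show ψ (α * (γ ^ k)⁻¹) = 1
    rw [map_mul, map_inv, map_zpow, hk', mul_inv_cancel]
  obtain ⟨s, hs⟩ := h h1
  exact ⟨k, s, by rw [hs, inv_mul_cancel_right]⟩

theorem sylCycIn_of_inf {T : Subgroup (MulAut S)} (h : T ⊓ ψ.ker ≤ (MulAut.conj (G := S)).range) : SylCycIn T :=
  fun _ _ _ hP _ => gen_of_inf ψ ((inf_le_inf_right _ hP).trans h)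

variable (h3 : (MulAut.conj (G := S)).range.relIndex ψ.ker = 3)

include h3 in
/-- an element of `D \ Inn` generates `D` modulo `Inn` -/
theorem gen_of_not_mem {γ : MulAut S} (hγ : γ ∈ ψ.ker) (hγ' : γ ∉ (MulAut.conj (G := S)).range) {α : MulAut S}
    (hα : α ∈ ψ.ker) : ∃ (k : ℤ) (s : S), α = MulAut.conj s * γ ^ k := by
  have hn : ((MulAut.conj (G := S)).range.subgroupOf ψ.ker).Normal := by
    have : (MulAut.conj (G := S)).range.Normal := ⟨fun n hn a => by
      obtain ⟨s, rfl⟩ := hn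
      exact ⟨a s, by ext x; simp only [MulAut.conj_apply, _root_.MulAut.mul_apply, _root_.MulAut.inv_apply, _root_.map_mul, _root_.MulEquiv.apply_symm_apply, _root_.map_inv]⟩⟩
    infer_instance
  have h5 : Nat.card (ψ.ker ⧸ (MulAut.conj (G := S)).range.subgroupOf ψ.ker) = 3 := h3
  have hf : Fact (Nat.Prime 3) := ⟨Nat.prime_three⟩
  have h6 := zpowers_eq_top_of_prime_card h5
    (g := QuotientGroup.mk (s := (MulAut.conj (G := S)).range.subgroupOf ψ.ker) ⟨γ, hγ⟩) (by
      intro h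
      rw [QuotientGroup.eq_one_iff, Subgroup.mem_subgroupOf] at h
      exact hγ' h)
  have h7 : (QuotientGroup.mk (s := (MulAut.conj (G := S)).range.subgroupOf ψ.ker) ⟨α, hα⟩) ∈
      Subgroup.zpowers (QuotientGroup.mk (s := (MulAut.conj (G := S)).range.subgroupOf ψ.ker) ⟨γ, hγ⟩) := by
    rw [h6]; trivial
  obtain ⟨k, hk⟩ := h7
  have h8 : (QuotientGroup.mk (s := (MulAut.conj (G := S)).range.subgroupOf ψ.ker) ((⟨γ, hγ⟩ : ψ.ker) ^ k)) =
      QuotientGroup.mk ⟨α, hα⟩ := hk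
  rw [QuotientGroup.eq, Subgroup.mem_subgroupOf] at h8
  obtain ⟨s, hs⟩ := h8
  have hs' : MulAut.conj s = (γ ^ k)⁻¹ * α := hs
  refine ⟨k, (γ ^ k) s, ?_⟩
  have h9 : MulAut.conj ((γ ^ k) s) = γ ^ k * MulAut.conj s * (γ ^ k)⁻¹ := by
    ext x
    simp only [MulAut.conj_apply, _root_.MulAut.mul_apply, _root_.MulAut.inv_apply, _root_.map_mul, _root_.MulEquiv.apply_symm_apply, _root_.map_inv]
  rw [h9, hs']
  group

include h3 in
theorem cyc_of_le {P : Subgroup (MulAut S)} (h : P ≤ ψ.ker) :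
    ∃ γ ∈ P, ∀ α ∈ P, ∃ (k : ℤ) (s : S), α = MulAut.conj s * γ ^ k := by
  by_cases h1 : P ≤ (MulAut.conj (G := S)).range
  · refine ⟨1, P.one_mem, fun α hα => ?_⟩
    obtain ⟨s, hs⟩ := h1 hα
    exact ⟨0, s, by rw [hs, one_zpow, mul_one]⟩
  · rw [SetLike.not_le_iff_exists] at h1
    obtain ⟨γ, hγ, hγ'⟩ := h1
    exact ⟨γ, hγ, fun α hα => gen_of_not_mem ψ h3 (h hγ) hγ' (h hα)⟩

include h3 in
/-- `T` contains no element of `D \ Inn` -/
theorem sylCycIn_one {T : Subgroup (MulAut S)} {δ : MulAut S} (hI : (MulAut.conj (G := S)).range ≤ T)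
    (hδ : δ ∈ ψ.ker) (hδT : δ ∉ T) : SylCycIn T := by
  refine sylCycIn_of_inf ψ ?_
  rintro γ ⟨hγT, hγ⟩
  by_contra hγ'
  obtain ⟨k, s, hk⟩ := gen_of_not_mem ψ h3 hγ hγ' hδ
  apply hδT
  rw [hk]
  exact T.mul_mem (hI ⟨s, rfl⟩) (T.zpow_mem hγT k)

include h3 in
/-- `T` contains `D` but not all automorphisms of order three modulo `D` -/
theorem sylCycIn_two [Finite C] {T : Subgroup (MulAut S)} {δ τ : MulAut S} (hI : (MulAut.conj (G := S)).range ≤ T)
    (hδ : δ ∈ ψ.ker) (hδI : δ ∉ (MulAut.conj (G := S)).range) (hδT : δ ∈ T) (hτ : ψ τ ^ 3 = 1) (hτT : τ ∉ T) :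
    SylCycIn T := by
  have hDT : ψ.ker ≤ T := by
    intro γ hγ
    obtain ⟨k, s, hk⟩ := gen_of_not_mem ψ h3 hδ hδI hγ
    rw [hk]
    exact T.mul_mem (hI ⟨s, rfl⟩) (T.zpow_mem hδT k)
  have hτ1 : ψ τ ≠ 1 := fun h => hτT (hDT h)
  intro ℓ hℓ P hP hP'
  have hfl : Fact ℓ.Prime := ⟨hℓ⟩
  by_cases h : ℓ = 3
  · subst h
    by_cases h1 : P ≤ ψ.ker
    · exact cyc_of_le ψ h3 h1
    exfalso
    rw [SetLike.not_le_iff_exists] at h1
    obtain ⟨x, hx, hx'⟩ := h1
    obtain ⟨m, hm⟩ := hP' ⟨x, hx⟩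
    have hm' : x ^ 3 ^ m = 1 := congrArg Subtype.val hm
    -- an element of order three
    obtain ⟨y, hy, hy1, hy3⟩ : ∃ y ∈ P, ψ y ≠ 1 ∧ ψ y ^ 3 = 1 := by
      have key : ∀ m : ℕ, ∀ x ∈ P, ψ x ≠ 1 → ψ x ^ 3 ^ m = 1 → ∃ y ∈ P, ψ y ≠ 1 ∧ ψ y ^ 3 = 1 := by
        intro m
        induction m with
        | zero =>
          intro x _ h1 h2
          rw [pow_zero, pow_one] at h2
          exact absurd h2 h1
        | succ m ih =>
          intro x hx h1 h2
          by_cases h4 : ψ x ^ 3 = 1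
          · exact ⟨x, hx, h1, h4⟩
          · refine ih (x ^ 3) (P.pow_mem hx 3) (by rwa [map_pow]) ?_
            rw [map_pow, ← pow_mul, ← pow_succ']
            exact h2
      exact key m x hx (fun h => hx' h) (by rw [← map_pow, hm', map_one])
    -- the solutions of `a ^ 3 = 1` form a cyclic group of order three
    classical
    have := Fintype.ofFinite C
    have h5 := IsCyclic.card_pow_eq_one_le (α := C) (n := 3) (by norm_num)
    have hord : orderOf (ψ y) = 3 := orderOf_eq_prime hy3 hy1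
    have h6 : (Subgroup.zpowers (ψ y) : Set C).toFinset ⊆ Finset.univ.filter (fun a : C => a ^ 3 = 1) := by
      intro a ha
      rw [Set.mem_toFinset, SetLike.mem_coe] at ha
      obtain ⟨k, rfl⟩ := ha
      rw [Finset.mem_filter]
      refine ⟨Finset.mem_univ _, ?_⟩
      show (ψ y ^ k) ^ 3 = 1
      rw [← zpow_natCast, ← zpow_mul, mul_comm, zpow_mul, zpow_natCast, hy3, one_zpow]
    have h7 : (Subgroup.zpowers (ψ y) : Set C).toFinset = Finset.univ.filter (fun a : C => a ^ 3 = 1) := by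
      apply Finset.eq_of_subset_of_card_le h6
      refine h5.trans ?_
      rw [Set.toFinset_card, ← Nat.card_eq_fintype_card]
      have : Nat.card ↥(Subgroup.zpowers (ψ y)) = 3 := by rw [Nat.card_zpowers, hord]
      exact this.ge
    have h8 : ψ τ ∈ (Subgroup.zpowers (ψ y) : Set C).toFinset := by
      rw [h7, Finset.mem_filter]
      exact ⟨Finset.mem_univ _, hτ⟩
    rw [Set.mem_toFinset, SetLike.mem_coe] at h8
    obtain ⟨k, hk⟩ := h8
    apply hτT
    have h9 : τ * (y ^ k)⁻¹ ∈ ψ.ker := by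
      have hk' : ψ y ^ k = ψ τ := hk
      rw [MonoidHom.mem_ker, map_mul, map_inv, map_zpow, hk', mul_inv_cancel]
    have h10 := T.mul_mem (hDT h9) (T.zpow_mem (hP hy) k)
    rwa [inv_mul_cancel_right] at h10
  · refine gen_of_inf ψ ?_
    rintro x ⟨hxP, hx⟩
    by_contra hxI
    obtain ⟨m, hm⟩ := hP' ⟨x, hxP⟩
    have hm' : x ^ ℓ ^ m = 1 := congrArg Subtype.val hm
    -- `x ^ 3` is inner
    have hn : (MulAut.conj (G := S)).range.Normal := ⟨fun n hn a => by
      obtain ⟨s, rfl⟩ := hn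
      exact ⟨a s, by ext x; simp only [MulAut.conj_apply, _root_.MulAut.mul_apply, _root_.MulAut.inv_apply, _root_.map_mul, _root_.MulEquiv.apply_symm_apply, _root_.map_inv]⟩⟩
    have h5 : Nat.card (ψ.ker ⧸ (MulAut.conj (G := S)).range.subgroupOf ψ.ker) = 3 := h3
    have h6 : x ^ 3 ∈ (MulAut.conj (G := S)).range := by
      have h7 : (QuotientGroup.mk (s := (MulAut.conj (G := S)).range.subgroupOf ψ.ker) ⟨x, hx⟩) ^ 3 = 1 := by
        rw [← h5]; exact pow_card_eq_one'
      have h8 : (QuotientGroup.mk (s := (MulAut.conj (G := S)).range.subgroupOf ψ.ker) ((⟨x, hx⟩ : ψ.ker) ^ 3)) = 1 := h7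
      rw [QuotientGroup.eq_one_iff, Subgroup.mem_subgroupOf] at h8
      exact h8
    apply hxI
    have hcop : IsCoprime (3 : ℤ) ((ℓ ^ m : ℕ) : ℤ) := by
      rw [show (3 : ℤ) = ((3 : ℕ) : ℤ) from rfl, Nat.isCoprime_iff_coprime]
      exact Nat.Coprime.pow_right _ ((Nat.coprime_primes Nat.prime_three hℓ).2 (Ne.symm h))
    obtain ⟨a, b, hab⟩ := hcop
    have h9 : x = (x ^ 3) ^ a * (x ^ ℓ ^ m) ^ b := by
      rw [← zpow_natCast x 3, ← zpow_natCast x (ℓ ^ m), ← zpow_mul, ← zpow_mul, ← zpow_add]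
      rw [show ((3 : ℕ) : ℤ) * a + ((ℓ ^ m : ℕ) : ℤ) * b = 1 by rw [← hab]; push_cast; ring, zpow_one]
    rw [h9, hm', one_zpow, mul_one]
    exact Subgroup.zpow_mem _ h6 a

end Cfsg.Agent.H212.Ext
end

-- part: H212/Ext/U3Cusp
section
/-!
# `PSU(3,q)`, `3 ∣ q + 1`: a character of degree divisible by `q - 1` which is not invariant under the
diagonal automorphisms (helper212, S4832)
-/

set_option autoImplicit false
set_option linter.unusedSimpArgs false
set_option linter.unusedSectionVars false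

namespace Cfsg.Agent.H212.Ext

open Matrix Cfsg Cfsg.Agent.LieRecognition.PSUThreeSylow Cfsg.Agent.LieClassical.HermBasic
open Cfsg.Agent.H664.R1 Cfsg.Agent.H664.R1.U3
open Cfsg.Agent.Characters.Core

variable {F : Type*} [Field F] [Fintype F] {q : ℕ} {σ : F →+* F} [hσ : Fact (∀ x, σ (σ x) = x)]

/-- the norm one units of the fixed field -/
def Rq (F : Type*) [Field F] (q : ℕ) : Subgroup Fˣ := (powMonoidHom (q - 1) : Fˣ →* Fˣ).ker

theorem card_Rq (hF : Fintype.card F = q ^ 2) : Nat.card (Rq F q) = q - 1 := by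
  rw [Rq, IsCyclic.card_powMonoidHom_ker, card_units_eq hF]
  exact Nat.gcd_eq_right (Dvd.intro_left _ rfl)

theorem Rq_spec (hF : Fintype.card F = q ^ 2) (hs : ∀ x, σ x = x ^ q) (r : Rq F q) : σ ((r : Fˣ) : F) = ((r : Fˣ) : F) := by
  have h2 := two_le hF
  have h1 : (r : Fˣ) ^ (q - 1) = 1 := r.2
  have h3 : (r : Fˣ) ^ q = r := by
    have : (r : Fˣ) ^ q = (r : Fˣ) ^ (q - 1) * r := by rw [← pow_succ, Nat.sub_add_cancel (by omega)]
    rw [this, h1, one_mul]
  rw [hs, ← Units.val_pow_eq_pow_val, h3]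

theorem del_mem_S (hF : Fintype.card F = q ^ 2) (hs : ∀ x, σ x = x ^ q) (r : Rq F q) :
    ((del σ (r : Fˣ) : (spP σ).B) : PG σ) ∈ S σ := by
  rw [del_apply]
  refine ⟨_, ?_, rfl⟩
  show (mat σ _).det = 1
  rw [mat_dg, Matrix.det_fin_three]
  have h0 := (r : Fˣ).ne_zero
  simp [Rq_spec hF hs r, h0]

/-- the embedding of the torus of order `q - 1` -/
def rhoR (hF : Fintype.card F = q ^ 2) (hs : ∀ x, σ x = x ^ q) : Rq F q →* S σ where
  toFun r := ⟨((del σ (r : Fˣ) : (spP σ).B) : PG σ), del_mem_S hF hs r⟩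
  map_one' := by
    apply Subtype.ext
    show ((del σ ((1 : Rq F q) : Fˣ) : (spP σ).B) : PG σ) = 1
    rw [Subgroup.coe_one, map_one, Subgroup.coe_one]
  map_mul' r s := by
    apply Subtype.ext
    show ((del σ ((r * s : Rq F q) : Fˣ) : (spP σ).B) : PG σ) = _
    rw [Subgroup.coe_mul, map_mul, Subgroup.coe_mul]
    rfl

/-- **characters of degree divisible by `q - 1` which are not invariant under the diagonal automorphism** -/
theorem exists_cusp (hF : Fintype.card F = q ^ 2) (hq : 3 ≤ q) (h3 : 3 ∣ q + 1) (hs : ∀ x, σ x = x ^ q) {s : F}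
    (hs1 : s * σ s = 1) (hsc : ∀ y : F, y ^ 3 ≠ s) :
    ∃ θ : S σ → ℂ, IsIrrCharacter (S σ) θ ∧ (q - 1) ∣ charDegree θ ∧ ∃ u, θ (cS (g0 s hs1) u) ≠ θ u := by
  classical
  have : Finite (PG σ) := inferInstance
  have := Fintype.ofFinite (PG σ)
  have := Fintype.ofFinite (S σ)
  have := Fintype.ofFinite (spS σ).U
  obtain ⟨u, hu⟩ := exists_not_conj (σ := σ) hF h3 hs hs1 hsc
  rw [Cfsg.Agent.S0136.result] at hu
  push Not at hu
  obtain ⟨χ, hχ⟩ := hu
  refine ⟨χ, χ.2, ?_, u, fun h => hχ h.symm⟩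
  obtain ⟨c, hc⟩ := cS_cube s hs1
  have h0 : classInner (fun u : (spS σ).U => (χ : S σ → ℂ) u) 1 = 0 := by
    by_contra h0
    apply hχ
    symm
    refine inv_of_fixed (spS σ) χ.2 h0 (cS (g0 s hs1)) (cS_B (g0_mem_T s hs1)) (cS_B' (g0_mem_T s hs1))
      (fun f hf => cS_f (g0_mem_T s hs1) f hf) (fun x => ?_) u
    have h4 : cS (g0 s hs1) (cS (g0 s hs1) (cS (g0 s hs1) x)) = MulAut.conj c x := by
      rw [← hc, pow_succ, pow_two]
      rfl
    rw [h4]
    exact (isIrr_isClassFunction χ.2) _ _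
  have h5 : ∑ u : (spS σ).U, (χ : S σ → ℂ) u = 0 := by
    rw [classInner_def] at h0
    simp only [Pi.one_apply, map_one, mul_one] at h0
    rcases mul_eq_zero.1 h0 with h6 | h6
    · exfalso
      rw [inv_eq_zero] at h6
      exact Nat.card_pos.ne' (by exact_mod_cast h6)
    · exact h6
  obtain ⟨n, -, hn⟩ := isIrr_apply_one χ.2
  have hcX := card_XS (σ := σ) hF hs
  have := Fintype.ofFinite (Rq F q)
  have h6 := dvd_of_cusp (spS σ) (X := XS σ) XS_le (fused hF hs) (by rw [hcX]; omega) (rhoR hF hs)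
    (by rw [card_Rq hF, hcX]) (fun r u hu => (spS σ).nU _ ?_ u hu) (fun r u hu => ?_) (fun r u hu huX h => ?_)
    χ.2 h5 hn
  · rw [card_Rq hF] at h6
    have h7 : charDegree (χ : S σ → ℂ) = n := by
      show ⌊((χ : S σ → ℂ) 1).re⌋₊ = n
      rw [hn, Complex.natCast_re, Nat.floor_natCast]
    rw [h7]
    exact h6
  · exact ⟨_, (dg_mem _ _ _ _).1, rfl⟩
  · exact hXT ⟨_, dg_mem _ _ _ _, rfl⟩ hu
  · obtain ⟨u, huS⟩ := u
    have hu' : u ∈ (Un σ).map (pr σ) := hu
    obtain ⟨v, hv, rfl⟩ := hu'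
    obtain ⟨a, b, hab, rfl⟩ := exists_un hv
    have ha : a ≠ 0 := by
      rintro rfl
      exact huX ⟨_, ⟨un_mem _ _ _, rfl⟩, rfl⟩
    have hr1 : (1 : F) * σ 1 = 1 := by rw [map_one, one_mul]
    have h8 : pr σ (dg ((r : Fˣ) : F) 1 (r : Fˣ).ne_zero hr1) * pr σ (un a b hab) *
        (pr σ (dg ((r : Fˣ) : F) 1 (r : Fˣ).ne_zero hr1))⁻¹ = pr σ (un a b hab) := congrArg Subtype.val h
    rw [← map_inv, ← map_mul, ← map_mul,
      dg_conj_un ((r : Fˣ) : F) 1 (r : Fˣ).ne_zero hr1 a b hab (conj_rel hr1 hab)] at h8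
    have h9 := pr_eq_of_Un (un_mem _ _ _) (un_mem _ _ _) h8
    have h10 := congrFun (congrFun (congrArg (mat σ) h9) 0) 1
    rw [mat_un, mat_un] at h10
    have h11 : ((r : Fˣ) : F) * a = a := by simpa only [_root_.map_one, _root_.mul_one, _root_.map_mul, _root_.Fin.isValue, _root_.Matrix.of_apply, _root_.Matrix.cons_val', _root_.Matrix.cons_val_one, _root_.Matrix.cons_val_zero, _root_.Matrix.cons_val_fin_one] using h10
    have h12 : ((r : Fˣ) : F) = 1 := by
      have : (((r : Fˣ) : F) - 1) * a = 0 := by linear_combination h11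
      exact sub_eq_zero.1 ((mul_eq_zero.1 this).resolve_right ha)
    exact Subtype.ext (Units.ext h12)

end Cfsg.Agent.H212.Ext
end

-- part: H212/Ext/U3Ps
section
/-!
# `PSU(3,q)`, `q = q₀³`: a principal series character which is not invariant under the field automorphism
of order three (helper212, S4832)
-/

set_option autoImplicit false
set_option linter.unusedSimpArgs false
set_option linter.unusedSectionVars false

namespace Cfsg.Agent.H212.Ext

open Matrix Cfsg Cfsg.Agent.LieRecognition.PSUThreeSylow Cfsg.Agent.LieClassical.HermBasic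
open Cfsg.Agent.H664.R1 Cfsg.Agent.H664.R1.U3
open Cfsg.Agent.Characters.Core

section general

variable {F : Type*} [Field F] {σ : F →+* F} [hσ : Fact (∀ x, σ (σ x) = x)]

/-- the elements of the torus of `S` -/
def tS (y : Fˣ) : S σ :=
  ⟨pr σ (dg (y : F) (σ y / y) y.ne_zero (dgS_rel y.ne_zero)), _, dgS_mem _ y.ne_zero (dgS_rel y.ne_zero), rfl⟩

theorem tS_mem (y : Fˣ) : tS (σ := σ) y ∈ (spS σ).T := ⟨_, dg_mem _ _ _ _, rfl⟩

theorem fS_tS (τ : F ≃+* F) (hτ : ∀ x, τ (σ x) = σ (τ x)) (y z : Fˣ) (hz : (z : F) = τ y) :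
    fS τ hτ (tS y) = tS z := by
  apply Subtype.ext
  rw [coe_fS]
  show fP τ hτ (pr σ (dg (y : F) (σ y / y) _ _)) = pr σ (dg (z : F) (σ z / z) _ _)
  rw [fP_pr, fG_dg]
  congr 1
  apply mat_inj
  rw [mat_dg, mat_dg, map_div₀, hτ, hz]

theorem tS_reg {y : Fˣ} (hN : (y : F) * σ y ≠ 1) (u : S σ) (hu : u ∈ (spS σ).U)
    (h : u⁻¹ * tS y * u ∈ (spS σ).T) : u = 1 := by
  have h1 : u⁻¹ * (tS y * u * (tS y)⁻¹) ∈ (spS σ).U :=
    (spS σ).U.mul_mem ((spS σ).U.inv_mem hu) ((spS σ).nU _ ((spS σ).TB (tS_mem y)) u hu)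
  have h2 : u⁻¹ * (tS y * u * (tS y)⁻¹) ∈ (spS σ).T := by
    have := (spS σ).T.mul_mem h ((spS σ).T.inv_mem (tS_mem (σ := σ) y))
    have e : u⁻¹ * tS y * u * (tS y)⁻¹ = u⁻¹ * (tS y * u * (tS y)⁻¹) := by group
    rwa [e] at this
  have h3 := (spS σ).disj _ h1 h2
  rw [inv_mul_eq_one] at h3
  obtain ⟨u, huS⟩ := u
  have hu' : u ∈ (Un σ).map (pr σ) := hu
  obtain ⟨v, hv, rfl⟩ := hu'
  obtain ⟨a, b, hab, rfl⟩ := exists_un hv
  have hrel := dgS_rel (σ := σ) y.ne_zero
  have h8 : pr σ (dg (y : F) (σ y / y) y.ne_zero hrel) * pr σ (un a b hab) *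
      (pr σ (dg (y : F) (σ y / y) y.ne_zero hrel))⁻¹ = pr σ (un a b hab) := (congrArg Subtype.val h3).symm
  rw [← map_inv, ← map_mul, ← map_mul,
    dg_conj_un (y : F) (σ y / y) y.ne_zero hrel a b hab (conj_rel hrel hab)] at h8
  have h9 := pr_eq_of_Un (un_mem _ _ _) (un_mem _ _ _) h8
  have h10 := congrFun (congrFun (congrArg (mat σ) h9) 0) 1
  have h11 := congrFun (congrFun (congrArg (mat σ) h9) 0) 2
  rw [mat_un, mat_un] at h10 h11
  have e1 : (y : F) * σ (σ y / y) * a = a := by simpa only [_root_.map_div₀, _root_.map_mul, _root_.Fin.isValue, _root_.Matrix.of_apply, _root_.Matrix.cons_val', _root_.Matrix.cons_val_one, _root_.Matrix.cons_val_zero, _root_.Matrix.cons_val_fin_one] using h10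
  have e2 : (y : F) * σ y * b = b := by simpa only [_root_.map_div₀, _root_.map_mul, _root_.Fin.isValue, _root_.Matrix.of_apply, _root_.Matrix.cons_val', _root_.Matrix.cons_val, _root_.Matrix.cons_val_fin_one, _root_.Matrix.cons_val_zero] using h11
  have hb : b = 0 := by
    have : ((y : F) * σ y - 1) * b = 0 := by linear_combination e2
    exact (mul_eq_zero.1 this).resolve_left (sub_ne_zero.2 hN)
  have hσy : σ (y : F) ≠ 0 := (map_ne_zero σ).2 y.ne_zero
  have ha : a = 0 := by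
    by_contra ha
    have e3 : (y : F) * σ (σ y / y) = 1 := by
      have : ((y : F) * σ (σ y / y) - 1) * a = 0 := by linear_combination e1
      exact sub_eq_zero.1 ((mul_eq_zero.1 this).resolve_right ha)
    rw [map_div₀, hσ.out] at e3
    have e4 : (y : F) * y = σ y := by
      field_simp at e3
      linear_combination e3
    have e5 : σ (y : F) * σ y = y := by
      have := congrArg σ e4
      rwa [map_mul, hσ.out] at this
    apply hN
    have e6 : (y : F) * σ y * ((y : F) * σ y - 1) = 0 := by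
      linear_combination σ (y : F) * σ y * e4 + σ (y : F) * e5
    exact sub_eq_zero.1 ((mul_eq_zero.1 e6).resolve_left (mul_ne_zero y.ne_zero hσy))
  subst ha
  subst hb
  apply Subtype.ext
  show pr σ (un 0 0 hab) = 1
  rw [← map_one (pr σ)]
  congr 1
  apply mat_inj
  rw [mat_un, mat_one]
  ext i j
  (revert i j; simp only [_root_.Fin.forall_fin_succ, _root_.map_zero, _root_.neg_zero, _root_.Matrix.of_apply, _root_.Matrix.cons_val', _root_.Matrix.cons_val_fin_one, Fin.isValue, _root_.Matrix.cons_val_zero, _root_.Matrix.cons_val_succ, _root_.IsEmpty.forall_iff, _root_.and_true, _root_.Matrix.one_apply_eq, Nat.reduceAdd, _root_.Fin.succ_zero_eq_one, _root_.ne_eq, _root_.zero_ne_one, _root_.not_false_eq_true, _root_.Matrix.one_apply_ne, _root_.Fin.succ_one_eq_two, Fin.reduceEq, _root_.and_self, _root_.Fin.succ_ne_zero, _root_.true_and])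

end general

section finite

variable {F : Type*} [Field F] [Fintype F] {q : ℕ} {σ : F →+* F} [hσ : Fact (∀ x, σ (σ x) = x)]

/-- the values of the principal series on the torus -/
theorem ps_tS [Fintype (S σ)] (hs : ∀ x, σ x = x ^ q) {lam : Fˣ →* ℂˣ} {f : (spS σ).B →* ℂˣ}
    (hf : ∀ (t s : F) (ht : t ≠ 0) (hs : s * σ s = 1)
      (h : pr σ (dg t s ht hs) ∈ S σ) (h' : (⟨_, h⟩ : S σ) ∈ (spS σ).B),
      f ⟨⟨_, h⟩, h'⟩ = lam (Units.mk0 (t * σ s) (mul_ne_zero ht ((map_ne_zero σ).2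
        (left_ne_zero_of_mul_eq_one hs))))) (y : Fˣ) :
    f ⟨tS y, (spS σ).TB (tS_mem y)⟩ = lam (y ^ 2 * (y ^ q)⁻¹) ∧
      f ⟨(spS σ).w⁻¹ * tS y * (spS σ).w, (spS σ).TB ((spS σ).wT _ (tS_mem y))⟩ = lam (y * (y ^ (2 * q))⁻¹) := by
  have hrel := dgS_rel (σ := σ) y.ne_zero
  have h0 : σ (y : F) ≠ 0 := (map_ne_zero σ).2 y.ne_zero
  have hmem : pr σ (dg (y : F) (σ y / y) y.ne_zero hrel) ∈ S σ := ⟨_, dgS_mem _ y.ne_zero hrel, rfl⟩
  have hT : (⟨_, hmem⟩ : S σ) ∈ (spS σ).T := ⟨_, dg_mem _ _ _ _, rfl⟩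
  have hy0 := y.ne_zero
  constructor
  · refine (hf (y : F) (σ y / y) y.ne_zero hrel hmem ((spS σ).TB hT)).trans ?_
    congr 1
    apply Units.ext
    rw [Units.val_mk0, map_div₀, hσ.out, hs]
    simp only [Units.val_mul, Units.val_pow_eq_pow_val, Units.val_inv_eq_inv_val]
    field_simp
  · have e2 : (((spS σ).w⁻¹ * ⟨_, hmem⟩ * (spS σ).w : S σ) :) =
        ⟨pr σ (dg (σ (y : F))⁻¹ (σ y / y) (inv_ne_zero h0) hrel), by
          rw [← w_conj_S (y : F) (σ y / y) y.ne_zero hrel hmem]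
          exact (((spS σ).w⁻¹ * ⟨_, hmem⟩ * (spS σ).w :).2 :)⟩ :=
      Subtype.ext (w_conj_S (y : F) (σ y / y) y.ne_zero hrel hmem)
    have e3 : f ⟨(spS σ).w⁻¹ * ⟨_, hmem⟩ * (spS σ).w, (spS σ).TB ((spS σ).wT _ hT)⟩ =
        lam (Units.mk0 ((σ (y : F))⁻¹ * σ (σ y / y)) (mul_ne_zero (inv_ne_zero h0) ((map_ne_zero σ).2
          (left_ne_zero_of_mul_eq_one hrel)))) := by
      rw [← hf (σ (y : F))⁻¹ (σ y / y) (inv_ne_zero h0) hrel (by
          rw [← w_conj_S (y : F) (σ y / y) y.ne_zero hrel hmem]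
          exact (((spS σ).w⁻¹ * ⟨_, hmem⟩ * (spS σ).w :).2 :)) ⟨_, (dg_mem _ _ _ _).1, rfl⟩]
      congr 1
      exact Subtype.ext e2
    refine e3.trans ?_
    congr 1
    apply Units.ext
    rw [Units.val_mk0, map_div₀, hσ.out, hs]
    simp only [Units.val_mul, Units.val_pow_eq_pow_val, Units.val_inv_eq_inv_val]
    field_simp
    ring

theorem unit_conj (z : ℂˣ) {n : ℕ} (hn : n ≠ 0) (h : z ^ n = 1) : (z : ℂ) * (starRingEnd ℂ) z = 1 := by
  have h1 : (z : ℂ) ^ n = 1 := by rw [← Units.val_pow_eq_pow_val, h, Units.val_one]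
  have h2 : ‖(z : ℂ)‖ = 1 := Complex.norm_eq_one_of_pow_eq_one h1 hn
  rw [Complex.mul_conj, Complex.normSq_eq_norm_sq, h2]
  simp

/-- **a principal series character which is not invariant under the field automorphism of order three** -/
theorem exists_ps (hF : Fintype.card F = q ^ 2) {q₀ : ℕ} (hq₀ : 2 ≤ q₀) (hq : q = q₀ ^ 3) (hs : ∀ x, σ x = x ^ q)
    (τ : F ≃+* F) (hτ : ∀ x, τ (σ x) = σ (τ x)) (hτ' : ∀ x, τ x = x ^ q₀ ^ 2) :
    ∃ θ : S σ → ℂ, IsIrrCharacter (S σ) θ ∧ charDegree θ = q ^ 3 + 1 ∧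
      (∀ g ∈ (spP σ).T, ∀ x, θ (cS g x) = θ x) ∧ ∃ x, θ (fS τ hτ x) ≠ θ x := by
  classical
  have : Finite (PG σ) := inferInstance
  have := Fintype.ofFinite (PG σ)
  have := Fintype.ofFinite (S σ)
  obtain ⟨lam, hlam⟩ := exists_faithful Fˣ
  obtain ⟨f, hfU, hf⟩ := exists_lin (σ := σ) lam
  obtain ⟨γ, hγ⟩ := IsCyclic.exists_generator (α := Fˣ)
  have ho := order_gen hF hγ
  have h8 : 8 ≤ q := by
    rw [hq]
    calc 8 = 2 ^ 3 := by norm_num
      _ ≤ q₀ ^ 3 := Nat.pow_le_pow_left hq₀ 3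
  -- numbers
  obtain ⟨m, hm⟩ : ∃ m, q = m + 1 := ⟨q - 1, by omega⟩
  have hN : (q + 1) * (q - 1) = q * q - 1 := by
    rw [hm, Nat.add_sub_cancel, eq_comm, Nat.sub_eq_iff_eq_add (by nlinarith only [])]
    ring
  have hγN : γ ^ (q * q - 1) = 1 := by rw [← hN, ← ho, pow_orderOf_eq_one]
  have hγq : γ ^ (q * q) = γ := by
    have : q * q = (q * q - 1) + 1 := by
      have : 1 ≤ q * q := by nlinarith only [h8]
      omega
    rw [this, pow_succ, hγN, one_mul]
  obtain ⟨y, hy⟩ : ∃ y, y = γ ^ (q + 2) := ⟨_, rfl⟩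
  have hk : y ^ 2 * (y ^ q)⁻¹ = γ ^ 3 := by
    rw [mul_inv_eq_iff_eq_mul, hy, ← pow_mul, ← pow_mul, ← pow_add]
    have e1 : 3 + (q + 2) * q = q * q + (2 * q + 3) := by ring
    rw [e1, pow_add, hγq, ← pow_succ']
    congr 1
    ring
  have hk' : y * (y ^ (2 * q))⁻¹ = (γ ^ (3 * q))⁻¹ := by
    rw [mul_inv_eq_iff_eq_mul, eq_inv_mul_iff_mul_eq, hy, ← pow_mul, ← pow_add]
    have e1 : (q + 2) * (2 * q) = q * q * 2 + 4 * q := by ring
    rw [e1, pow_add γ (q * q * 2), pow_mul γ (q * q) 2, hγq, ← pow_add]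
    congr 1
    ring
  have hNy : (y : F) * σ y ≠ 1 := by
    intro h
    have h1 : y ^ (q + 1) = 1 := by
      apply Units.ext
      rw [Units.val_pow_eq_pow_val, pow_succ', Units.val_one, ← h, hs]
    rw [hy, ← pow_mul] at h1
    have e1 : (q + 2) * (q + 1) = q * q + (3 * q + 2) := by ring
    rw [e1, pow_add, hγq, ← pow_succ'] at h1
    refine gen_pow_ne hF hγ (m := 3 * q + 2 + 1) (by omega) ?_ h1
    rw [hN]
    have : 8 * q ≤ q * q := Nat.mul_le_mul_right q h8
    omega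
  -- the image under `τ`
  obtain ⟨z, hz⟩ : ∃ z, z = y ^ q₀ ^ 2 := ⟨_, rfl⟩
  have hzτ : (z : F) = τ y := by rw [hz, Units.val_pow_eq_pow_val, hτ']
  have hNz : (z : F) * σ z ≠ 1 := by
    rw [hzτ, ← hτ, ← map_mul]
    intro h
    exact hNy (τ.injective (h.trans (map_one τ).symm))
  obtain ⟨fy, fy'⟩ := ps_tS hs hf y
  obtain ⟨fz, fz'⟩ := ps_tS hs hf z
  have hirr : IsIrrCharacter (S σ) ((spS σ).ps f) := by
    refine (spS σ).isIrr_ps f ⟨tS y, tS_mem y, ?_⟩
    rw [fy, fy']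
    intro h
    have h1 := hlam h
    rw [hk, hk', eq_inv_iff_mul_eq_one, ← pow_add] at h1
    refine gen_pow_ne hF hγ (by omega) ?_ h1
    rw [hN]
    have : 8 * q ≤ q * q := Nat.mul_le_mul_right q h8
    omega
  refine ⟨(spS σ).ps f, hirr, ?_, ?_, tS y, ?_⟩
  · show ⌊((spS σ).ps f 1).re⌋₊ = _
    rw [(spS σ).ps_one, card_US hF hs]
    have : (((q ^ 3 : ℕ) : ℂ) + 1) = ((q ^ 3 + 1 : ℕ) : ℂ) := by push_cast; ring
    rw [this, Complex.natCast_re, Nat.floor_natCast]
  · intro g hg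
    exact ps_aut (spS σ) f (cS g) (cS_B hg) (cS_B' hg) (cS_f hg f hfU)
  · rw [fS_tS τ hτ y z hzτ, ps_T (spS σ) f (tS_mem z) (tS_reg hNz), ps_T (spS σ) f (tS_mem y) (tS_reg hNy),
      fy, fy', fz, fz', hk, hk']
    have hkz : z ^ 2 * (z ^ q)⁻¹ = (γ ^ 3) ^ q₀ ^ 2 := by
      rw [← hk, hz, mul_pow, _root_.inv_pow, ← pow_mul, ← pow_mul, ← pow_mul, ← pow_mul, mul_comm 2, mul_comm q]
    have hkz' : z * (z ^ (2 * q))⁻¹ = ((γ ^ (3 * q))⁻¹) ^ q₀ ^ 2 := by
      rw [← hk', hz, mul_pow, _root_.inv_pow, ← pow_mul, ← pow_mul, mul_comm (2 * q)]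
    rw [hkz, hkz']
    have hcard : Nat.card Fˣ ≠ 0 := Nat.card_pos.ne'
    have hunit : ∀ u : Fˣ, (lam u : ℂ) * (starRingEnd ℂ) (lam u) = 1 := by
      intro u
      refine unit_conj _ hcard ?_
      rw [← map_pow, pow_card_eq_one', map_one]
    intro h
    rcases sum_unit (hunit _) (hunit _) (hunit _) (hunit _) h.symm with h1 | h1 | h1
    · -- sum zero
      have h2 : (lam (γ ^ 3) : ℂ) ^ 2 = (lam (γ ^ (3 * q))⁻¹ : ℂ) ^ 2 := by
        linear_combination ((lam (γ ^ 3) : ℂ) - (lam (γ ^ (3 * q))⁻¹ : ℂ)) * h1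
      have h3 : lam ((γ ^ 3) ^ 2) = lam (((γ ^ (3 * q))⁻¹) ^ 2) := by
        rw [map_pow lam (γ ^ 3) 2, map_pow lam (γ ^ (3 * q))⁻¹ 2]
        apply Units.ext
        rw [Units.val_pow_eq_pow_val, Units.val_pow_eq_pow_val]
        exact h2
      have h4 := hlam h3
      rw [_root_.inv_pow, eq_inv_iff_mul_eq_one, ← pow_mul, ← pow_mul, ← pow_add] at h4
      refine gen_pow_ne hF hγ (by omega) ?_ h4
      rw [hN]
      have : 8 * q ≤ q * q := Nat.mul_le_mul_right q h8
      omega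
    · have h2 := hlam (Units.ext h1)
      rw [← pow_mul] at h2
      have hq2 : 4 ≤ q₀ ^ 2 := by nlinarith only [hq₀]
      have h3 : γ ^ (3 * q₀ ^ 2 - 3) = 1 := by
        have : γ ^ (3 * q₀ ^ 2 - 3) * γ ^ 3 = 1 * γ ^ 3 := by
          rw [← pow_add, Nat.sub_add_cancel (by omega), one_mul, ← h2]
        exact mul_right_cancel this
      refine gen_pow_ne hF hγ (by omega) ?_ h3
      rw [hN, hq]
      have h4 : 8 ≤ q₀ ^ 3 := by rw [← hq]; exact h8
      have h5 : q₀ ^ 3 * q₀ ^ 3 = q₀ ^ 2 * (q₀ ^ 4) := by ring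
      have h6 : 16 ≤ q₀ ^ 4 := by
        calc 16 = 2 ^ 4 := by norm_num
          _ ≤ q₀ ^ 4 := Nat.pow_le_pow_left hq₀ 4
      rw [h5]
      have h7 : q₀ ^ 2 * 16 ≤ q₀ ^ 2 * q₀ ^ 4 := Nat.mul_le_mul_left _ h6
      omega
    · have h2 := hlam (Units.ext h1)
      rw [_root_.inv_pow, eq_inv_iff_mul_eq_one, ← pow_mul, ← pow_add] at h2
      have h3 : γ ^ (3 * q + 3 * q₀ ^ 2) = 1 := by
        have h4 : (γ ^ (3 + 3 * q * q₀ ^ 2)) ^ q = 1 := by rw [h2, one_pow]
        rw [← pow_mul] at h4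
        have e1 : (3 + 3 * q * q₀ ^ 2) * q = 3 * q + q * q * (3 * q₀ ^ 2) := by ring
        rw [e1, pow_add, pow_mul γ (q * q), hγq, ← pow_add] at h4
        exact h4
      refine gen_pow_ne hF hγ (by omega) ?_ h3
      rw [hN, hq]
      have h5 : q₀ ^ 3 * q₀ ^ 3 = q₀ ^ 2 * (q₀ ^ 4) := by ring
      have h6 : q₀ ^ 3 = q₀ ^ 2 * q₀ := by ring
      have h7 : q₀ ^ 2 * (4 * q₀ ^ 2) ≤ q₀ ^ 2 * q₀ ^ 4 := by
        apply Nat.mul_le_mul_left
        have : q₀ ^ 4 = q₀ ^ 2 * q₀ ^ 2 := by ring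
        rw [this]
        apply Nat.mul_le_mul_right
        nlinarith only [hq₀]
      have h9 : 4 ≤ q₀ ^ 2 := by nlinarith only [hq₀]
      -- `3 q₀ + 3 < 4 q₀²`
      have h10 : 3 * q₀ + 4 ≤ 4 * q₀ ^ 2 := by nlinarith only [h9]
      have h11 : q₀ ^ 2 * (3 * q₀ + 4) ≤ q₀ ^ 2 * (4 * q₀ ^ 2) := Nat.mul_le_mul_left _ h10
      have h12 : q₀ ^ 2 * (3 * q₀ + 4) = 3 * (q₀ ^ 2 * q₀) + 4 * q₀ ^ 2 := by ring
      rw [h5, h6]
      omega

end finite

end Cfsg.Agent.H212.Ext
end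

-- part: H212/Ext/U3Row
section
/-!
# S4832: the row `PSU(3,q)` (helper212)

`row_psu_three` : for a prime `p` not dividing `q`, `p ∣ |PSU(3,q)|`, some irreducible character of degree divisible
by `p` extends to its stabiliser in the automorphism group.
-/

set_option autoImplicit false
set_option linter.unusedSectionVars false

open Cfsg

namespace Cfsg.Agent.H212.Ext

open Cfsg.Agent.H576.Ext Cfsg.Agent.H664.R1 Cfsg.Agent.H664.R1.U3 Cfsg.Agent.LieClassical.HermBasic

universe u v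

section out

variable {S : Type u} [Group S] {S' : Type v} [Group S'] {C : Type*} [Group C]

/-- the homomorphism on `Aut S` -/
def psi (e : S ≃* S') (φ : Out S' →* C) : MulAut S →* C :=
  φ.comp ((QuotientGroup.mk' (Inn S')).comp (MulAut.congr e).toMonoidHom)

theorem psi_conj (e : S ≃* S') (φ : Out S' →* C) (s : S) : psi e φ (MulAut.conj s) = 1 := by
  have h1 : MulAut.congr e (MulAut.conj s) = MulAut.conj (e s) := by
    ext x
    show e (s * e.symm x * s⁻¹) = e s * x * (e s)⁻¹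
    rw [map_mul, map_mul, map_inv, e.apply_symm_apply]
  have h2 : QuotientGroup.mk' (Inn S') (MulAut.congr e (MulAut.conj s)) = 1 := by
    rw [h1]
    exact (QuotientGroup.eq_one_iff _).2 ⟨_, rfl⟩
  show φ (QuotientGroup.mk' (Inn S') (MulAut.congr e (MulAut.conj s))) = 1
  rw [h2, map_one]

theorem relIndex_psi (e : S ≃* S') (φ : Out S' →* C) :
    (MulAut.conj (G := S)).range.relIndex (psi e φ).ker = Nat.card φ.ker := by
  let g : MulAut S →* Out S' := (QuotientGroup.mk' (Inn S')).comp (MulAut.congr e).toMonoidHom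
  have hg : Function.Surjective g := by
    intro x
    obtain ⟨α, rfl⟩ := QuotientGroup.mk'_surjective (Inn S') x
    obtain ⟨β, rfl⟩ := (MulAut.congr e).surjective α
    exact ⟨β, rfl⟩
  have h1 : (MulAut.conj (G := S)).range = (⊥ : Subgroup (Out S')).comap g := by
    ext α
    rw [Subgroup.mem_comap, Subgroup.mem_bot]
    constructor
    · rintro ⟨s, rfl⟩
      exact psi_conj e (MonoidHom.id (Out S')) s
    · intro h
      have h2 : MulAut.congr e α ∈ Inn S' := (QuotientGroup.eq_one_iff _).1 h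
      obtain ⟨s', hs'⟩ := h2
      obtain ⟨s, rfl⟩ := e.surjective s'
      refine ⟨s, ?_⟩
      apply (MulAut.congr e).injective
      rw [← hs']
      ext x
      show e (s * e.symm x * s⁻¹) = e s * x * (e s)⁻¹
      rw [map_mul, map_mul, map_inv, e.apply_symm_apply]
  have h2 : (psi e φ).ker = φ.ker.comap g := rfl
  rw [h1, h2, Subgroup.relIndex_comap, Subgroup.map_comap_eq_self_of_surjective hg, Subgroup.relIndex_bot_left]

end out

variable {F : Type*} [Field F] [Fintype F] {q : ℕ} {σ : F →+* F} [hσ : Fact (∀ x, σ (σ x) = x)]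

theorem exists_tau (hF : Fintype.card F = q ^ 2) {r k : ℕ} (hr : r.Prime) [CharP F r] (hq : q = (r ^ k) ^ 3)
    (hs : ∀ x, σ x = x ^ q) : ∃ τ : F ≃+* F, (∀ x, τ (σ x) = σ (τ x)) ∧ (∀ x, τ x = x ^ (r ^ k) ^ 2) ∧
      ∀ x, τ (τ (τ x)) = x := by
  have hfr : Fact r.Prime := ⟨hr⟩
  have : PerfectRing F r := inferInstance
  refine ⟨iterateFrobeniusEquiv F r (k * 2), fun x => ?_, fun x => ?_, fun x => ?_⟩
  · rw [hs, hs, map_pow]
  · rw [iterateFrobeniusEquiv_def, pow_mul]
  · rw [iterateFrobeniusEquiv_def, iterateFrobeniusEquiv_def, iterateFrobeniusEquiv_def, ← pow_mul, ← pow_mul,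
      ← pow_add, ← pow_add]
    have h1 := FiniteField.pow_card x
    rw [hF, hq] at h1
    have e1 : r ^ (k * 2 + (k * 2 + k * 2)) = ((r ^ k) ^ 3) ^ 2 := by
      rw [← pow_mul, ← pow_mul]; ring
    rw [e1, h1]

/-- the bad case, in the model `S σ` -/
theorem row_bad (hF : Fintype.card F = q ^ 2) (hq : 3 ≤ q) (hs : ∀ x, σ x = x ^ q) (h3 : 3 ∣ q + 1) {r k : ℕ}
    (hr : r.Prime) [CharP F r] (hk : 0 < k) (hqr : q = (r ^ k) ^ 3) (hZ : Subgroup.center (S σ) = ⊥) {C : Type*} [CommGroup C]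
    [IsCyclic C] [Finite C] (φ : Out (Cfsg.PSU 3 F q) →* C) (hφ : Nat.card φ.ker = 3) {p : ℕ} (hp : p.Prime)
    (hpq : ¬ p ∣ q) (hd : p ∣ Nat.card (S σ)) : HasExt p (S σ) := by
  have : Finite (PG σ) := inferInstance
  obtain ⟨e⟩ := nonempty_iso (σ := σ) hF hs
  have h3i := relIndex_psi e.symm φ
  rw [hφ] at h3i
  obtain ⟨s, hs1', hsc⟩ := exists_norm_not_cube hF h3
  have hs1 : s * σ s = 1 := by rw [hs]; exact hs1'
  -- the diagonal automorphism
  have hδ : cS (g0 s hs1) ∈ (psi e.symm φ).ker := by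
    rw [MonoidHom.mem_ker]
    have h1 := congrArg (psi e.symm φ) (fS_conj (sigE σ) sigE_comm (g0 s hs1))
    rw [g0_inv, map_mul, map_mul, map_inv (psi e.symm φ), map_inv (cS : PG σ →* MulAut (S σ)), map_inv (psi e.symm φ)] at h1
    obtain ⟨c, hc⟩ := cS_cube s hs1
    have h2 := congrArg (psi e.symm φ) hc
    rw [map_pow, psi_conj] at h2
    have h4 : psi e.symm φ (cS (g0 s hs1)) = (psi e.symm φ (cS (g0 s hs1)))⁻¹ := by
      rw [← h1, mul_comm (psi e.symm φ (fS (sigE σ) sigE_comm)), mul_inv_cancel_right]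
    generalize psi e.symm φ (cS (g0 s hs1)) = x at h2 h4
    have h5 : x * x = 1 := mul_eq_one_iff_eq_inv.2 h4
    rw [pow_succ, pow_two, h5, one_mul] at h2
    exact h2
  obtain ⟨u, hu⟩ := exists_not_conj (σ := σ) hF h3 hs hs1 hsc
  have hδI : cS (g0 s hs1) ∉ (MulAut.conj (G := S σ)).range := by
    rintro ⟨c, hc⟩
    apply hu
    rw [← hc, isConj_iff]
    exact ⟨c, rfl⟩
  -- the prime
  have hcase : p ∣ q - 1 ∨ p ∣ q ^ 3 + 1 := by
    have h1 := hd.trans (card_S (σ := σ) hF hs)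
    rcases hp.dvd_mul.1 h1 with h | h
    · exact Or.inr h
    rcases hp.dvd_mul.1 h with h | h
    · exact absurd (hp.dvd_of_dvd_pow h) hpq
    · have h2 : q ^ 2 - 1 = (q + 1) * (q - 1) := by
        have := Nat.sq_sub_sq q 1
        simpa only [_root_.one_pow] using this
      rw [h2] at h
      rcases hp.dvd_mul.1 h with h | h
      · right
        refine h.trans ⟨q ^ 2 - q + 1, ?_⟩
        have h3 : q ≤ q ^ 2 := by nlinarith only []
        zify [h3]
        ring
      · exact Or.inl h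
  rcases hcase with h | h
  · obtain ⟨θ, hθ, hdeg, v, hv⟩ := exists_cusp (σ := σ) hF hq h3 hs hs1 hsc
    have hI := range_le_stab (Characters.Core.isIrr_isClassFunction hθ)
    refine ⟨θ, hθ, h.trans hdeg, extTo_of_sylCyc hZ hθ hI le_rfl ?_⟩
    exact sylCycIn_one (psi e.symm φ) h3i hI hδ fun hmem => hv (hmem v)
  · have h2 : 2 ≤ r ^ k := by
      calc 2 ≤ r := hr.two_le
        _ ≤ r ^ k := Nat.le_self_pow hk.ne' r
    obtain ⟨τ, hτ, hτ', hτ3⟩ := exists_tau hF hr hqr hs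
    obtain ⟨θ, hθ, hdeg, hinv, v, hv⟩ := exists_ps hF h2 hqr hs τ hτ hτ'
    have hI := range_le_stab (Characters.Core.isIrr_isClassFunction hθ)
    refine ⟨θ, hθ, by rw [hdeg]; exact h, extTo_of_sylCyc hZ hθ hI le_rfl ?_⟩
    refine sylCycIn_two (psi e.symm φ) h3i (τ := fS τ hτ) hI hδ hδI (fun x => hinv _ (g0_mem_T s hs1) x) ?_
      fun hmem => hv (hmem v)
    rw [← map_pow]
    have h5 : fS τ hτ ^ 3 = 1 := by
      apply MulEquiv.ext
      intro x
      apply Subtype.ext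
      obtain ⟨g, hg⟩ := QuotientGroup.mk'_surjective (Sc σ) (x : PG σ)
      rw [pow_succ, pow_two]
      show fP τ hτ (fP τ hτ (fP τ hτ (x : PG σ))) = x
      rw [← hg]
      show pr σ (fG τ hτ (fG τ hτ (fG τ hτ g))) = pr σ g
      congr 1
      apply mat_inj
      ext i j
      exact hτ3 _
    rw [h5, map_one]

/-- **`PSU(3,q)`** -/
theorem row_psu_three {X : Type u} [Group X] [Finite X] [IsSimpleGroup X] (hna : ¬ IsMulCommutative X)
    {F : Type*} [Field F] [Fintype F] {q : ℕ} (hF : Fintype.card F = q ^ 2) (hq : 3 ≤ q) (e : X ≃* Cfsg.PSU 3 F q)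
    {p : ℕ} (hp : p.Prime) (hpq : ¬ p ∣ q) (hd : p ∣ Nat.card X) : HasExt p X := by
  obtain ⟨r, f, hr, hc, hqr, hf⟩ := exists_prime_pow hF
  have hfr : Fact r.Prime := ⟨hr⟩
  by_cases hcop : Nat.Coprime (Nat.gcd 3 (q + 1)) (2 * f)
  · refine hasExt_of_sylCyc hna ?_ (U3.im hF hq e hp hd)
    exact SylCyc.of_equiv e (H907.ExtFree.sylCyc_psu hr hf hqr hF le_rfl (by omega) hcop)
  have h3 : 3 ∣ q + 1 := by
    by_contra h
    apply hcop
    rw [(Nat.Prime.coprime_iff_not_dvd Nat.prime_three).2 h]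
    exact Nat.coprime_one_left _
  have hg : Nat.gcd 3 (q + 1) = 3 := Nat.gcd_eq_left h3
  rw [hg, Nat.Prime.coprime_iff_not_dvd Nat.prime_three, not_not] at hcop
  obtain ⟨k, hk⟩ : 3 ∣ f := by omega
  obtain ⟨σ, hσ, hs, ⟨e'⟩⟩ := exists_iso hF
  obtain ⟨φ, hφ, -, hker⟩ := Cfsg.Agent.S2603.result (K := F) (p := r) hf hqr hF le_rfl (by omega)
  have : NeZero (2 * f) := ⟨by omega⟩
  let ee : X ≃* S σ := e.trans e'
  have hsS : IsSimpleGroup (S σ) := ee.isSimpleGroup_congr.1 inferInstance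
  have hZ : Subgroup.center (S σ) = ⊥ := center_eq_bot (fun h => hna ⟨⟨fun x y => ee.injective (by
    rw [map_mul, map_mul]; exact h.is_comm.comm _ _)⟩⟩)
  refine HasExt.of_equiv ee (row_bad (σ := σ) hF hq hs h3 hr (k := k) (by omega) ?_ hZ φ (by rw [hker, hg]) hp hpq ?_)
  · rw [hqr, hk, ← pow_mul, mul_comm]
  · rwa [← Nat.card_congr ee.toEquiv]

end Cfsg.Agent.H212.Ext
end

private theorem dce_1d71a7a2879a : _root_.True := by
  try have : _root_.True := by simp only [_root_.Cfsg.Agent.H212.Ext.Rq.eq_1]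
  try have : _root_.True := by simp only [_root_.Cfsg.Agent.H212.Ext.g0.congr_simp]
  exact _root_.True.intro
end

-- part: H699/CusG
section
prune_inst 0x46130444078e2020000000580130078a6fc00019000230000a0a008400109830a8d40870106801010000e320018000008111000f0420000000a0034000007012080881404105002088e008f000084410000000000000000000000000000000004004010000
set_option linter.all false
open scoped Cfsg.Agent.FastGrp

/-!
# Existence of cuspidal data in general position, linear case (helper699, S4832)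

`exists_cusG`, `exists_cusG_two` : `θ = φ ^ a`, `a = 2` for `q` odd, `a = 1` for `q` even.
-/

set_option autoImplicit false
set_option linter.unusedSectionVars false

open scoped ComplexConjugate
open Cfsg

namespace Cfsg.Agent.H699.CusG

open Cfsg.Agent.H477.HC Cfsg.Agent.H53.HC Cfsg.Agent.H53.HC.Gal Cfsg.Agent.Characters Module
open Cfsg.Agent.H139.Cusp Cfsg.Agent.H576.Ext

universe u w

attribute [local instance] fintypeHom fintypeSub finite_quot

/-! ### numbers -/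

theorem dvd_pow_mul_sub {M r : ℤ} {N : ℕ} (hM : M ∣ r ^ N - 1) (t : ℕ) : M ∣ r ^ (N * t) - 1 := by
  refine hM.trans ?_
  have := sub_dvd_pow_sub_pow (r ^ N) 1 t
  rwa [one_pow, ← pow_mul] at this

/-- folding an exponent into `[0, N / 2]` -/
theorem fold {M r a s : ℤ} {N u : ℕ} (hN : 0 < N) (hM : M ∣ r ^ N - 1) (hs : s * s = 1) (h : M ∣ a * (r ^ u - s)) :
    ∃ v, 2 * v ≤ N ∧ M ∣ a * (r ^ v - s) ∧ ∀ f, f ∣ N → (f ∣ v ↔ f ∣ u) := by
  have hw : u % N < N := Nat.mod_lt _ hN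
  have hu : u = N * (u / N) + u % N := (Nat.div_add_mod u N).symm
  have h1 : M ∣ a * (r ^ (u % N) - s) := by
    have h2 := dvd_pow_mul_sub hM (u / N)
    have h3 : a * (r ^ (u % N) - s) = a * (r ^ u - s) - (a * r ^ (u % N)) * (r ^ (N * (u / N)) - 1) := by
      have h4 : r ^ u = r ^ (N * (u / N)) * r ^ (u % N) := by rw [← pow_add, ← hu]
      rw [h4]; ring
    rw [h3]
    exact dvd_sub h (Dvd.dvd.mul_left h2 _)
  have hf1 : ∀ f, f ∣ N → (f ∣ u % N ↔ f ∣ u) := fun f hf => (Nat.dvd_mod_iff hf)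
  rcases le_or_gt (2 * (u % N)) N with h2 | h2
  · exact ⟨u % N, h2, h1, hf1⟩
  · refine ⟨N - u % N, by omega, ?_, fun f hf => ?_⟩
    · have h3 : r ^ N = r ^ (N - u % N) * r ^ (u % N) := by rw [← pow_add, Nat.sub_add_cancel hw.le]
      have h4 : a * (r ^ (N - u % N) - s) =
          (-s) * (r ^ (N - u % N) * (a * (r ^ (u % N) - s))) + (s * a) * (r ^ N - 1) := by
        rw [h3]
        linear_combination (-(a * r ^ (N - u % N))) * hs
      rw [h4]
      exact dvd_add (Dvd.dvd.mul_left (Dvd.dvd.mul_left h1 _) _) (Dvd.dvd.mul_left hM _)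
    · rw [← hf1 f hf]
      have h3 : N = (N - u % N) + u % N := (Nat.sub_add_cancel hw.le).symm
      constructor
      · intro h4
        exact (Nat.dvd_add_right h4).1 (h3 ▸ hf)
      · intro h4
        exact Nat.dvd_sub hf h4

/-- the congruence `a r ^ t = s a q ^ i` modulo `M` -/
theorem fold' {M r a s : ℤ} {f k t i : ℕ} (hf : 0 < f) (hk : 0 < k) (hi : i ≤ k) (hM : M ∣ r ^ (f * k) - 1)
    (hs : s * s = 1) (h : M ∣ a * r ^ t - s * (a * (r ^ f) ^ i)) :
    ∃ v, 2 * v ≤ f * k ∧ M ∣ a * (r ^ v - s) ∧ ∀ g, g ∣ f * k → (g ∣ v ↔ g ∣ t + (f * k - f * i)) := by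
  have hle : f * i ≤ f * k := Nat.mul_le_mul_left f hi
  refine fold (Nat.mul_pos hf hk) hM hs ?_
  have h1 : r ^ (f * k) = r ^ (f * k - f * i) * r ^ (f * i) := by rw [← pow_add, Nat.sub_add_cancel hle]
  have h2 : a * (r ^ (t + (f * k - f * i)) - s) = r ^ (f * k - f * i) * (a * r ^ t - s * (a * (r ^ f) ^ i)) +
      (s * a) * (r ^ (f * k) - 1) := by
    rw [h1, pow_add, ← pow_mul]; ring
  rw [h2]
  exact dvd_add (Dvd.dvd.mul_left h _) (Dvd.dvd.mul_left hM _)

/-- the size estimate -/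
theorem size {q k M a X : ℕ} {s : ℤ} (hq : 2 ≤ q) (ha : 0 < a) (hX : 1 ≤ X) (hM : M * (q - 1) = q ^ k - 1)
    (hXX : X * X ≤ q ^ k) (hbig : (a * (q - 1) + 1) * (a * (q - 1) + 1) < q ^ k) (hs : s = 1 ∨ s = -1)
    (h : (M : ℤ) ∣ (a : ℤ) * ((X : ℤ) - s)) : s = 1 ∧ X = 1 := by
  by_contra hcon
  have hpos : 0 < (a : ℤ) * ((X : ℤ) - s) := by
    refine mul_pos (by exact_mod_cast ha) ?_
    rcases hs with rfl | rfl
    · have : X ≠ 1 := fun e => hcon ⟨rfl, e⟩
      have : (1 : ℤ) < X := by exact_mod_cast (by omega : 1 < X)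
      linarith only [this]
    · have : (0 : ℤ) ≤ X := by positivity
      linarith only [hX]
  have h1 : (M : ℤ) ≤ a * (X + 1) := by
    refine (Int.le_of_dvd hpos h).trans ?_
    refine mul_le_mul_of_nonneg_left ?_ (by positivity)
    rcases hs with rfl | rfl <;> linarith only []
  have h2 : M ≤ a * (X + 1) := by exact_mod_cast h1
  have h3 : q ^ k - 1 ≤ a * (q - 1) * (X + 1) := by
    rw [← hM]
    calc M * (q - 1) ≤ a * (X + 1) * (q - 1) := Nat.mul_le_mul_right _ h2
      _ = a * (q - 1) * (X + 1) := by ring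
  set A := a * (q - 1) with hA
  have hA1 : 1 ≤ A := Nat.mul_pos ha (by omega)
  rcases le_or_gt X (A + 1) with h4 | h4
  · have h5 : A * (X + 1) ≤ A * (A + 2) := Nat.mul_le_mul_left _ (by omega)
    have h6 : A * (A + 2) + 1 = (A + 1) * (A + 1) := by ring
    omega
  · have h5 : A * (X + 1) ≤ (X - 2) * (X + 1) := Nat.mul_le_mul_right _ (by omega)
    obtain ⟨y, rfl⟩ : ∃ y, X = y + 2 := ⟨X - 2, by omega⟩
    have h6 : (y + 2 - 2) * (y + 2 + 1) + (y + 4) = (y + 2) * (y + 2) := by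
      rw [Nat.add_sub_cancel]; ring
    omega

/-! ### the data -/

section data

variable {K : Type u} [Field K] [Finite K] {L : Type w} [Field L] [Finite L] [Algebra K L] {k : ℕ}
  {φ : L →*₀ ℂ} (hφ : Function.Injective φ)

theorem index_bot' : (⊥ : Subgroup Kˣ).index = Nat.card K - 1 := by
  rw [Subgroup.index_bot, Nat.card_units]

include hφ

theorem cusG_mk (hn : Module.finrank K L = k) (hk : 2 ≤ k) {a M : ℕ} (ha : a ≠ 0)
    (hM : M * (Nat.card K - 1) = Nat.card K ^ k - 1)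
    (hself : ∀ i, 0 < i → i < k → ¬ (M : ℤ) ∣ (a : ℤ) - a * (Nat.card K : ℤ) ^ i)
    (hopp : 3 ≤ k → ∀ i < k, ¬ (M : ℤ) ∣ (a : ℤ) + a * (Nat.card K : ℤ) ^ i)
    (hdual : ∀ i < k, ¬ ((Nat.card K ^ k - 1 : ℕ) : ℤ) ∣ (a : ℤ) + a * (Nat.card K : ℤ) ^ i)
    (hnu : ∃ ν : Kˣ →* ℂˣ, ∀ z : Kˣ, powTheta φ a ha (algebraMap K L z) = (ν (z * z) : ℂ)) :
    CusG K k (RingHom.id K) (psi (n := k) (F := K) L (powTheta φ a ha)) := by
  classical
  have hM' : M * (⊥ : Subgroup Kˣ).index = Nat.card K ^ k - 1 := by rw [index_bot', hM]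
  have hM2 : (M : ℤ) ∣ ((Nat.card K ^ k - 1 : ℕ) : ℤ) := by
    rw [← hM]; exact Int.natCast_dvd_natCast.2 (dvd_mul_right _ _)
  have hirr : IsIrrCharacter _ (psi (n := k) (F := K) L (powTheta φ a ha)) := by
    refine psi_isIrr _ hn ((regular_powTheta_iff hφ ha hn).2 fun i hi0 hi h1 => hself i hi0 hi ?_)
    have h2 : ((Nat.card K ^ k - 1 : ℕ) : ℤ) ∣ ((a * (Nat.card K ^ i - 1) : ℕ) : ℤ) := Int.natCast_dvd_natCast.2 h1
    have h3 : (a : ℤ) - a * (Nat.card K : ℤ) ^ i = -((a * (Nat.card K ^ i - 1) : ℕ) : ℤ) := by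
      have : 1 ≤ Nat.card K ^ i := Nat.one_le_pow _ _ Nat.card_pos
      push_cast [Nat.cast_sub this]; ring
    rw [h3, dvd_neg]
    exact hM2.trans h2
  refine ⟨hirr, psi_isCusp L _, ?_, ?_, dirr_pow hφ hn (by omega) ⊥ hM' ha hself, fun h3 => ?_, ?_⟩
  · -- dual
    intro h
    have hT : (Nat.card K ^ k - 1) * (⊤ : Subgroup Kˣ).index = Nat.card K ^ k - 1 := by
      rw [Subgroup.index_top, mul_one]
    have : Finite (Matrix (Fin k) (Fin k) K) := inferInstance
    have : Finite (GL (Fin k) K) := inferInstance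
    have : Fintype (DL (⊤ : Subgroup Kˣ) k) := Fintype.ofFinite _
    have h1 := dorth_pow_conj hφ hn ⊤ hT ha ha hdual
    have h2 : dualc (RingHom.id K) (psi (n := k) (F := K) L (powTheta φ a ha)) =
      psi (n := k) (F := K) L (powTheta φ a ha) := h
    rw [dualc_psi_id hn] at h2
    rw [h2] at h1
    have h4 := h1
    have h5 : (∑ A : DL (⊤ : Subgroup Kˣ) k, psi (n := k) (F := K) L (powTheta φ a ha) (A : GL (Fin k) K) *
        conj (psi (n := k) (F := K) L (powTheta φ a ha) (A : GL (Fin k) K))).re = 0 := by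
      rw [h4, Complex.zero_re]
    rw [Complex.re_sum] at h5
    have h6 := (Finset.sum_eq_zero_iff_of_nonneg (fun A _ => by
      rw [Complex.mul_conj, Complex.ofReal_re]
      exact Complex.normSq_nonneg _)).1 h5 1 (Finset.mem_univ _)
    rw [Complex.mul_conj, Complex.ofReal_re, Complex.normSq_eq_zero] at h6
    exact Core.isIrr_apply_one_ne_zero hirr h6
  · rw [psi_one L _ (by omega), degP_eq_Ico]
  · rw [dualc_psi_id hn]
    exact dorth_pow_conj hφ hn ⊥ hM' ha ha (hopp h3)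
  · obtain ⟨ν, hν⟩ := hnu
    refine ⟨ν, fun z A => ?_⟩
    have h1 : Units.map ((RingHom.id K : K →+* K) : K →* K) z = z := by
      apply Units.ext; rfl
    rw [psi_scalar _ hn, hν, h1]

theorem genAt_mk (hn : Module.finrank K L = k) (D : Subgroup Kˣ) {p : ℕ} [Fact p.Prime] [CharP K p] {t : ℕ} {a M : ℕ}
    (ha : a ≠ 0) (hM : M * D.index = Nat.card K ^ k - 1) (τ : K ≃+* K) (hτ : ∀ x : K, τ x = x ^ p ^ t)
    (h1 : ∀ i < k, ¬ (M : ℤ) ∣ (a : ℤ) * p ^ t - a * (Nat.card K : ℤ) ^ i)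
    (h2 : ∀ i < k, ¬ (M : ℤ) ∣ (a : ℤ) * p ^ t + a * (Nat.card K : ℤ) ^ i) :
    GenAt K k (RingHom.id K) D τ (psi (n := k) (F := K) L (powTheta φ a ha)) := by
  have hp : 0 < p ^ t := pow_pos (Fact.out : p.Prime).pos t
  have e1 : powTheta (powTheta φ a ha) (p ^ t) hp.ne' = powTheta φ (a * p ^ t) (mul_ne_zero ha hp.ne') := by
    ext x
    rw [powTheta_apply, powTheta_apply, powTheta_apply, pow_mul]
  have e2 : fmap (τ : K →+* K) (psi (n := k) (F := K) L (powTheta φ a ha)) =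
      psi L (powTheta φ (a * p ^ t) (mul_ne_zero ha hp.ne')) := by
    rw [fmap_psi hn (p := p) (j := t) hτ, e1]
  refine ⟨?_, ?_⟩
  · rw [e2]
    refine dorth_pow hφ hn D hM ha _ fun i hi h => h1 i hi ?_
    push_cast at h
    exact h
  · rw [e2, dualc_psi_id hn]
    refine dorth_pow_conj hφ hn D hM ha _ fun i hi h => h2 i hi ?_
    push_cast at h
    exact h

end data

/-! ### the numerical conditions -/

section num

variable {p f k a M q : ℕ}

/-- `M (q - 1) = q ^ k - 1` : `M ∣ q ^ k - 1` as integers -/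
theorem dvd_int (hp : 0 < p) (hq : q = p ^ f) (hM : M * (q - 1) = q ^ k - 1) : (M : ℤ) ∣ (p : ℤ) ^ (f * k) - 1 := by
  have h1 : ((q ^ k - 1 : ℕ) : ℤ) = (p : ℤ) ^ (f * k) - 1 := by
    have : 1 ≤ q ^ k := Nat.one_le_pow _ _ (by rw [hq]; exact pow_pos hp _)
    rw [Nat.cast_sub this, hq]
    push_cast
    rw [← pow_mul]
  rw [← h1, ← hM]
  exact Int.natCast_dvd_natCast.2 (dvd_mul_right _ _)

/-- all the conditions from one: `k ≥ 3` -/
theorem key_three (hp : 2 ≤ p) (hf : 0 < f) (hk : 3 ≤ k) (hq : q = p ^ f) (ha : 0 < a)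
    (hM : M * (q - 1) = q ^ k - 1) (hbig : (a * (q - 1) + 1) * (a * (q - 1) + 1) < q ^ k) {s : ℤ}
    (hs : s = 1 ∨ s = -1) {t i : ℕ} (hi : i ≤ k) (h : (M : ℤ) ∣ (a : ℤ) * (p : ℤ) ^ t - s * (a * (q : ℤ) ^ i)) :
    s = 1 ∧ f * k ∣ t + (f * k - f * i) := by
  have hs2 : s * s = 1 := by rcases hs with rfl | rfl <;> norm_num
  have hq2 : 2 ≤ q := by
    rw [hq]
    calc 2 ≤ p := hp
      _ = p ^ 1 := (pow_one p).symm
      _ ≤ p ^ f := Nat.pow_le_pow_right (by omega) hf
  rw [hq] at h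
  push_cast at h
  obtain ⟨v, hv, h1, h2⟩ := fold' hf (by omega) hi (dvd_int (by omega) hq hM) hs2 h
  have h3 : p ^ v * p ^ v ≤ q ^ k := by
    rw [hq, ← pow_mul, ← pow_add]
    exact Nat.pow_le_pow_right (by omega) (by omega)
  have h4 := size (X := p ^ v) hq2 ha (Nat.one_le_pow _ _ (by omega)) hM h3 hbig hs (by push_cast; exact h1)
  refine ⟨h4.1, ?_⟩
  have hv0 : v = 0 := by
    by_contra h0
    have : 1 < p ^ v := Nat.one_lt_pow h0 (by omega)
    omega
  rw [← h2 _ (dvd_refl _), hv0]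
  exact dvd_zero _

/-- the Galois conditions, `k = 2` -/
theorem key_two (hp : 2 ≤ p) (hf : 0 < f) (hq : q = p ^ f) (hap : (a = 1) ∨ (a = 2 ∧ 3 ≤ p))
    (hM : M * (q - 1) = q ^ 2 - 1) {s : ℤ} (hs : s = 1 ∨ s = -1) {t i : ℕ} (hi : i ≤ 2) (ht : ¬ f ∣ t)
    (h : (M : ℤ) ∣ (a : ℤ) * (p : ℤ) ^ t - s * (a * (q : ℤ) ^ i)) : False := by
  have hs2 : s * s = 1 := by rcases hs with rfl | rfl <;> norm_num
  have ha : 0 < a := by omega
  have hq2 : 2 ≤ q := by
    rw [hq]
    calc 2 ≤ p := hp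
      _ = p ^ 1 := (pow_one p).symm
      _ ≤ p ^ f := Nat.pow_le_pow_right (by omega) hf
  have hM1 : M = q + 1 := by
    have h1 : q ^ 2 - 1 = (q + 1) * (q - 1) := by
      have := Nat.sq_sub_sq q 1
      rw [one_pow] at this
      exact this
    exact Nat.eq_of_mul_eq_mul_right (by omega) (hM.trans h1)
  rw [hq] at h
  push_cast at h
  obtain ⟨v, hv, h1, h2⟩ := fold' hf (by omega) hi (dvd_int (by omega) hq hM) hs2 h
  have hfv : ¬ f ∣ v := by
    rw [h2 f (dvd_mul_right _ _)]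
    intro h3
    apply ht
    have h4 : f ∣ f * 2 - f * i := by rw [← Nat.mul_sub]; exact dvd_mul_right _ _
    exact (Nat.dvd_add_left h4).1 h3
  have hv0 : v ≠ 0 := fun e => hfv (e ▸ dvd_zero _)
  have hvf : v < f := lt_of_le_of_ne (by omega) (fun e => hfv (e ▸ dvd_refl _))
  have hX1 : 1 < p ^ v := Nat.one_lt_pow hv0 (by omega)
  have hXq : p ^ v * p ≤ q := by
    rw [hq, ← pow_succ]
    exact Nat.pow_le_pow_right (by omega) (by omega)
  have hpv : p ≤ p ^ v := by
    calc p = p ^ 1 := (pow_one p).symm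
      _ ≤ p ^ v := Nat.pow_le_pow_right (by omega) (by omega)
  have hpos : 0 < (a : ℤ) * ((p : ℤ) ^ v - s) := by
    refine mul_pos (by exact_mod_cast ha) ?_
    have h3 : (1 : ℤ) < (p : ℤ) ^ v := by exact_mod_cast hX1
    rcases hs with rfl | rfl <;> linarith only [hX1]
  have h3 : (M : ℤ) ≤ a * ((p : ℤ) ^ v + 1) := by
    refine (Int.le_of_dvd hpos h1).trans ?_
    refine mul_le_mul_of_nonneg_left ?_ (by positivity)
    rcases hs with rfl | rfl <;> linarith only []
  have h4 : M ≤ a * (p ^ v + 1) := by exact_mod_cast h3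
  rw [hM1] at h4
  rcases hap with rfl | ⟨rfl, hp3⟩
  · have : p ^ v * 2 ≤ p ^ v * p := Nat.mul_le_mul_left _ hp
    omega
  · have h5 : p ^ v * 3 ≤ p ^ v * p := Nat.mul_le_mul_left _ hp3
    omega

end num

/-! ### the theorems -/

section main

variable {K : Type u} [Field K] [Finite K] {L : Type w} [Field L] [Finite L] [Algebra K L] {k : ℕ}
  {φ : L →*₀ ℂ}

theorem core (hφ : Function.Injective φ) {q : ℕ} (hq : Nat.card K = q) (hn : Module.finrank K L = k) (hk : 2 ≤ k)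
    (h22 : ¬ (q = 2 ∧ k = 2)) (h32 : ¬ (q = 3 ∧ k = 2)) {a : ℕ} (ha : a ≠ 0)
    (hap : (a = 1 ∧ Even q) ∨ (a = 2 ∧ Odd q)) :
    CusG K k (RingHom.id K) (psi (n := k) (F := K) L (powTheta φ a ha)) ∧
      ∀ τ : K ≃+* K, (∃ x, τ x ≠ x) → GenAt K k (RingHom.id K) ⊥ τ (psi (n := k) (F := K) L (powTheta φ a ha)) := by
  classical
  obtain ⟨p, hp'⟩ := CharP.exists K
  have : Fintype K := Fintype.ofFinite K
  have hFp : Fact p.Prime := ⟨CharP.char_is_prime K p⟩
  have hp : p.Prime := hFp.out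
  obtain ⟨f, hf0, hf⟩ : ∃ f : ℕ, 0 < f ∧ Nat.card K = p ^ f := by
    obtain ⟨f, -, hf⟩ := FiniteField.card K p
    exact ⟨f, f.2, by rw [Nat.card_eq_fintype_card, hf]⟩
  have hqp : q = p ^ f := hq.symm.trans hf
  have hq2 : 2 ≤ q := by rw [← hq]; exact Finite.one_lt_card
  have hap' : (a = 1) ∨ (a = 2 ∧ 3 ≤ p) := by
    rcases hap with ⟨h1, -⟩ | ⟨h1, h2⟩
    · exact Or.inl h1
    · refine Or.inr ⟨h1, ?_⟩
      rcases hp.two_le.eq_or_lt with h3 | h3
      · exfalso
        rw [hqp, ← h3] at h2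
        exact (Nat.not_even_iff_odd.2 h2) ((Nat.even_pow.2 ⟨even_two, hf0.ne'⟩))
      · exact h3
  have hapos : 0 < a := Nat.pos_of_ne_zero ha
  obtain ⟨M, hM⟩ : ∃ M, M * (q - 1) = q ^ k - 1 := by
    have h1 := Nat.sub_dvd_pow_sub_pow q 1 k
    rw [one_pow] at h1
    obtain ⟨M, hM⟩ := h1
    exact ⟨M, by rw [mul_comm, hM]⟩
  have hM2 : (M : ℤ) ∣ ((q ^ k - 1 : ℕ) : ℤ) := by
    rw [← hM]; exact Int.natCast_dvd_natCast.2 (dvd_mul_right _ _)
  have hbig : 3 ≤ k → (a * (q - 1) + 1) * (a * (q - 1) + 1) < q ^ k := by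
    intro hk3
    have h1 : q ^ 3 ≤ q ^ k := Nat.pow_le_pow_right (by omega) hk3
    refine lt_of_lt_of_le ?_ h1
    rcases hap' with rfl | ⟨rfl, h3⟩
    · have h2 : 1 * (q - 1) + 1 = q := by omega
      rw [h2, pow_succ, pow_two]
      exact (Nat.lt_mul_iff_one_lt_right (by positivity)).2 (by omega)
    · have h4 : 3 ≤ q := by
        rw [hqp]
        calc 3 ≤ p := h3
          _ = p ^ 1 := (pow_one p).symm
          _ ≤ p ^ f := Nat.pow_le_pow_right (by omega) hf0
      obtain ⟨y, rfl⟩ : ∃ y, q = y + 3 := ⟨q - 3, by omega⟩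
      have h5 : y + 3 - 1 = y + 2 := by omega
      rw [h5]
      linarith only [Nat.zero_le (y ^ 3), _root_.sq_nonneg (↑y : ℤ), _root_.Nat.cast_nonneg (α := ℤ) (y)]
  -- the two bounds for `k = 2`
  have hM1 : k = 2 → M = q + 1 := by
    rintro rfl
    have h1 : q ^ 2 - 1 = (q + 1) * (q - 1) := by
      have := Nat.sq_sub_sq q 1
      rw [one_pow] at this
      exact this
    exact Nat.eq_of_mul_eq_mul_right (by omega) (hM.trans h1)
  have hbig2 : k = 2 → (a = 1 ∧ 4 ≤ q) ∨ (a = 2 ∧ 5 ≤ q) := by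
    rintro rfl
    rcases hap with ⟨h1, h2⟩ | ⟨h1, h2⟩
    · refine Or.inl ⟨h1, ?_⟩
      obtain ⟨y, hy⟩ := h2
      have : q ≠ 2 := fun e => h22 ⟨e, rfl⟩
      omega
    · refine Or.inr ⟨h1, ?_⟩
      obtain ⟨y, hy⟩ := h2
      have : q ≠ 3 := fun e => h32 ⟨e, rfl⟩
      omega
  have hself : ∀ i, 0 < i → i < k → ¬ (M : ℤ) ∣ (a : ℤ) - a * (Nat.card K : ℤ) ^ i := by
    intro i hi0 hi h
    rw [hq] at h
    rcases hk.eq_or_lt with h2 | h2
    · have hk2 : k = 2 := h2.symm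
      have hi1 : i = 1 := by omega
      rw [hM1 hk2, hi1, pow_one] at h
      rcases hbig2 hk2 with ⟨rfl, h3⟩ | ⟨rfl, h3⟩
      · have h4 : ((q + 1 : ℕ) : ℤ) ∣ ((q - 1 : ℕ) : ℤ) := by
          have e : ((q - 1 : ℕ) : ℤ) = -(((1 : ℕ) : ℤ) - ((1 : ℕ) : ℤ) * (q : ℤ)) := by
            push_cast [Nat.cast_sub (by omega : 1 ≤ q)]; ring
          rw [e, dvd_neg]; exact h
        have h5 := Nat.le_of_dvd (by omega) (Int.natCast_dvd_natCast.1 h4)
        omega
      · have h4 : ((q + 1 : ℕ) : ℤ) ∣ ((4 : ℕ) : ℤ) := by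
          have e : ((4 : ℕ) : ℤ) = (((2 : ℕ) : ℤ) - ((2 : ℕ) : ℤ) * (q : ℤ)) + 2 * ((q + 1 : ℕ) : ℤ) := by
            push_cast; ring
          rw [e]; exact dvd_add h (dvd_mul_left _ _)
        have h5 := Nat.le_of_dvd (by omega) (Int.natCast_dvd_natCast.1 h4)
        omega
    · have h3 := key_three (t := 0) (s := 1) (i := i) hp.two_le hf0 h2 hqp hapos hM (hbig h2) (Or.inl rfl) hi.le
        (by rw [pow_zero, mul_one, one_mul]; exact h)
      have h4 : f * i < f * k := Nat.mul_lt_mul_of_pos_left hi hf0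
      have h5 : 0 < f * i := Nat.mul_pos hf0 hi0
      have h6 := Nat.le_of_dvd (by omega) h3.2
      omega
  have hopp : 3 ≤ k → ∀ i < k, ¬ (M : ℤ) ∣ (a : ℤ) + a * (Nat.card K : ℤ) ^ i := by
    intro hk3 i hi h
    rw [hq] at h
    have h3 := key_three (t := 0) (s := -1) (i := i) hp.two_le hf0 hk3 hqp hapos hM (hbig hk3) (Or.inr rfl) hi.le
        (by rw [pow_zero, mul_one, neg_one_mul, sub_neg_eq_add]; exact h)
    norm_num only [_root_.zero_add, _root_.Nat.dvd_sub_self_left, _root_.mul_eq_zero, _root_.false_and] at h3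
  have hdual : ∀ i < k, ¬ ((Nat.card K ^ k - 1 : ℕ) : ℤ) ∣ (a : ℤ) + a * (Nat.card K : ℤ) ^ i := by
    intro i hi h
    rcases hk.eq_or_lt with h2 | h2
    · have hk2 : k = 2 := h2.symm
      rw [hq] at h
      have h3 : ((q ^ k - 1 : ℕ) : ℤ) ∣ ((a + a * q ^ i : ℕ) : ℤ) := by push_cast; exact h
      have h4 := Nat.le_of_dvd (by (clear * - ha hq2; positivity)) (Int.natCast_dvd_natCast.1 h3)
      rw [hk2] at h4
      have h5 : q ^ i ≤ q := by
        calc q ^ i ≤ q ^ 1 := Nat.pow_le_pow_right (by omega) (by omega)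
          _ = q := pow_one q
      have h6 : a * q ^ i ≤ a * q := Nat.mul_le_mul_left _ h5
      rcases hbig2 hk2 with ⟨rfl, h8⟩ | ⟨rfl, h8⟩
      · have h7 : 4 * q ≤ q ^ 2 := by rw [pow_two]; exact Nat.mul_le_mul_right _ h8
        omega
      · have h7 : 5 * q ≤ q ^ 2 := by rw [pow_two]; exact Nat.mul_le_mul_right _ h8
        omega
    · refine hopp h2 i hi ?_
      rw [hq] at h ⊢
      exact hM2.trans h
  refine ⟨cusG_mk hφ hn hk ha (by rw [hq]; exact hM) hself hopp hdual ?_, ?_⟩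
  · -- nu
    obtain ⟨e, he⟩ : ∃ e : ℕ, ∀ z : Kˣ, (z : K) ^ (2 * e) = (z : K) ^ a := by
      rcases hap with ⟨rfl, h2⟩ | ⟨rfl, -⟩
      · obtain ⟨y, hy⟩ := h2
        refine ⟨y, fun z => ?_⟩
        rw [pow_one, two_mul, ← hy, ← hq, Nat.card_eq_fintype_card]
        exact FiniteField.pow_card (z : K)
      · exact ⟨1, fun z => rfl⟩
    refine ⟨((Units.map (φ : L →* ℂ)).comp (Units.map (algebraMap K L : K →* L))) ^ e, fun z => ?_⟩
    have h1 : (((((Units.map (φ : L →* ℂ)).comp (Units.map (algebraMap K L : K →* L))) ^ e) (z * z) : ℂˣ) : ℂ) =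
        (φ (algebraMap K L ((z * z : Kˣ) : K))) ^ e := rfl
    rw [h1, powTheta_apply, ← map_pow φ, ← map_pow φ, ← map_pow (algebraMap K L), ← map_pow (algebraMap K L),
      Units.val_mul, ← pow_two, ← pow_mul, he]
  · intro τ hτ
    obtain ⟨j, hj⟩ := exists_frob_pow (p := p) τ
    have hfj : ¬ f ∣ j := by
      rintro ⟨c, rfl⟩
      obtain ⟨x, hx⟩ := hτ
      apply hx
      rw [hj, pow_mul, ← hf, Nat.card_eq_fintype_card]
      exact FiniteField.pow_card_pow c x
    have hbot : M * (⊥ : Subgroup Kˣ).index = Nat.card K ^ k - 1 := by rw [index_bot', hq, hM]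
    have hgen : ∀ s : ℤ, s = 1 ∨ s = -1 → ∀ i < k,
        ¬ (M : ℤ) ∣ (a : ℤ) * (p : ℤ) ^ j - s * (a * (q : ℤ) ^ i) := by
      intro s hs i hi h
      rcases hk.eq_or_lt with h2 | h2
      · have hk2 : k = 2 := h2.symm
        exact key_two (t := j) (i := i) hp.two_le hf0 hqp hap' (by rw [hM, hk2]) hs (by omega) hfj h
      · have h3 := key_three (t := j) (i := i) hp.two_le hf0 h2 hqp hapos hM (hbig h2) hs hi.le h
        have h4 : f ∣ f * k - f * i := by rw [← Nat.mul_sub]; exact dvd_mul_right _ _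
        exact hfj ((Nat.dvd_add_left h4).1 ((dvd_mul_right f k).trans h3.2))
    refine genAt_mk hφ hn ⊥ ha hbot τ hj (fun i hi h => ?_) (fun i hi h => ?_)
    · rw [hq] at h
      exact hgen 1 (Or.inl rfl) i hi (by rw [one_mul]; exact h)
    · rw [hq] at h
      exact hgen (-1) (Or.inr rfl) i hi (by rw [neg_one_mul, sub_neg_eq_add]; exact h)

end main

end Cfsg.Agent.H699.CusG

namespace Cfsg.Agent.H576.Ext

open Cfsg.Agent.H477.HC Cfsg.Agent.H53.HC Cfsg.Agent.Characters Module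
open Cfsg.Agent.H139.Cusp Cfsg.Agent.H699.CusG

universe u

/-- linear case: `θ = φ ^ a`, `a = 2` for `q` odd, `a = 1` for `q` even -/
theorem exists_cusG {K : Type u} [Field K] [Finite K] {q : ℕ} (hq : Nat.card K = q) (k : ℕ) (hk : 2 ≤ k)
    (h22 : ¬ (q = 2 ∧ k = 2)) (h32 : ¬ (q = 3 ∧ k = 2)) :
    ∃ c : GL (Fin k) K → ℂ, CusG K k (RingHom.id K) c ∧ ∀ τ : K ≃+* K, (∃ x, τ x ≠ x) → GenAt K k (RingHom.id K) ⊥ τ c := by
  obtain ⟨L, _, _, _, hL⟩ := exists_L K k (by omega)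
  obtain ⟨φ, hφ⟩ := exists_theta L
  rcases Nat.even_or_odd q with h | h
  · exact ⟨_, core hφ hq hL hk h22 h32 one_ne_zero (Or.inl ⟨rfl, h⟩)⟩
  · exact ⟨_, core hφ hq hL hk h22 h32 two_ne_zero (Or.inr ⟨rfl, h⟩)⟩

/-- linear case, `k = 2`, `q` odd: orthogonality to the dual on the matrices of square determinant -/
theorem exists_cusG_two {K : Type u} [Field K] [Finite K] {q : ℕ} (hq : Nat.card K = q) (ho : Odd q) (h5 : 7 ≤ q) :
    ∃ c : GL (Fin 2) K → ℂ, CusG K 2 (RingHom.id K) c ∧ (∀ τ : K ≃+* K, (∃ x, τ x ≠ x) → GenAt K 2 (RingHom.id K) ⊥ τ c) ∧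
      DOrth ((powMonoidHom 2 : Kˣ →* Kˣ).range) c (dualc (RingHom.id K) c) := by
  obtain ⟨L, _, _, _, hL⟩ := exists_L K 2 (by omega)
  obtain ⟨φ, hφ⟩ := exists_theta L
  have h1 := core (K := K) hφ hq hL le_rfl (by omega) (by omega) two_ne_zero (Or.inr ⟨rfl, ho⟩)
  refine ⟨_, h1.1, h1.2, ?_⟩
  have hind : ((powMonoidHom 2 : Kˣ →* Kˣ).range).index ≤ 2 := by
    rw [IsCyclic.index_powMonoidHom_range]
    exact Nat.gcd_le_right _ (by omega)
  rw [dualc_psi_id hL]
  obtain ⟨x, -, hx⟩ := exists_gen (K := K) hL ((powMonoidHom 2 : Kˣ →* Kˣ).range)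
  refine @dorth_pow_conj K _ _ L _ _ _ 2 φ hφ hL _ _ hx _ _ two_ne_zero two_ne_zero fun i hi h => ?_
  rw [hq] at hx h
  have h3 : ((orderOf x : ℕ) : ℤ) ∣ ((2 + 2 * q ^ i : ℕ) : ℤ) := by push_cast; push_cast at h; exact h
  have h4 := Nat.le_of_dvd (by positivity) (Int.natCast_dvd_natCast.1 h3)
  have h6 : q ^ i ≤ q := by
    calc q ^ i ≤ q ^ 1 := Nat.pow_le_pow_right (by omega) (by omega)
      _ = q := pow_one q
  have h7 : 7 * q ≤ q ^ 2 := by rw [pow_two]; exact Nat.mul_le_mul_right _ h5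
  have h8 : orderOf x * ((powMonoidHom 2 : Kˣ →* Kˣ).range).index ≤ orderOf x * 2 := Nat.mul_le_mul_left _ hind
  omega

end Cfsg.Agent.H576.Ext
end

-- part: H993/ExtOmegaOdd_mg
section
prune_inst 0x41100400014000000000000000004204280000000040000000200040000082000400880004000002000000000005000811000020420000000a000400000400000080000010410000020000000080000000000000000000000000000000000000000000000
set_option linter.all false
open scoped Cfsg.Agent.FastGrp

-- part: H993/ExtInd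
section
/-!
# Constituents and induced automorphisms (helper993, S4832, task EXT-C1)

* `exists_theta` : a constituent on `N`, as a character of `S = N / Z`;
* `Ind` : the automorphism of `S` is induced by a semisimilarity;
* `exists_iso` : similitudes with multipliers in the same class differ by an isometry and a scalar.
-/

set_option autoImplicit false

open scoped ComplexConjugate
open Cfsg

namespace Cfsg.Agent.H993.ExtTwo

open Cfsg.Agent.Characters Module Cfsg.Agent.H53.HC Cfsg.Agent.H477.HC Cfsg.Agent.H576.Ext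

universe u v w

/-- descent to a normal subgroup, with the constituent -/
theorem down_constituent' {I : Type u} [Group I] [Finite I] (N : Subgroup I) [N.Normal] [Fintype N] {χ : I → ℂ}
    (hχ : IsIrrCharacter I χ) {d : ℕ} (hd : χ 1 = d) :
    ∃ (θ : N → ℂ) (e : ℕ), IsIrrCharacter N θ ∧ θ 1 = e ∧ e ∣ d ∧ d / e ∣ N.index ∧ 0 < e ∧
      classInner (fun n : N => χ n) θ ≠ 0 ∧
      ∀ z : N, z ∈ Subgroup.center N → χ z = χ 1 → ∀ n, θ (n * z) = θ n := by
  classical
  let _ : Fintype I := Fintype.ofFinite I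
  have hα : IsCharacter N (χ ∘ N.subtype) := Core.isCharacter_comp N.subtype (Core.isIrr_isCharacter hχ)
  obtain ⟨θ, hθ, hθ'⟩ := exists_constituent hα (by
    rw [Function.comp_apply, map_one]; exact Core.isIrr_apply_one_ne_zero hχ)
  obtain ⟨e, he0, he⟩ := Core.isIrr_apply_one hθ
  obtain ⟨h3, h4⟩ := Cfsg.Agent.S0887.result N χ hχ θ hθ hθ' d e hd he
  refine ⟨θ, e, hθ, he, h3, h4, he0, hθ', fun z hzc hzχ => ?_⟩
  obtain ⟨l, hl⟩ := central_mul hθ hzc
  -- `l = 1`
  have e0 : ∑ n : N, (χ ∘ N.subtype) n * conj (θ n) = conj l * ∑ n : N, (χ ∘ N.subtype) n * conj (θ n) := by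
    calc ∑ n : N, (χ ∘ N.subtype) n * conj (θ n)
        = ∑ n : N, (χ ∘ N.subtype) (n * z) * conj (θ (n * z)) :=
          (Equiv.sum_comp (Equiv.mulRight z) (fun n => (χ ∘ N.subtype) n * conj (θ n))).symm
      _ = _ := by
          rw [Finset.mul_sum]
          refine Finset.sum_congr rfl fun n _ => ?_
          have h5 : (χ ∘ N.subtype) (n * z) = (χ ∘ N.subtype) n := kernel_mul hα (by
            change χ z = χ 1
            exact hzχ) n
          rw [hl, map_mul, h5]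
          ring
  have e1 : classInner (χ ∘ N.subtype) θ = conj l * classInner (χ ∘ N.subtype) θ := by
    rw [Core.classInner_def, mul_left_comm, ← e0]
  have e2 : conj l = 1 := by
    have : (conj l - 1) * classInner (χ ∘ N.subtype) θ = 0 := by
      rw [sub_mul, one_mul, ← e1, sub_self]
    exact sub_eq_zero.1 ((mul_eq_zero.1 this).resolve_right hθ')
  have e3 : l = 1 := by
    have := congrArg conj e2
    rwa [Complex.conj_conj, map_one] at this
  intro n
  have := hl n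
  rwa [e3, one_mul] at this

/-- a constituent on `N`, as a character of `S = N / Z` -/
theorem exists_theta {I : Type u} [Group I] [Finite I] (N : Subgroup I) [N.Normal] [Fintype N] {S : Type w} [Group S]
    [Finite S] (q : N →* S) (hq : Function.Surjective q) {χ : I → ℂ} (hχ : IsIrrCharacter I χ)
    (hker : ∀ z : N, q z = 1 → z ∈ Subgroup.center N ∧ χ z = χ 1) {d : ℕ} (hd : χ 1 = d) :
    ∃ (θ : S → ℂ) (e : ℕ), IsIrrCharacter S θ ∧ θ 1 = e ∧ e ∣ d ∧ d / e ∣ N.index ∧ 0 < e ∧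
      classInner (fun n : N => χ n) (fun n => θ (q n)) ≠ 0 := by
  classical
  obtain ⟨θ₀, e, hθ₀, he, h3, h4, h5, h6, h7⟩ := down_constituent' N hχ hd
  obtain ⟨η, hη, hη'⟩ := exists_quot q.ker hθ₀ fun z hz => by
    obtain ⟨hz1, hz2⟩ := hker z hz
    have := h7 z hz1 hz2 1
    rwa [one_mul] at this
  let f : (N ⧸ q.ker) ≃* S := QuotientGroup.quotientKerEquivOfSurjective q hq
  have hf : ∀ n : N, f.symm (q n) = (n : N ⧸ q.ker) := fun n => by
    rw [MulEquiv.symm_apply_eq]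
    rfl
  refine ⟨η ∘ f.symm.toMonoidHom, e, Core.isIrr_comp _ f.symm.surjective hη, ?_, h3, h4, h5, ?_⟩
  · rw [Function.comp_apply, map_one, ← he, ← hη' 1]
    rfl
  · have h8 : (fun n : N => (η ∘ f.symm.toMonoidHom) (q n)) = θ₀ := by
      funext n
      change η (f.symm (q n)) = _
      rw [hf, hη']
    rw [h8]
    exact h6

/-- the prime divisors of the degree of the constituent -/
theorem dvd_of_index {r a d e i : ℕ} (hr : r.Prime) (h1 : r ^ a ∣ d) (h2 : ¬ r ^ a ∣ i) (h3 : e ∣ d) (h4 : d / e ∣ i)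
    (h5 : 0 < e) : r ∣ e := by
  by_contra hre
  have h8 : r ^ a ∣ d / e := by
    obtain ⟨f, rfl⟩ := h3
    rw [Nat.mul_div_cancel_left _ h5]
    exact (Nat.Coprime.pow_left a ((Nat.Prime.coprime_iff_not_dvd hr).2 hre)).dvd_of_dvd_mul_left h1
  exact h2 (h8.trans h4)

section Ind

variable {K : Type u} [Field K] {V : Type v} [AddCommGroup V] [Module K V] {F : CForm K V}

/-- the automorphism `α` of `S` is induced by the semisimilarity `s` -/
def Ind {N : Subgroup F.iso} {S : Type w} [Group S] (q : N →* S) (α : MulAut S) (s : Semi F) : Prop :=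
  ∃ β : N ≃* N, (∀ (n : N) (v : V), ((β n : F.iso) : V ≃ₗ[K] V) (s.γ v) = s.γ (((n : F.iso) : V ≃ₗ[K] V) v)) ∧
    ∀ n : N, q (β n) = α (q n)

variable (F) in
/-- the identity -/
def semiOne : Semi F where
  τ := RingEquiv.refl K
  lam := 1
  hlam := one_ne_zero
  γ := AddEquiv.refl V
  smul _ _ := rfl
  hB _ _ := (one_mul _).symm
  hQ _ := (one_mul _).symm

theorem ind_one {N : Subgroup F.iso} {S : Type w} [Group S] (q : N →* S) : Ind q 1 (semiOne F) :=
  ⟨MulEquiv.refl N, fun _ _ => rfl, fun _ => rfl⟩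

/-- similitudes which differ by an element of `N` and a scalar -/
theorem Ind.conj {N : Subgroup F.iso} {S : Type w} [Group S] {q : N →* S} (hq : Function.Surjective q)
    {α α' : MulAut S} {s s' : Semi F} (h : Ind q α s) (h' : Ind q α' s') (g : N) {μ : K} (hμ : μ ≠ 0)
    (hg : ∀ v, s.γ v = μ • ((g : F.iso) : V ≃ₗ[K] V) (s'.γ v)) : α * α'⁻¹ ∈ (MulAut.conj (G := S)).range := by
  obtain ⟨β, hβ, hqβ⟩ := h
  obtain ⟨β', hβ', hqβ'⟩ := h'
  have key : ∀ n : N, β n * g = g * β' n := by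
    intro n
    apply Subtype.ext
    apply Subtype.ext
    apply LinearEquiv.ext
    intro v
    have hob_ := s'.γ.surjective v
    obtain ⟨w, rfl⟩ := hob_
    have h1 := hβ n w
    rw [hg, hg, map_smul] at h1
    have h2 := smul_right_injective V hμ h1
    change ((β n : F.iso) : V ≃ₗ[K] V) (((g : F.iso) : V ≃ₗ[K] V) (s'.γ w)) =
      ((g : F.iso) : V ≃ₗ[K] V) (((β' n : F.iso) : V ≃ₗ[K] V) (s'.γ w))
    rw [hβ']
    exact h2
  refine ⟨q g, ?_⟩
  apply MulEquiv.ext
  intro x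
  obtain ⟨y, rfl⟩ := α'.surjective x
  obtain ⟨n, rfl⟩ := hq y
  rw [MulAut.mul_apply, MulAut.inv_apply_self, ← hqβ, ← hqβ', MulAut.conj_apply]
  have h1 := congrArg q (key n)
  rw [map_mul, map_mul] at h1
  rw [← h1, mul_inv_cancel_right]

/-- similitudes with multipliers in the same class differ by an isometry and a scalar -/
theorem exists_iso (s s' : Semi F) (hs : ∀ x, s.τ x = x) (hs' : ∀ x, s'.τ x = x) {μ : K} (hμ : μ ≠ 0)
    (hl : s.lam = μ * F.σ μ * s'.lam) : ∃ g : F.iso, ∀ v, s.γ v = μ • (g : V ≃ₗ[K] V) (s'.γ v) := by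
  have hσμ : F.σ μ ≠ 0 := by rwa [Ne, map_eq_zero_iff _ F.σ.injective]
  have h1 : ∀ (a : K) (v : V), s.γ (a • v) = a • s.γ v := fun a v => by rw [s.smul, hs]
  have h2 : ∀ (a : K) (v : V), s'.γ (a • v) = a • s'.γ v := fun a v => by rw [s'.smul, hs']
  have h3 : ∀ (a : K) (v : V), s'.γ.symm (a • v) = a • s'.γ.symm v := fun a v => by
    apply s'.γ.injective
    rw [AddEquiv.apply_symm_apply, h2, AddEquiv.apply_symm_apply]
  let g₀ : V ≃ₗ[K] V :=
    { toFun := fun v => μ⁻¹ • s.γ (s'.γ.symm v)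
      invFun := fun v => s'.γ (s.γ.symm (μ • v))
      left_inv := fun v => by
        change s'.γ (s.γ.symm (μ • μ⁻¹ • s.γ (s'.γ.symm v))) = v
        rw [smul_inv_smul₀ hμ, AddEquiv.symm_apply_apply, AddEquiv.apply_symm_apply]
      right_inv := fun v => by
        change μ⁻¹ • s.γ (s'.γ.symm (s'.γ (s.γ.symm (μ • v)))) = v
        rw [AddEquiv.symm_apply_apply, AddEquiv.apply_symm_apply, inv_smul_smul₀ hμ]
      map_add' := fun v w => by rw [map_add, map_add, smul_add]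
      map_smul' := fun a v => by rw [h3, h1, smul_comm]; rfl }
  have hg₀ : ∀ v, g₀ (s'.γ v) = μ⁻¹ • s.γ v := fun v => by
    change μ⁻¹ • s.γ (s'.γ.symm (s'.γ v)) = _
    rw [AddEquiv.symm_apply_apply]
  have hmem : g₀ ∈ F.iso := by
    refine ⟨fun u v => ?_, fun v => ?_⟩
    · obtain ⟨u, rfl⟩ := s'.γ.surjective u
      obtain ⟨v, rfl⟩ := s'.γ.surjective v
      rw [hg₀, hg₀, F.B_smul_left, F.B_smul_right, s.hB, s'.hB, hs, hs', hl, map_inv₀]
      field_simp
    · obtain ⟨v, rfl⟩ := s'.γ.surjective v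
      rw [hg₀, F.Q_smul, s.hQ, s'.hQ, hs, hs', hl, map_inv₀]
      field_simp
  refine ⟨⟨g₀, hmem⟩, fun v => ?_⟩
  change s.γ v = μ • g₀ (s'.γ v)
  rw [hg₀, smul_inv_smul₀ hμ]

end Ind

end Cfsg.Agent.H993.ExtTwo
end

-- part: H993/ExtOrth
section
/-!
# Orthogonal groups: the glue between `E Q` and the isometry groups of `CForm`s (helper993, S4832)

`F : CForm K V`, `Q : QuadraticForm K V` with the same values (`Glue F Q`).

* `NE F Q` : the subgroup `E Q` of `F.iso`; `qE : NE →* E Q / Z(E Q)`;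
* `hasRoots`, `normal_NE`;
* `exists_ind` : every semisimilitude induces an automorphism `Psi Q M`, `Ind qE (Psi Q M) s`.
-/

set_option autoImplicit false

open scoped ComplexConjugate
open Cfsg

namespace Cfsg.Agent.H993.ExtOrth

open Cfsg.Agent.Characters Module Cfsg.Agent.H53.HC Cfsg.Agent.H477.HC Cfsg.Agent.H576.Ext Cfsg.Agent.H993.ExtTwo
open QuadraticMap Cfsg.Agent.LieClassical.OrthCore Cfsg.Agent.LieClassical.OrthTrans
  Cfsg.Agent.LieClassical.OrthSimple Cfsg.Agent.ClassicalGeometry.OrthSemi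

universe u v

variable {K : Type u} [Field K] {V : Type v} [AddCommGroup V] [Module K V] {F : CForm K V} {Q : QuadraticForm K V}

/-- `F` is the form of `Q` -/
structure Glue (F : CForm K V) (Q : QuadraticForm K V) : Prop where
  hσ : F.σ = RingHom.id K
  hε : F.ε = 1
  hQ : ∀ v, F.Q v = Q v
  hB : ∀ u v, F.B u v = polar Q u v

theorem Glue.mem_iso (hF : Glue F Q) {g : V ≃ₗ[K] V} : g ∈ F.iso ↔ g ∈ O Q := by
  constructor
  · rintro ⟨-, h⟩ v
    rw [← hF.hQ, ← hF.hQ, h]
  · intro h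
    refine ⟨fun u v => ?_, fun v => ?_⟩
    · rw [hF.hB, hF.hB, polar_map h]
    · rw [hF.hQ, hF.hQ, mem_O.1 h]

variable (F Q) in
/-- `E Q` in the isometry group -/
def NE : Subgroup F.iso := (E Q).subgroupOf F.iso

theorem mem_NE {n : F.iso} : n ∈ NE F Q ↔ (n : V ≃ₗ[K] V) ∈ E Q := Iff.rfl

theorem Glue.le (hF : Glue F Q) : E Q ≤ F.iso := fun _ hg => hF.mem_iso.2 (E_le_O hg)

theorem Glue.normal (hF : Glue F Q) : (NE F Q).Normal :=
  ⟨fun _ hn g => conj_mem_E (hF.mem_iso.1 g.2) hn⟩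

/-- `NE ≃* E Q` -/
noncomputable def Glue.equiv (hF : Glue F Q) : NE F Q ≃* E Q := Subgroup.subgroupOfEquivOfLe hF.le

theorem Glue.equiv_coe (hF : Glue F Q) (n : NE F Q) :
    ((hF.equiv n : E Q) : V ≃ₗ[K] V) = ((n : F.iso) : V ≃ₗ[K] V) := rfl

theorem Glue.symm_coe (hF : Glue F Q) (h : E Q) :
    (((hF.equiv.symm h : NE F Q) : F.iso) : V ≃ₗ[K] V) = (h : V ≃ₗ[K] V) := by
  rw [← hF.equiv_coe, MulEquiv.apply_symm_apply]

/-- the projection -/
noncomputable def Glue.q (hF : Glue F Q) : NE F Q →* (↥(E Q) ⧸ Subgroup.center ↥(E Q)) :=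
  (QuotientGroup.mk' _).comp hF.equiv.toMonoidHom

theorem Glue.q_apply (hF : Glue F Q) (n : NE F Q) : hF.q n = QuotientGroup.mk (hF.equiv n) := rfl

theorem Glue.q_surjective (hF : Glue F Q) : Function.Surjective hF.q := by
  intro x
  have hob_ := QuotientGroup.mk_surjective x
  obtain ⟨h, rfl⟩ := hob_
  exact ⟨hF.equiv.symm h, by rw [hF.q_apply, MulEquiv.apply_symm_apply]⟩

theorem Glue.hasRoots (hF : Glue F Q) : HasRoots F (NE F Q) := by
  intro x b hx hb hxb _ g hg
  rw [mem_NE]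
  have hQx : Q x = 0 := by rw [← hF.hQ]; exact hx.1
  have hQb : Q b = 0 := by rw [← hF.hQ]; exact hb.1
  have hbx : polar Q b x = 0 := by rw [polar_comm, ← hF.hB]; exact hxb
  have h1 : (g : V ≃ₗ[K] V) = siegel Q b x hQb hbx := by
    ext v
    rw [hg, siegel_apply, hF.hε, hF.hB, hF.hB, inv_one, one_mul, hQx, zero_mul, zero_smul, sub_zero, polar_comm Q v b,
      polar_comm Q v x]
  rw [h1]
  exact siegel_mem_E hQb hbx

/-- the semisimilarity of a semisimilitude -/
def Glue.semi (hF : Glue F Q) {σ : K ≃+* K} {c : K} {M : Equiv.Perm V} (hM : IsSS Q σ c M) : Semi F where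
  τ := σ
  lam := c
  hlam := hM.ne
  γ := { M with map_add' := hM.add }
  smul := hM.smul
  hB v w := by
    rw [hF.hB, hF.hB]
    exact hM.polar v w
  hQ v := by
    rw [hF.hQ, hF.hQ]
    exact hM.form v

theorem Glue.ind (hF : Glue F Q) (M : Gam Q) {σ : K ≃+* K} {c : K} (hM : IsSS Q σ c M.1) :
    Ind hF.q (Psi Q M) (hF.semi hM) := by
  refine ⟨(hF.equiv.trans (conjE Q M)).trans hF.equiv.symm, fun n v => ?_, fun n => ?_⟩
  · change (((hF.equiv.symm (conjE Q M (hF.equiv n)) : NE F Q) : F.iso) : V ≃ₗ[K] V) (M.1 v) = _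
    rw [hF.symm_coe, coe_conjE, hF.equiv_coe, conjLin_apply']
    rfl
  · change QuotientGroup.mk (hF.equiv (hF.equiv.symm (conjE Q M (hF.equiv n)))) = _
    rw [MulEquiv.apply_symm_apply, hF.q_apply, Psi_mk]

theorem Glue.exists_ind (hF : Glue F Q) (M : Gam Q) : ∃ s : Semi F, Ind hF.q (Psi Q M) s := by
  have hob_ := M.2
  obtain ⟨σ, c, hM⟩ := hob_
  exact ⟨_, hF.ind M hM⟩

/-- a semisimilarity, as an element of `Gam Q` -/
theorem Glue.isSS (hF : Glue F Q) (s : Semi F) : IsSS Q s.τ s.lam s.γ.toEquiv where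
  ne := s.hlam
  add := s.γ.map_add
  smul := s.smul
  form v := by
    change Q (s.γ v) = _
    rw [← hF.hQ, ← hF.hQ, s.hQ]

/-- the kernel of `q` -/
theorem Glue.mem_center (hF : Glue F Q) {z : NE F Q} (hz : hF.q z = 1) :
    z ∈ Subgroup.center (NE F Q) ∧ hF.equiv z ∈ Subgroup.center ↥(E Q) := by
  rw [hF.q_apply, QuotientGroup.eq_one_iff] at hz
  refine ⟨?_, hz⟩
  rw [Subgroup.mem_center_iff] at hz ⊢
  intro g
  apply hF.equiv.injective
  rw [map_mul, map_mul, hz]

theorem glue_odd {m : ℕ} (h2 : (2 : K) ≠ 0) : Glue (CForm.oddF K m h2) (LieClassical.OrthForms.oddForm m K) where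
  hσ := rfl
  hε := rfl
  hQ v := by
    rw [LieClassical.OrthForms.coe_oddForm]
    rfl
  hB u v := by
    rw [odd_hB, QuadraticMap.polar, LieClassical.OrthForms.coe_oddForm]
    rfl

end Cfsg.Agent.H993.ExtOrth
end

-- part: H993/ExtTwo
section
/-!
# Rows with `|T / Inn| ≤ 2` (helper993, S4832, task EXT-C1)

* `ext_of_two` : extension if the linear similitudes induce inner automorphisms and at most one more coset;
* `hasExt_row`.
-/

set_option autoImplicit false

open scoped ComplexConjugate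
open Cfsg

namespace Cfsg.Agent.H993.ExtTwo

open Cfsg.Agent.Characters Module Cfsg.Agent.H53.HC Cfsg.Agent.H477.HC Cfsg.Agent.H576.Ext

universe u v w

section Ind

variable {K : Type u} [Field K] {V : Type v} [AddCommGroup V] [Module K V] {F : CForm K V}

/-- **no field automorphisms in the stabiliser** -/
theorem eq_one_of_stab [Finite K] [FiniteDimensional K V] [Finite V] {k : ℕ} [Fintype (F.Om k)] (hk : 2 ≤ k)
    {N : Subgroup F.iso} [Fintype N] (hN : HasRoots F N) (hD : HasLevi F N ⊥ k)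
    {c : GL (Fin k) K → ℂ} (hc : CusG K k F.σ c)
    (hg : ∀ τ : K ≃+* K, (∃ x, τ x ≠ x) → GenAt K k F.σ ⊥ τ c)
    {S : Type w} [Group S] [Finite S] {q : N →* S} (hq : Function.Surjective q) {θ : S → ℂ} (hθ : IsIrrCharacter S θ)
    (h0 : classInner (fun n : N => F.hc c (fun _ _ => 1) n) (fun n => θ (q n)) ≠ 0) {α : MulAut S}
    (hα : α ∈ stab θ) {s : Semi F} (h : Ind q α s) : ∀ x, s.τ x = x := by
  by_contra hτ
  push Not at hτ
  obtain ⟨h1, h2⟩ := hg s.τ hτ
  obtain ⟨β, hβ, hqβ⟩ := h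
  have hz : ∀ x : K, s.lam * s.τ x = 0 ↔ x = 0 := fun x => by
    rw [mul_eq_zero, or_iff_right s.hlam, map_eq_zero_iff _ s.τ.injective]
  exact eq_one_of_fix F hk hN hD hc.irr hc.cusp s.τ h1 h2 (θ := fun n => θ (q n))
    (Core.isIrr_comp q hq hθ) h0 s.γ s.smul (fun v w => by rw [s.hB, hz]) (fun v => by rw [s.hQ, hz]) β hβ fun n => by
      change θ (q (β n)) = θ (q n)
      rw [hqβ]
      exact mem_stab.1 hα (q n)

/-- **the row theorem, `|T / Inn| ≤ 2`** -/
theorem ext_of_two [Finite K] [FiniteDimensional K V] [Finite V] {k : ℕ} [Fintype (F.Om k)] (hk : 2 ≤ k)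
    {N : Subgroup F.iso} [Fintype N] (hN : HasRoots F N) (hD : HasLevi F N ⊥ k)
    {c : GL (Fin k) K → ℂ} (hc : CusG K k F.σ c)
    (hg : ∀ τ : K ≃+* K, (∃ x, τ x ≠ x) → GenAt K k F.σ ⊥ τ c)
    {S : Type w} [Group S] [Finite S] (hZ : Subgroup.center S = ⊥) {q : N →* S} (hq : Function.Surjective q)
    (hAut : ∀ α : MulAut S, ∃ s, Ind q α s)
    (hLin : ∀ (α α' : MulAut S) (s s' : Semi F), (∀ x, s.τ x = x) → (∀ x, s'.τ x = x) → Ind q α s → Ind q α' s' →
      α ∈ (MulAut.conj (G := S)).range ∨ α' ∈ (MulAut.conj (G := S)).range ∨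
        α * α'⁻¹ ∈ (MulAut.conj (G := S)).range) {θ : S → ℂ} (hθ : IsIrrCharacter S θ)
    (h0 : classInner (fun n : N => F.hc c (fun _ _ => 1) n) (fun n => θ (q n)) ≠ 0) : ExtTo θ (stab θ) := by
  have h1 : ∀ α ∈ stab θ, ∃ s : Semi F, (∀ x, s.τ x = x) ∧ Ind q α s := by
    intro α hα
    obtain ⟨s, hs⟩ := hAut α
    exact ⟨s, eq_one_of_stab hk hN hD hc hg hq hθ h0 hα hs, hs⟩
  have hI : (MulAut.conj (G := S)).range ≤ stab θ := by
    rintro _ ⟨s, rfl⟩
    rw [mem_stab]
    intro x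
    exact Core.isIrr_isClassFunction hθ x s
  refine extTo_of_cyc hZ hθ hI le_rfl ?_
  by_cases hex : ∃ γ ∈ stab θ, γ ∉ (MulAut.conj (G := S)).range
  · obtain ⟨γ, hγ, hγ'⟩ := hex
    refine ⟨γ, hγ, fun α hα => ?_⟩
    obtain ⟨s, hs, his⟩ := h1 α hα
    obtain ⟨s', hs', his'⟩ := h1 γ hγ
    rcases hLin α γ s s' hs hs' his his' with ⟨s, hs⟩ | h | ⟨s, hs⟩
    · exact ⟨0, s, by rw [zpow_zero, mul_one, hs]⟩
    · exact absurd h hγ'
    · exact ⟨1, s, by rw [hs, zpow_one, inv_mul_cancel_right]⟩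
  · push Not at hex
    refine ⟨1, one_mem _, fun α hα => ?_⟩
    obtain ⟨s, hs⟩ := hex α hα
    exact ⟨0, s, by rw [zpow_zero, mul_one, hs]⟩

/-- **the row** -/
theorem hasExt_row [Finite K] [FiniteDimensional K V] [Finite V] {k : ℕ} (hk : 2 ≤ k) {W₀ : Submodule K V}
    (hW₀ : W₀ ∈ F.Om k) {N : Subgroup F.iso} [N.Normal] (hN : HasRoots F N) (hD : HasLevi F N ⊥ k)
    {c : GL (Fin k) K → ℂ} (hc : CusG K k F.σ c)
    (hg : ∀ τ : K ≃+* K, (∃ x, τ x ≠ x) → GenAt K k F.σ ⊥ τ c)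
    {S : Type w} [Group S] [Finite S] (hZ : Subgroup.center S = ⊥) {q : N →* S} (hq : Function.Surjective q)
    (hker : ∀ z : N, q z = 1 → z ∈ Subgroup.center N ∧ ∃ a : Kˣ, a * Units.map (F.σ : K →* K) a = 1 ∧
      ∀ v, ((z : F.iso) : V ≃ₗ[K] V) v = (a : K) • v)
    (hAut : ∀ α : MulAut S, ∃ s, Ind q α s)
    (hLin : ∀ (α α' : MulAut S) (s s' : Semi F), (∀ x, s.τ x = x) → (∀ x, s'.τ x = x) → Ind q α s → Ind q α' s' →
      α ∈ (MulAut.conj (G := S)).range ∨ α' ∈ (MulAut.conj (G := S)).range ∨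
        α * α'⁻¹ ∈ (MulAut.conj (G := S)).range) {r a : ℕ} (hr : r.Prime) (h1 : r ^ a ∣ dg F k)
    (h2 : ¬ r ^ a ∣ N.index) : HasExt r S := by
  classical
  have := finite_Om F k
  have := finite_iso F
  let _ := Fintype.ofFinite (F.Om k)
  let _ := Fintype.ofFinite F.iso
  let _ := Fintype.ofFinite N
  have hcl := Core.isIrr_isClassFunction hc.irr
  have hχ : IsIrrCharacter F.iso (F.hc c (fun _ _ => 1)) := F.isIrr_hc_one hc.irr hc.cusp hc.dual hW₀
  have hχ1 : F.hc c (fun _ _ => 1) 1 = (dg F k : ℂ) := by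
    rw [F.hc_one hcl (fun _ _ => 1) (d := 1) (fun _ _ => rfl), hc.deg, mul_one]
    unfold dg
    rw [Nat.cast_mul]
  obtain ⟨ν, hν⟩ := hc.nu
  obtain ⟨θ, e, hθ, he, h3, h4, h5, h6⟩ := exists_theta N q hq hχ (fun z hz => by
    obtain ⟨hz1, b, hb, hzb⟩ := hker z hz
    refine ⟨hz1, F.hc_scalar hcl (fun _ _ => 1) hzb ?_ (fun _ _ => rfl)⟩
    have h7 := hν b 1
    rwa [mul_one, hb, map_one, Units.val_one, one_mul] at h7) hχ1
  refine ⟨θ, hθ, ?_, ext_of_two hk hN hD hc hg hZ hq hAut hLin hθ h6⟩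
  rw [H670.PSing.charDegree_eq_of he]
  exact dvd_of_index hr h1 h2 h3 h4 h5

end Ind

end Cfsg.Agent.H993.ExtTwo
end

-- part: H993/ExtPSp
section
/-!
# Row `PSp_{2m}(q)`, `q` odd (helper993, S4832, task EXT-C1)
-/

set_option autoImplicit false

open scoped ComplexConjugate
open Cfsg

namespace Cfsg.Agent.H993.ExtPSp

open Cfsg.Agent.Characters Module Cfsg.Agent.H53.HC Cfsg.Agent.H477.HC Cfsg.Agent.H576.Ext Cfsg.Agent.H993.ExtTwo
open Cfsg.Agent.ClassicalGeometry.SympAutSemi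

universe u

variable {K : Type u} [Field K] {m : ℕ}

/-- the projection of the isometry group -/
noncomputable def qSp (m : ℕ) (K : Type u) [Field K] : (⊤ : Subgroup (CForm.spF K m).iso) →* PSp m K :=
  ((QuotientGroup.mk' (Subgroup.center (Matrix.symplecticGroup (Fin m) K))).comp
    (isoSp m K).symm.toMonoidHom).comp (⊤ : Subgroup (CForm.spF K m).iso).subtype

theorem qSp_apply (A : Matrix.symplecticGroup (Fin m) K) :
    qSp m K ⟨isoSp m K A, Subgroup.mem_top _⟩ = QuotientGroup.mk A := by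
  change (QuotientGroup.mk ((isoSp m K).symm (isoSp m K A)) : PSp m K) = _
  rw [MulEquiv.symm_apply_apply]

theorem exists_isoSp (n : (⊤ : Subgroup (CForm.spF K m).iso)) :
    ∃ A : Matrix.symplecticGroup (Fin m) K, n = ⟨isoSp m K A, Subgroup.mem_top _⟩ :=
  ⟨(isoSp m K).symm n, Subtype.ext ((isoSp m K).apply_symm_apply _).symm⟩

theorem qSp_surjective : Function.Surjective (qSp m K) := by
  intro x
  have hob_ := QuotientGroup.mk_surjective x
  obtain ⟨A, rfl⟩ := hob_
  exact ⟨_, qSp_apply A⟩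

/-- the semisimilarity of an element of `semiSim` -/
theorem exists_semi_ind (g : semiSim m K) : ∃ s : Semi (CForm.spF K m), Ind (qSp m K) (Psi m K g) s := by
  obtain ⟨φ, l, hl, hadd, hsmul, hform⟩ := g.2
  let s : Semi (CForm.spF K m) :=
    { τ := φ
      lam := l
      hlam := hl
      γ := { g.1 with map_add' := hadd }
      smul := hsmul
      hB := fun v w => by
        rw [spF_B_eq, spF_B_eq, map_neg, mul_neg]
        exact congrArg Neg.neg (hform v w)
      hQ := fun v => by simp }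
  let e : (⊤ : Subgroup (CForm.spF K m).iso) ≃* Matrix.symplecticGroup (Fin m) K :=
    Subgroup.topEquiv.trans (isoSp m K).symm
  refine ⟨s, (e.trans (conjHom m K g)).trans e.symm, ?_, ?_⟩
  · intro n v
    have hob_ := exists_isoSp n
    obtain ⟨A, rfl⟩ := hob_
    have he : e ⟨isoSp m K A, Subgroup.mem_top _⟩ = A := (isoSp m K).symm_apply_apply A
    change ((isoSp m K (conjHom m K g (e ⟨isoSp m K A, Subgroup.mem_top _⟩)) : (CForm.spF K m).iso) :
      (Fin m ⊕ Fin m → K) ≃ₗ[K] (Fin m ⊕ Fin m → K)) (g.1 v) = g.1 _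
    rw [he, isoSp_apply, ← rho_apply, rho_conjHom]
    change g.1 (rho m K A (g.1⁻¹ (g.1 v))) = _
    rw [perm_inv_apply_self]
    rfl
  · intro n
    have hob_ := exists_isoSp n
    obtain ⟨A, rfl⟩ := hob_
    have he : e ⟨isoSp m K A, Subgroup.mem_top _⟩ = A := (isoSp m K).symm_apply_apply A
    rw [qSp_apply, Psi_mk]
    change qSp m K ⟨isoSp m K (conjHom m K g (e ⟨isoSp m K A, Subgroup.mem_top _⟩)), Subgroup.mem_top _⟩ = _
    rw [he, qSp_apply]

theorem exists_ind [Finite K] (hm : 2 ≤ m) (h2 : (2 : K) ≠ 0) (α : MulAut (PSp m K)) :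
    ∃ s : Semi (CForm.spF K m), Ind (qSp m K) α s := by
  obtain ⟨g, rfl⟩ := Cfsg.Agent.ClassicalGeometry.SympAutExists.exists_semi hm α
    (Cfsg.Agent.ClassicalGeometry.SympAutOddA.recog hm (Or.inr h2) α)
  exact exists_semi_ind g

/-- nonsquares -/
theorem isSquare_cases [Finite K] {a b : K} (ha : a ≠ 0) (hb : b ≠ 0) :
    IsSquare a ∨ IsSquare b ∨ ∃ μ : K, μ ≠ 0 ∧ a = μ * μ * b := by
  classical
  let _ := Fintype.ofFinite K
  by_cases h1 : IsSquare a
  · exact Or.inl h1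
  by_cases h2 : IsSquare b
  · exact Or.inr (Or.inl h2)
  refine Or.inr (Or.inr ?_)
  have h3 : quadraticChar K a = -1 := (quadraticChar_dichotomy ha).resolve_left fun h =>
    h1 ((quadraticChar_one_iff_isSquare ha).1 h)
  have h4 : quadraticChar K b = -1 := (quadraticChar_dichotomy hb).resolve_left fun h =>
    h2 ((quadraticChar_one_iff_isSquare hb).1 h)
  have h5 : quadraticChar K (a * b) = 1 := by rw [map_mul, h3, h4]; norm_num
  obtain ⟨c, hc⟩ := (quadraticChar_one_iff_isSquare (mul_ne_zero ha hb)).1 h5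
  have hc0 : c ≠ 0 := by
    rintro rfl
    rw [zero_mul] at hc
    exact mul_ne_zero ha hb hc
  refine ⟨c * b⁻¹, mul_ne_zero hc0 (inv_ne_zero hb), ?_⟩
  field_simp
  linear_combination hc

theorem hLin [Finite K] (α α' : MulAut (PSp m K)) (s s' : Semi (CForm.spF K m)) (hs : ∀ x, s.τ x = x)
    (hs' : ∀ x, s'.τ x = x) (h : Ind (qSp m K) α s) (h' : Ind (qSp m K) α' s') :
    α ∈ (MulAut.conj (G := PSp m K)).range ∨ α' ∈ (MulAut.conj (G := PSp m K)).range ∨
      α * α'⁻¹ ∈ (MulAut.conj (G := PSp m K)).range := by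
  have key : ∀ (α α' : MulAut (PSp m K)) (s s' : Semi (CForm.spF K m)), (∀ x, s.τ x = x) → (∀ x, s'.τ x = x) →
      Ind (qSp m K) α s → Ind (qSp m K) α' s' → (∃ μ : K, μ ≠ 0 ∧ s.lam = μ * μ * s'.lam) →
      α * α'⁻¹ ∈ (MulAut.conj (G := PSp m K)).range := by
    rintro α α' s s' hs hs' h h' ⟨μ, hμ, hl⟩
    obtain ⟨g, hg⟩ := exists_iso s s' hs hs' hμ (by rw [hl]; rfl)
    exact h.conj (by exact qSp_surjective) h' ⟨g, Subgroup.mem_top _⟩ hμ hg
  have key' : ∀ (α : MulAut (PSp m K)) (s : Semi (CForm.spF K m)), (∀ x, s.τ x = x) →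
      Ind (qSp m K) α s → IsSquare s.lam → α ∈ (MulAut.conj (G := PSp m K)).range := by
    rintro α s hs h ⟨μ, hμ⟩
    have h1 := key α 1 s (semiOne _) hs (fun _ => rfl) h (ind_one _) ⟨μ, fun h0 => s.hlam (by rw [hμ, h0, zero_mul]), by
      rw [hμ]
      exact (mul_one _).symm⟩
    rwa [inv_one, mul_one] at h1
  have hob_ := isSquare_cases s.hlam s'.hlam
  rcases hob_ with h1 | h1 | h1
  · exact Or.inl (key' α s hs h h1)
  · exact Or.inr (Or.inl (key' α' s' hs' h' h1))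
  · exact Or.inr (Or.inr (key α α' s s' hs hs' h h' h1))

theorem hasRoots_top {V : Type*} [AddCommGroup V] [Module K V] (F : CForm K V) : HasRoots F ⊤ :=
  fun _ _ _ _ _ _ _ _ => Subgroup.mem_top _

theorem hker [Finite K] (z : (⊤ : Subgroup (CForm.spF K m).iso)) (hz : qSp m K z = 1) :
    z ∈ Subgroup.center (⊤ : Subgroup (CForm.spF K m).iso) ∧
      ∃ a : Kˣ, a * Units.map ((CForm.spF K m).σ : K →* K) a = 1 ∧
        ∀ v, ((z : (CForm.spF K m).iso) : (Fin m ⊕ Fin m → K) ≃ₗ[K] (Fin m ⊕ Fin m → K)) v = (a : K) • v := by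
  have hob_ := exists_isoSp z
  obtain ⟨A, rfl⟩ := hob_
  rw [qSp_apply, QuotientGroup.eq_one_iff] at hz
  constructor
  · rw [Subgroup.mem_center_iff] at hz ⊢
    intro g
    have hob_ := exists_isoSp g
    obtain ⟨B, rfl⟩ := hob_
    apply Subtype.ext
    change isoSp m K B * isoSp m K A = isoSp m K A * isoSp m K B
    rw [← map_mul, hz, map_mul]
  · have hob_ := Cfsg.Agent.ClassicalGeometry.SympInvolutions.center_eq hz
    rcases hob_ with h | h
    · refine ⟨1, by rw [map_one, mul_one], fun v => ?_⟩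
      change ((isoSp m K A : (CForm.spF K m).iso) : (Fin m ⊕ Fin m → K) ≃ₗ[K] (Fin m ⊕ Fin m → K)) v = _
      rw [isoSp_apply, h, Matrix.one_mulVec, Units.val_one, one_smul]
    · refine ⟨-1, ?_, fun v => ?_⟩
      · apply Units.ext
        change (-1 : K) * (-1) = 1
        ring
      · change ((isoSp m K A : (CForm.spF K m).iso) : (Fin m ⊕ Fin m → K) ≃ₗ[K] (Fin m ⊕ Fin m → K)) v = _
        rw [isoSp_apply, h, Matrix.neg_mulVec, Matrix.one_mulVec, Units.val_neg, Units.val_one, neg_one_smul]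

/-- **`PSp_{2m}(q)`, `q ≥ 5` odd, `r ∤ q`** -/
theorem row_psp (K : Type u) [Field K] [Finite K] {m : ℕ} (hm : 2 ≤ m) (ho : Odd (Nat.card K)) (h5 : 5 ≤ Nat.card K)
    [IsSimpleGroup (PSp m K)] (hna : ¬ IsMulCommutative (PSp m K)) {r : ℕ} (hr : r.Prime) (hrq : ¬ r ∣ Nat.card K)
    (hd : r ∣ Nat.card (PSp m K)) : HasExt r (PSp m K) := by
  classical
  obtain ⟨p, hchar⟩ := CharP.exists K
  have hp : p.Prime := (CharP.char_is_prime_or_zero K p).resolve_right (CharP.char_ne_zero_of_finite K p)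
  have : Fact p.Prime := ⟨hp⟩
  have h2 : (2 : K) ≠ 0 := two_ne_zero_of_odd (K := K) (p := p) ho
  obtain ⟨s, hs⟩ := card_pow K p
  have hs0 : s ≠ 0 := by
    rintro rfl
    rw [pow_zero] at hs
    omega
  have hrp : r ≠ p := by
    rintro rfl
    exact hrq (by rw [hs]; exact dvd_pow_self r hs0)
  have hZ : Subgroup.center (PSp m K) = ⊥ := GTwoFour.Glue.center_eq_bot hna
  -- the general conclusion
  have key : ∀ (k n : ℕ), k + n = m → 2 ≤ k → r ∣ dg (CForm.spF K (k + n)) k → HasExt r (PSp m K) := by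
    rintro k n rfl hk hdeg
    obtain ⟨⟨W₀, hW₀⟩, -⟩ := CForm.spF_frame (K := K) (p := p) k n
    obtain ⟨c, hc, hg⟩ := exists_cusG (K := K) rfl k hk (by rintro ⟨h, -⟩; omega) (by rintro ⟨h, -⟩; omega)
    refine hasExt_row hk hW₀ (hasRoots_top _) (hasLevi_top _ ⊥ k) hc hg hZ qSp_surjective hker
      (exists_ind hm h2) hLin hr (a := 1) (by rwa [pow_one]) ?_
    rw [Subgroup.index_top, pow_one]
    exact fun h => hr.one_lt.ne' (Nat.dvd_one.1 h)
  -- `r` divides some factor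
  have hd1 : r ∣ Nat.card (Matrix.symplecticGroup (Fin m) K) := hd.trans (Subgroup.card_quotient_dvd_card _)
  rw [Nat.card_congr (isoSp m K).toEquiv, card_spF] at hd1
  have hd2 : r ∣ ∏ i ∈ Finset.range m, (Nat.card K ^ (2 * (i + 1)) - 1) :=
    (hr.dvd_mul.1 hd1).resolve_left fun h => hrq (hr.dvd_of_dvd_pow h)
  by_cases hA : r ∣ (Nat.card K ^ m + 1) * ∏ i ∈ Finset.range (m - 1), (Nat.card K ^ (2 * (i + 1)) - 1)
  · refine key m 0 (Nat.add_zero m) hm ?_
    obtain ⟨e, he⟩ := psp_dvd_top K (p := p) (m := m) (by omega)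
    have := prime_pow_dvd (t := 1) hr hp hrp (by rw [pow_one]; exact hA.trans he)
    rwa [pow_one] at this
  · have hA1 : ¬ r ∣ Nat.card K ^ m + 1 := fun h => hA (Dvd.dvd.mul_right h _)
    have hA2 : ∀ i, i < m - 1 → ¬ r ∣ Nat.card K ^ (2 * (i + 1)) - 1 := fun i hi h =>
      hA (Dvd.dvd.mul_left (h.trans (Finset.dvd_prod_of_mem (fun i => Nat.card K ^ (2 * (i + 1)) - 1)
        (Finset.mem_range.2 hi))) _)
    have hB : r ∣ Nat.card K ^ (2 * m) - 1 := by
      obtain ⟨i, hi, hi'⟩ := (Prime.dvd_finsetProd_iff hr.prime _).1 hd2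
      rw [Finset.mem_range] at hi
      rcases Nat.lt_or_ge i (m - 1) with h | h
      · exact absurd hi' (hA2 i h)
      · have : i + 1 = m := by omega
        rwa [this] at hi'
    have hB' : r ∣ Nat.card K ^ m - 1 := by
      have h4 : Nat.card K ^ (2 * m) - 1 = (Nat.card K ^ m + 1) * (Nat.card K ^ m - 1) := by
        rw [← Nat.sq_sub_sq, one_pow, ← pow_mul, mul_comm]
      rw [h4] at hB
      exact (hr.dvd_mul.1 hB).resolve_left hA1
    have hm3 : 3 ≤ m := by
      by_contra h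
      have hm2 : m = 2 := by omega
      have := hA2 0 (by omega)
      rw [hm2] at hB'
      exact this hB'
    have hm1 : m - 1 + 1 = m := by omega
    refine key (m - 1) 1 hm1 (by omega) ?_
    obtain ⟨e, he⟩ := psp_dvd K (p := p) (k := m - 1) (n := 1) (by omega)
    have h6 : r ∣ p ^ e * (dg (CForm.spF K (m - 1 + 1)) (m - 1) * (Nat.card K ^ (m - 1) - 1)) := by
      refine Dvd.dvd.trans ?_ he
      refine Dvd.dvd.trans ?_ (Finset.dvd_prod_of_mem _ (Finset.mem_Ico.2 ⟨(by omega : 1 ≤ m - 1), by omega⟩))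
      rw [hm1]
      exact hB
    have h7 : r ∣ dg (CForm.spF K (m - 1 + 1)) (m - 1) * (Nat.card K ^ (m - 1) - 1) := by
      have := prime_pow_dvd (t := 1) hr hp hrp (by rw [pow_one]; exact h6)
      rwa [pow_one] at this
    have h8 : ¬ r ∣ Nat.card K ^ (m - 1) - 1 := by
      intro h
      apply hA2 (m - 2) (by omega)
      refine h.trans ?_
      have h9 : m - 2 + 1 = m - 1 := by omega
      rw [h9, mul_comm, pow_mul]
      simpa only [_root_.one_pow] using Nat.sub_dvd_pow_sub_pow (Nat.card K ^ (m - 1)) 1 2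
    exact (hr.dvd_mul.1 h7).resolve_right h8

end Cfsg.Agent.H993.ExtPSp
end

-- part: H993/ExtOmegaOdd
section
/-!
# Row `Ω_{2m+1}(q)`, `q` odd (helper993, S4832, task EXT-C1)
-/

set_option autoImplicit false

open scoped ComplexConjugate
open Cfsg

namespace Cfsg.Agent.H993.ExtOmegaOdd

open Cfsg.Agent.Characters Module Cfsg.Agent.H53.HC Cfsg.Agent.H477.HC Cfsg.Agent.H576.Ext Cfsg.Agent.H993.ExtTwo
open Cfsg.Agent.H993.ExtOrth Cfsg.Agent.H993.ExtPSp
open QuadraticMap Cfsg.Agent.LieClassical.OrthCore Cfsg.Agent.LieClassical.OrthTrans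
  Cfsg.Agent.LieClassical.OrthSimple Cfsg.Agent.LieClassical.OrthFinite Cfsg.Agent.ClassicalGeometry.OrthSemi
  Cfsg.Agent.ClassicalGeometry.OrthSemiForms

universe u v

section general

variable {K : Type u} [Field K] {V : Type v} [AddCommGroup V] [Module K V] {F : CForm K V} {Q : QuadraticForm K V}

variable (F) in
/-- `-1` -/
def negI : F.iso := ⟨LinearEquiv.neg K, fun u v => by
  simp only [LinearEquiv.neg_apply]
  rw [← neg_one_smul K u, ← neg_one_smul K v, F.B_smul_left, F.B_smul_right, map_neg, map_one]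
  ring, fun v => by
  simp only [LinearEquiv.neg_apply]
  rw [← neg_one_smul K v, F.Q_smul, map_neg, map_one]
  ring⟩

theorem negI_sq : negI F * negI F = 1 := by
  apply Subtype.ext
  apply LinearEquiv.ext
  intro v
  change - -v = v
  rw [neg_neg]

theorem negI_comm (g : F.iso) : negI F * g = g * negI F := by
  apply Subtype.ext
  apply LinearEquiv.ext
  intro v
  change -((g : V ≃ₗ[K] V) v) = (g : V ≃ₗ[K] V) (-v)
  rw [map_neg]

/-- `N ∪ -N` -/
def HH (N : Subgroup F.iso) : Subgroup F.iso where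
  carrier := {g | g ∈ N ∨ negI F * g ∈ N}
  one_mem' := Or.inl N.one_mem
  mul_mem' := by
    rintro a b (ha | ha) (hb | hb)
    · exact Or.inl (N.mul_mem ha hb)
    · right
      have := N.mul_mem ha hb
      rwa [← mul_assoc, ← negI_comm, mul_assoc] at this
    · right
      have := N.mul_mem ha hb
      rwa [mul_assoc] at this
    · left
      have := N.mul_mem ha hb
      rwa [negI_comm a, mul_assoc, ← mul_assoc (negI F) (negI F), negI_sq, one_mul] at this
  inv_mem' := by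
    rintro a (ha | ha)
    · exact Or.inl (N.inv_mem ha)
    · right
      have h1 := N.inv_mem ha
      have h2 : (negI F)⁻¹ = negI F := inv_eq_of_mul_eq_one_left negI_sq
      rwa [mul_inv_rev, h2, ← negI_comm] at h1

/-- two elements, `|F.iso : N| = 4`, `-1 ∉ N` -/
theorem HH_cases [Finite F.iso] {N : Subgroup F.iso} (h4 : N.index = 4) (hn : negI F ∉ N) (g g' : F.iso) :
    g ∈ HH N ∨ g' ∈ HH N ∨ g * g'⁻¹ ∈ HH N := by
  have hle : N ≤ HH N := fun x hx => Or.inl hx
  have h1 : N.relIndex (HH N) * (HH N).index = 4 := by rw [Subgroup.relIndex_mul_index hle, h4]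
  have h2 : N.relIndex (HH N) ≠ 1 := by
    intro h
    rw [Subgroup.relIndex_eq_one] at h
    exact hn (h (Or.inr (by rw [negI_sq]; exact N.one_mem)))
  have h3 : (HH N).index = 1 ∨ (HH N).index = 2 := by
    have h5 : (HH N).index ∣ 4 := Dvd.intro_left _ h1
    have h6 : (HH N).index ≤ 4 := Nat.le_of_dvd (by norm_num) h5
    interval_cases h : (HH N).index <;> omega
  rcases h3 with h3 | h3
  · rw [Subgroup.index_eq_one] at h3
    exact Or.inl (h3 ▸ Subgroup.mem_top g)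
  · by_cases h5 : g ∈ HH N
    · exact Or.inl h5
    by_cases h6 : g' ∈ HH N
    · exact Or.inr (Or.inl h6)
    refine Or.inr (Or.inr ?_)
    rw [Subgroup.mul_mem_iff_of_index_two h3, inv_mem_iff]
    exact iff_of_false h5 h6

theorem center_quot_of_bot {G : Type u} [Group G] (h : Subgroup.center G = ⊥) :
    Subgroup.center (G ⧸ Subgroup.center G) = ⊥ := by
  rw [Subgroup.eq_bot_iff_forall]
  intro x hx
  obtain ⟨g, rfl⟩ := QuotientGroup.mk_surjective x
  rw [QuotientGroup.eq_one_iff, Subgroup.mem_center_iff]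
  intro a
  rw [Subgroup.mem_center_iff] at hx
  have h1 := hx (QuotientGroup.mk a)
  rw [← QuotientGroup.mk_mul, ← QuotientGroup.mk_mul, QuotientGroup.eq, h, Subgroup.mem_bot, inv_mul_eq_one] at h1
  exact h1

end general

section odd

variable {K : Type u} [Field K] {m : ℕ}

/-- `Ω ≃* E Q` -/
noncomputable def eOm [Finite K] (hm : 2 ≤ m) (h2 : (2 : K) ≠ 0) :
    Omega K ⇑(LieClassical.OrthForms.oddForm m K) ≃* E (LieClassical.OrthForms.oddForm m K) :=
  let _ := Fintype.ofFinite K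
  (omegaEquiv _).trans (MulEquiv.subgroupCongr (good_odd hm h2).commutator_eq_E)

theorem center_E [Finite K] {p : ℕ} [Fact p.Prime] [CharP K p] (ho : Odd (Nat.card K)) (hm : 3 ≤ m) :
    Subgroup.center ↥(E (LieClassical.OrthForms.oddForm m K)) = ⊥ := by
  have h2 := two_ne_zero_of_odd (K := K) (p := p) ho
  have h := (odd_idx K (p := p) ho hm).2
  rw [← LieClassical.OrthForms.coe_oddForm m K] at h
  have h3 : Subgroup.center (Omega K ⇑(LieClassical.OrthForms.oddForm m K)) = ⊥ := by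
    rw [Subgroup.eq_bot_iff_forall]
    exact h
  rw [← map_center_mulEquiv (eOm (by omega) h2), h3, Subgroup.map_bot]

theorem index_NE [Finite K] {p : ℕ} [Fact p.Prime] [CharP K p] (ho : Odd (Nat.card K)) (hm : 3 ≤ m)
    (h2 : (2 : K) ≠ 0) : (NE (CForm.oddF K m h2) (LieClassical.OrthForms.oddForm m K)).index = 4 := by
  have := finite_iso (CForm.oddF K m h2)
  have h := (odd_idx K (p := p) ho hm).1
  rw [← LieClassical.OrthForms.coe_oddForm m K] at h
  have h3 := Subgroup.card_mul_index (Omega K ⇑(LieClassical.OrthForms.oddForm m K))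
  have h4 := Subgroup.card_mul_index (NE (CForm.oddF K m h2) (LieClassical.OrthForms.oddForm m K))
  rw [h, Nat.card_congr (eOm (by omega) h2).toEquiv] at h3
  rw [Nat.card_congr (glue_odd h2).equiv.toEquiv] at h4
  have h5 : Nat.card (isometryGroup K ⇑(LieClassical.OrthForms.oddForm m K)) = Nat.card (CForm.oddF K m h2).iso := by
    rw [LieClassical.OrthForms.coe_oddForm]
    exact Nat.card_congr (isoQuad (CForm.oddF K m h2) (odd_hB K m h2)).toEquiv
  rw [h5, ← h4] at h3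
  have h6 : 0 < Nat.card ↥(E (LieClassical.OrthForms.oddForm m K)) := by
    have : 0 < Nat.card (CForm.oddF K m h2).iso := Nat.card_pos
    rw [← h4] at this
    exact Nat.pos_of_mul_pos_right this
  exact (Nat.eq_of_mul_eq_mul_left h6 h3).symm

theorem negI_not_mem [Finite K] {p : ℕ} [Fact p.Prime] [CharP K p] (ho : Odd (Nat.card K)) (hm : 3 ≤ m)
    (h2 : (2 : K) ≠ 0) :
    negI (CForm.oddF K m h2) ∉ NE (CForm.oddF K m h2) (LieClassical.OrthForms.oddForm m K) := by
  intro h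
  have hF := glue_odd (K := K) (m := m) h2
  have h1 : hF.equiv ⟨_, h⟩ ∈ Subgroup.center ↥(E (LieClassical.OrthForms.oddForm m K)) := by
    rw [Subgroup.mem_center_iff]
    intro g
    have hob_ := hF.equiv.surjective g
    obtain ⟨n, rfl⟩ := hob_
    rw [← map_mul, ← map_mul]
    congr 1
    exact Subtype.ext (negI_comm _).symm
  rw [center_E (p := p) ho hm, Subgroup.mem_bot] at h1
  have h3 := (map_eq_one_iff _ hF.equiv.injective).1 h1
  have h4 : negI (CForm.oddF K m h2) = 1 := congrArg Subtype.val h3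
  have h5 := congrArg (fun g : (CForm.oddF K m h2).iso =>
    (g : (Unit ⊕ (Fin m ⊕ Fin m) → K) ≃ₗ[K] (Unit ⊕ (Fin m ⊕ Fin m) → K)) (Pi.single (Sum.inl ()) 1)
      (Sum.inl ())) h4
  have h6 : -(1 : K) = 1 := by
    have h7 : -((Pi.single (Sum.inl ()) 1 : Unit ⊕ (Fin m ⊕ Fin m) → K) (Sum.inl ())) =
      (Pi.single (Sum.inl ()) 1 : Unit ⊕ (Fin m ⊕ Fin m) → K) (Sum.inl ()) := h5
    rwa [Pi.single_eq_same] at h7
  apply h2
  linear_combination -h6

/-- a linear similitude is a multiple of an isometry -/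
theorem exists_g [Finite K] (hm : 3 ≤ m) (h2 : (2 : K) ≠ 0) (s : Semi (CForm.oddF K m h2)) (hs : ∀ x, s.τ x = x) :
    ∃ μ : K, μ ≠ 0 ∧ ∃ g : (CForm.oddF K m h2).iso, ∀ v, s.γ v = μ • (g : (Unit ⊕ (Fin m ⊕ Fin m) → K) ≃ₗ[K] _) v := by
  let _ := Fintype.ofFinite K
  have hF := glue_odd (K := K) (m := m) h2
  have hτ : s.τ = RingEquiv.refl K := RingEquiv.ext hs
  have h1 := hF.isSS s
  rw [hτ] at h1
  obtain ⟨μ, hμ⟩ := Cfsg.Agent.ClassicalGeometry.OrthSemiCount.isSquare_of_odd h2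
    (good_odd (F := K) (m := m) (by omega) h2).nondeg (by
      rw [Module.finrank_fintype_fun_eq_card, Fintype.card_sum, Fintype.card_sum, Fintype.card_fin,
        Fintype.card_unit]
      exact ⟨m, by ring⟩) h1
  have hμ0 : μ ≠ 0 := fun h0 => s.hlam (by rw [hμ, h0, zero_mul])
  obtain ⟨g, hg⟩ := exists_iso s (semiOne _) hs (fun _ => rfl) hμ0 (by
    rw [hμ]
    exact (mul_one _).symm)
  exact ⟨μ, hμ0, g, hg⟩

theorem hLinO [Finite K] {p : ℕ} [Fact p.Prime] [CharP K p] (ho : Odd (Nat.card K)) (hm : 3 ≤ m)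
    (h2 : (2 : K) ≠ 0) (hF : Glue (CForm.oddF K m h2) (LieClassical.OrthForms.oddForm m K))
    (α α' : MulAut (↥(E (LieClassical.OrthForms.oddForm m K)) ⧸
      Subgroup.center ↥(E (LieClassical.OrthForms.oddForm m K))))
    (s s' : Semi (CForm.oddF K m h2)) (hs : ∀ x, s.τ x = x) (hs' : ∀ x, s'.τ x = x) (h : Ind hF.q α s)
    (h' : Ind hF.q α' s') :
    α ∈ (MulAut.conj (G := ↥(E (LieClassical.OrthForms.oddForm m K)) ⧸
      Subgroup.center ↥(E (LieClassical.OrthForms.oddForm m K)))).range ∨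
    α' ∈ (MulAut.conj (G := ↥(E (LieClassical.OrthForms.oddForm m K)) ⧸
      Subgroup.center ↥(E (LieClassical.OrthForms.oddForm m K)))).range ∨
      α * α'⁻¹ ∈ (MulAut.conj (G := ↥(E (LieClassical.OrthForms.oddForm m K)) ⧸
      Subgroup.center ↥(E (LieClassical.OrthForms.oddForm m K)))).range := by
  have := finite_iso (CForm.oddF K m h2)
  -- the general step
  have key : ∀ (α α' : MulAut (↥(E (LieClassical.OrthForms.oddForm m K)) ⧸
      Subgroup.center ↥(E (LieClassical.OrthForms.oddForm m K)))) (s s' : Semi (CForm.oddF K m h2)),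
      Ind hF.q α s → Ind hF.q α' s' → ∀ (μ : K) (g : (CForm.oddF K m h2).iso), μ ≠ 0 →
      g ∈ HH (NE (CForm.oddF K m h2) (LieClassical.OrthForms.oddForm m K)) →
      (∀ v, s.γ v = μ • (g : (Unit ⊕ (Fin m ⊕ Fin m) → K) ≃ₗ[K] (Unit ⊕ (Fin m ⊕ Fin m) → K)) (s'.γ v)) →
      α * α'⁻¹ ∈ (MulAut.conj (G := ↥(E (LieClassical.OrthForms.oddForm m K)) ⧸
        Subgroup.center ↥(E (LieClassical.OrthForms.oddForm m K)))).range := by
    intro α α' s s' h h' μ g hμ hg hv
    rcases hg with hg | hg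
    · exact h.conj hF.q_surjective h' ⟨g, hg⟩ hμ hv
    · refine h.conj hF.q_surjective h' ⟨_, hg⟩ (neg_ne_zero.2 hμ) fun v => ?_
      rw [hv]
      change _ = (-μ) • -((g : (Unit ⊕ (Fin m ⊕ Fin m) → K) ≃ₗ[K] (Unit ⊕ (Fin m ⊕ Fin m) → K)) (s'.γ v))
      rw [neg_smul_neg]
  have hob_ := exists_g hm h2 s hs
  obtain ⟨μ, hμ, g, hg⟩ := hob_
  have hob_ := exists_g hm h2 s' hs'
  obtain ⟨μ', hμ', g', hg'⟩ := hob_
  have hob_ := HH_cases (index_NE (p := p) ho hm h2) (negI_not_mem (p := p) ho hm h2) g g'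
  rcases hob_ with h3 | h3 | h3
  · left
    have h4 := key α 1 s (semiOne _) h (ind_one _) μ g hμ h3 hg
    rwa [inv_one, mul_one] at h4
  · right; left
    have h4 := key α' 1 s' (semiOne _) h' (ind_one _) μ' g' hμ' h3 hg'
    rwa [inv_one, mul_one] at h4
  · right; right
    refine key α α' s s' h h' (μ * μ'⁻¹) (g * g'⁻¹) (mul_ne_zero hμ (inv_ne_zero hμ')) h3 fun v => ?_
    rw [hg, hg', map_smul, smul_smul, mul_assoc, inv_mul_cancel₀ hμ', mul_one]
    congr 1
    change _ = (g : (Unit ⊕ (Fin m ⊕ Fin m) → K) ≃ₗ[K] (Unit ⊕ (Fin m ⊕ Fin m) → K))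
      (((g'⁻¹ * g' : (CForm.oddF K m h2).iso) : (Unit ⊕ (Fin m ⊕ Fin m) → K) ≃ₗ[K] (Unit ⊕ (Fin m ⊕ Fin m) → K)) v)
    rw [inv_mul_cancel]
    rfl

/-- **`Ω_{2m+1}(q)`, `q ≥ 5` odd, `m ≥ 3`, `r ∤ q`** -/
theorem row_omega_odd (K : Type u) [Field K] [Finite K] {m : ℕ} (hm : 3 ≤ m) (ho : Odd (Nat.card K))
    (h5 : 5 ≤ Nat.card K)
    {r : ℕ} (hr : r.Prime) (hrq : ¬ r ∣ Nat.card K)
    (hd : r ∣ Nat.card (POmega K (quadFormOdd m K))) : HasExt r (POmega K (quadFormOdd m K)) := by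
  classical
  let _ := Fintype.ofFinite K
  obtain ⟨p, hchar⟩ := CharP.exists K
  have hp : p.Prime := (CharP.char_is_prime_or_zero K p).resolve_right (CharP.char_ne_zero_of_finite K p)
  have : Fact p.Prime := ⟨hp⟩
  have h2 : (2 : K) ≠ 0 := two_ne_zero_of_odd (K := K) (p := p) ho
  obtain ⟨s, hs⟩ := card_pow K p
  have hs0 : s ≠ 0 := by
    rintro rfl
    have : 1 < Nat.card K := Finite.one_lt_card
    rw [hs, pow_zero] at this
    omega
  have hrp : r ≠ p := by
    rintro rfl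
    exact hrq (by rw [hs]; exact dvd_pow_self r hs0)
  have hq2 : 2 ≤ Nat.card K := Finite.one_lt_card
  have hq3 : 3 ≤ Nat.card K := by rcases ho with ⟨j, hj⟩; omega
  have hd1 : r ∣ Nat.card (isometryGroup K (quadFormOdd m K)) :=
    hd.trans ((Subgroup.card_quotient_dvd_card _).trans (Subgroup.card_subgroup_dvd_card _))
  have hd2 : r ∣ Nat.card (CForm.oddF K m h2).iso := by
    rwa [← Nat.card_congr (isoQuad (CForm.oddF K m h2) (odd_hB K m h2)).toEquiv]
  rw [card_oddF K h2 ho] at hd2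
  -- the general conclusion
  have key : ∀ (k n : ℕ), k + n = m → 2 ≤ k → (r ≠ 2 ∧ r ∣ dg (CForm.oddF K (k + n) h2) k) ∨
      (r = 2 ∧ 16 ∣ dg (CForm.oddF K (k + n) h2) k) → HasExt r (POmega K (quadFormOdd m K)) := by
    rintro k n rfl hk hdeg
    have hob_ := CForm.oddF_frame (K := K) (p := p) h2 k n
    obtain ⟨⟨W₀, hW₀⟩, -⟩ := hob_
    have hob_ := exists_cusG (K := K) rfl k hk (by rintro ⟨h, -⟩; omega) (by rintro ⟨h, -⟩; omega)
    obtain ⟨c, hc, hg⟩ := hob_
    have hG := good_odd (F := K) (m := k + n) (by omega) h2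
    have hF := glue_odd (K := K) (m := k + n) h2
    have hcE := center_E (K := K) (m := k + n) (p := p) ho hm
    have := hF.normal
    rw [← LieClassical.OrthForms.coe_oddForm (k + n) K]
    refine HasExt.of_equiv (pomegaEquiv hG) ?_
    have hsimp : IsSimpleGroup (↥(E (LieClassical.OrthForms.oddForm (k + n) K)) ⧸
      Subgroup.center ↥(E (LieClassical.OrthForms.oddForm (k + n) K))) := good_isSimpleGroup hG
    have := finite_iso (CForm.oddF K (k + n) h2)
    have hfin : Finite ↥(E (LieClassical.OrthForms.oddForm (k + n) K)) := Finite.of_equiv _ hF.equiv.toEquiv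
    have hZ : Subgroup.center (↥(E (LieClassical.OrthForms.oddForm (k + n) K)) ⧸
      Subgroup.center ↥(E (LieClassical.OrthForms.oddForm (k + n) K))) = ⊥ := center_quot_of_bot hcE
    refine hasExt_row (a := if r = 2 then 4 else 1) hk hW₀ hF.hasRoots (hasLevi_bot _ hF.hasRoots k) hc hg hZ
      hF.q_surjective (fun z hz => ?_) (fun α => ?_) (hLinO (p := p) ho hm h2 hF) hr ?_ ?_
    · have hob_ := hF.mem_center hz
      obtain ⟨h3, h4⟩ := hob_
      refine ⟨h3, 1, by rw [map_one, mul_one], fun v => ?_⟩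
      rw [hcE, Subgroup.mem_bot] at h4
      have h5 := (map_eq_one_iff _ hF.equiv.injective).1 h4
      rw [h5, Units.val_one, one_smul]
      rfl
    · obtain ⟨M, rfl⟩ := Cfsg.Agent.AutOrth.Final.surjective_odd (F := K) hm h2 α
      exact hF.exists_ind M
    · rcases hdeg with ⟨h3, h4⟩ | ⟨h3, h4⟩
      · rwa [if_neg h3, pow_one]
      · rw [if_pos h3, h3]
        exact h4
    · rw [index_NE (p := p) ho hm h2]
      rcases hdeg with ⟨h3, h4⟩ | ⟨h3, h4⟩
      · rw [if_neg h3, pow_one]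
        intro h6
        exact h3 ((Nat.prime_dvd_prime_iff_eq hr Nat.prime_two).1 (hr.dvd_of_dvd_pow (n := 2) h6))
      · rw [if_pos h3, h3]
        norm_num
  have hpi : ∀ (t : Finset ℕ), r ∣ ∏ i ∈ t, (Nat.card K ^ (2 * (i + 1)) - 1) →
      ∃ i ∈ t, r ∣ Nat.card K ^ (2 * (i + 1)) - 1 := fun t h => (Prime.dvd_finsetProd_iff hr.prime _).1 h
  by_cases h2r : r = 2
  · -- `r = 2`
    refine key m 0 (Nat.add_zero m) (by omega) (Or.inr ⟨h2r, ?_⟩)
    obtain ⟨e, he⟩ := odd_dvd_top K h2 ho (p := p) (m := m) (by omega)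
    refine sixteen_dvd ho hp (by rw [← h2r]; exact hrp) (Dvd.dvd.trans ?_ he)
    refine Dvd.dvd.mul_left ?_ _
    rw [← Finset.prod_range_mul_prod_Ico _ (show 2 ≤ m - 1 by omega), Finset.prod_range_succ, Finset.prod_range_one]
    exact Dvd.intro _ rfl
  by_cases hA : r ∣ (Nat.card K ^ m + 1) * ∏ i ∈ Finset.range (m - 1), (Nat.card K ^ (2 * (i + 1)) - 1)
  · refine key m 0 (Nat.add_zero m) (by omega) (Or.inl ⟨h2r, ?_⟩)
    obtain ⟨e, he⟩ := odd_dvd_top K h2 ho (p := p) (m := m) (by omega)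
    have := prime_pow_dvd (t := 1) hr hp hrp (by rw [pow_one]; exact hA.trans he)
    rwa [pow_one] at this
  · have hA1 : ¬ r ∣ Nat.card K ^ m + 1 := fun h => hA (Dvd.dvd.mul_right h _)
    have hA2 : ∀ i, i < m - 1 → ¬ r ∣ Nat.card K ^ (2 * (i + 1)) - 1 := fun i hi h =>
      hA (Dvd.dvd.mul_left (h.trans (Finset.dvd_prod_of_mem (fun i => Nat.card K ^ (2 * (i + 1)) - 1)
        (Finset.mem_range.2 hi))) _)
    have hB : r ∣ Nat.card K ^ (2 * m) - 1 := by
      have h3 : r ∣ ∏ i ∈ Finset.range m, (Nat.card K ^ (2 * (i + 1)) - 1) := by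
        rcases hr.dvd_mul.1 hd2 with h | h
        · rcases hr.dvd_mul.1 h with h' | h'
          · exact absurd ((Nat.prime_dvd_prime_iff_eq hr Nat.prime_two).1 h') h2r
          · exact absurd (hr.dvd_of_dvd_pow h') hrq
        · exact h
      obtain ⟨i, hi, hi'⟩ := hpi _ h3
      rw [Finset.mem_range] at hi
      rcases Nat.lt_or_ge i (m - 1) with h | h
      · exact absurd hi' (hA2 i h)
      · have : i + 1 = m := by omega
        rwa [this] at hi'
    have hm1 : m - 1 + 1 = m := by omega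
    refine key (m - 1) 1 hm1 (by omega) (Or.inl ⟨h2r, ?_⟩)
    obtain ⟨e, he⟩ := odd_dvd K h2 ho (p := p) (k := m - 1) (n := 1) (by omega)
    have h6 : r ∣ p ^ e * (dg (CForm.oddF K (m - 1 + 1) h2) (m - 1) * (Nat.card K ^ (m - 1) - 1)) := by
      refine Dvd.dvd.trans ?_ he
      refine Dvd.dvd.trans ?_ (Finset.dvd_prod_of_mem _ (Finset.mem_Ico.2 ⟨(by omega : 1 ≤ m - 1), by omega⟩))
      rw [hm1]
      exact hB
    have h7 : r ∣ dg (CForm.oddF K (m - 1 + 1) h2) (m - 1) * (Nat.card K ^ (m - 1) - 1) := by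
      have := prime_pow_dvd (t := 1) hr hp hrp (by rw [pow_one]; exact h6)
      rwa [pow_one] at this
    refine (hr.dvd_mul.1 h7).resolve_right fun h => ?_
    apply hA2 (m - 2) (by omega)
    have h9 : m - 2 + 1 = m - 1 := by omega
    rw [h9]
    exact h.trans (pow_sub_dvd _ _)

end odd

end Cfsg.Agent.H993.ExtOmegaOdd
end

-- part: H328/Ext/PsuLow
section
/-!
# S4832, rows `PSU_n(q)`: characters of `PSU_n(q)` below the Harish-Chandra induced characters (helper328)

* `exists_under` : the constituents of `χ|_N` with their degrees;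
* `exists_low` : an irreducible character of `PSU_n(q)` below `hc c 1`, `n = 2k` or `2k + 1`, with its degree.
-/

set_option autoImplicit false
set_option linter.unusedSectionVars false

open scoped ComplexConjugate
open Cfsg

namespace Cfsg.Agent.H328.Ext

open Cfsg.Agent.H477.HC Cfsg.Agent.H53.HC Cfsg.Agent.Characters Module Cfsg.Agent.H576.Ext Cfsg.Agent.H328.Gow
  Cfsg.Agent.H477.HC.CForm Cfsg.Agent.ClassicalGeometry.PSUAutBasic Cfsg.Agent.ClassicalGeometry.PSUAutCount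
  Cfsg.Agent.LieClassical.HermBasic Cfsg.Agent.LieClassical.HermSiegel Cfsg.Agent.LieClassical.HermGen
  Cfsg.Agent.LieClassical.SUBasic Cfsg.Agent.H113.PSU.Levi Cfsg.Agent.H113.PSU.Facts

universe u

/-- a constituent of the restriction to a normal subgroup, its degree and its kernel -/
theorem exists_under {I : Type u} [Group I] [Finite I] (N : Subgroup I) [N.Normal] [Fintype N] {χ : I → ℂ}
    (hχ : IsIrrCharacter I χ) {d : ℕ} (hd : χ 1 = d) :
    ∃ (θ : N → ℂ) (e : ℕ), IsIrrCharacter N θ ∧ classInner (fun n : N => χ n) θ ≠ 0 ∧ θ 1 = e ∧ e ∣ d ∧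
      d / e ∣ N.index ∧ 0 < e ∧ ∀ z : N, z ∈ Subgroup.center N → χ z = χ 1 → θ z = θ 1 := by
  classical
  let _ : Fintype I := Fintype.ofFinite I
  have hα : IsCharacter N (χ ∘ N.subtype) := Core.isCharacter_comp N.subtype (Core.isIrr_isCharacter hχ)
  obtain ⟨θ, hθ, hθ'⟩ := exists_constituent hα (by
    rw [Function.comp_apply, map_one]; exact Core.isIrr_apply_one_ne_zero hχ)
  obtain ⟨e, he0, he⟩ := Core.isIrr_apply_one hθ
  obtain ⟨h3, h4⟩ := Cfsg.Agent.S0887.result N χ hχ θ hθ hθ' d e hd he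
  refine ⟨θ, e, hθ, hθ', he, h3, h4, he0, fun z hzc hzχ => ?_⟩
  obtain ⟨l, hl⟩ := central_mul hθ hzc
  have e0 : ∑ n : N, (χ ∘ N.subtype) n * conj (θ n) = conj l * ∑ n : N, (χ ∘ N.subtype) n * conj (θ n) := by
    calc ∑ n : N, (χ ∘ N.subtype) n * conj (θ n)
        = ∑ n : N, (χ ∘ N.subtype) (n * z) * conj (θ (n * z)) :=
          (Equiv.sum_comp (Equiv.mulRight z) (fun n => (χ ∘ N.subtype) n * conj (θ n))).symm
      _ = _ := by
          rw [Finset.mul_sum]
          refine Finset.sum_congr rfl fun n _ => ?_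
          have h5 : (χ ∘ N.subtype) (n * z) = (χ ∘ N.subtype) n := kernel_mul hα (by
            change χ z = χ 1
            exact hzχ) n
          rw [hl, map_mul, h5]
          ring
  have e1 : classInner (χ ∘ N.subtype) θ = conj l * classInner (χ ∘ N.subtype) θ := by
    rw [Core.classInner_def, mul_left_comm, ← e0]
  have e2 : conj l = 1 := by
    have : (conj l - 1) * classInner (χ ∘ N.subtype) θ = 0 := by
      rw [sub_mul, one_mul, ← e1, sub_self]
    exact sub_eq_zero.1 ((mul_eq_zero.1 this).resolve_right hθ')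
  have e3 : l = 1 := by
    have := congrArg conj e2
    rwa [Complex.conj_conj, map_one] at this
  have := hl 1
  rwa [one_mul, e3, one_mul] at this

variable {K : Type u} [Field K] [Fintype K] {q n : ℕ}

/-- the index of the special isometry group divides `q + 1` -/
theorem index_sg (hF : Fintype.card K = q ^ 2) (hq : Nat.card K = q ^ 2) (hn : 1 ≤ n) :
    (sg (CForm.hermF K hq n)).index = q + 1 := by
  have := finite_iso (CForm.hermF K hq n)
  have h1 := (sg (CForm.hermF K hq n)).index_mul_card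
  rw [← Nat.card_congr (eSg hq n).toEquiv, ← Nat.card_congr (isoGU hq n).toEquiv] at h1
  have h2 := Cfsg.Agent.S0277.result hF n
  have h3 := Cfsg.Agent.S0278.result hF n hn
  rw [← h2, ← h1] at h3
  exact (Nat.eq_of_mul_eq_mul_right Nat.card_pos h3).symm

/-- a Galois datum is a cuspidal datum -/
theorem cusG_cus (hq : Nat.card K = q ^ 2) {k : ℕ} {c : GL (Fin k) K → ℂ} (hc : CusG K k (powHom hq) c) :
    Cus K k (powHom hq) (fun z => z ^ (q + 1) = 1) c := by
  refine ⟨hc.irr, hc.cusp, hc.dual, fun z hz => ?_, hc.deg⟩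
  obtain ⟨ν, hν⟩ := hc.nu
  have h1 := hν z 1
  rw [mul_one] at h1
  rw [h1]
  have h2 : z * Units.map (powHom hq : K →* K) z = 1 := by
    apply Units.ext
    rw [Units.val_mul, Units.coe_map, Units.val_one]
    change (z : K) * powHom hq (z : K) = 1
    rw [powHom_apply, ← pow_succ', ← Units.val_pow_eq_pow_val, hz, Units.val_one]
  rw [h2, map_one, Units.val_one, one_mul]

/-- **the characters below `hc c 1`** -/
theorem exists_low (hF : Fintype.card K = q ^ 2) (hq : Nat.card K = q ^ 2) {k n' : ℕ} (hn : 3 ≤ k + (k + n'))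
    {c : GL (Fin k) K → ℂ} (hc : CusG K k (powHom hq) c) [Fintype ((CForm.hermF K hq (k + (k + n'))).Om k)]
    [Fintype (sg (CForm.hermF K hq (k + (k + n'))))] :
    ∃ (η : PSU (k + (k + n')) K q → ℂ) (e : ℕ), IsIrrCharacter _ η ∧
      classInner (fun x : sg (CForm.hermF K hq (k + (k + n'))) =>
        (CForm.hermF K hq (k + (k + n'))).hc c (fun _ _ => 1) x) (fun x => η (qh hq (k + (k + n')) x)) ≠ 0 ∧
      η 1 = e ∧ 0 < e ∧ e ∣ dg (CForm.hermF K hq (k + (k + n'))) k ∧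
      dg (CForm.hermF K hq (k + (k + n'))) k / e ∣ q + 1 := by
  classical
  have hob_ := CharP.exists K
  obtain ⟨p, hp⟩ := hob_
  have hpr : p.Prime := (CharP.char_is_prime_or_zero K p).resolve_right (CharP.char_ne_zero_of_finite K p)
  have : Fact p.Prime := ⟨hpr⟩
  have hfi := finite_iso (CForm.hermF K hq (k + (k + n')))
  have hob_ := CForm.hermF_frame (K := K) (p := p) hq k n'
  obtain ⟨⟨W₀, hW₀⟩, -⟩ := hob_
  have hcl := Core.isIrr_isClassFunction hc.irr
  have hirr : IsIrrCharacter (CForm.hermF K hq (k + (k + n'))).iso ((CForm.hermF K hq (k + (k + n'))).hc c (fun _ _ => 1)) := by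
    let _ := Fintype.ofFinite (CForm.hermF K hq (k + (k + n'))).iso
    exact (CForm.hermF K hq (k + (k + n'))).isIrr_hc_one hc.irr hc.cusp hc.dual hW₀
  have hdeg : (CForm.hermF K hq (k + (k + n'))).hc c (fun _ _ => 1) 1 = (dg (CForm.hermF K hq (k + (k + n'))) k : ℂ) := by
    rw [(CForm.hermF K hq (k + (k + n'))).hc_one hcl (fun _ _ => 1) (d := 1) (fun _ _ => rfl), hc.deg, mul_one]
    unfold dg
    rw [Nat.cast_mul]
  have hob_ := exists_under (sg (CForm.hermF K hq (k + (k + n')))) hirr hdeg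
  obtain ⟨θ, e, hθ, h0, he, h3, h4, h5, h6⟩ := hob_
  have hθ' : IsIrrCharacter (SU (k + (k + n')) K q) (θ ∘ (eSg hq (k + (k + n'))).toMonoidHom) :=
    Core.isIrr_comp (eSg hq (k + (k + n'))).toMonoidHom (eSg hq (k + (k + n'))).surjective hθ
  obtain ⟨η, hη, hη'⟩ := exists_quot (Subgroup.center (SU (k + (k + n')) K q)) hθ' (fun z hzc => by
    have hob_ := exists_scalar_of_mem_center hF hn hzc
    obtain ⟨a, ha, haq, ha'⟩ := hob_
    change θ (eSg hq (k + (k + n')) z) = θ (eSg hq (k + (k + n')) 1)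
    rw [map_one]
    have ha0 : a ≠ 0 := by
      rintro rfl
      rw [zero_mul] at haq
      exact zero_ne_one haq
    refine h6 _ ?_ ?_
    · rw [Subgroup.mem_center_iff]
      intro g
      have hob_ := (eSg hq (k + (k + n'))).surjective g
      obtain ⟨g, rfl⟩ := hob_
      rw [← map_mul, ← map_mul, Subgroup.mem_center_iff.1 hzc]
    · refine CForm.hc_scalar (CForm.hermF K hq (k + (k + n'))) hcl (fun _ _ => 1) (a := Units.mk0 a ha0) (fun v => ?_)
        ((cusG_cus hq hc).scal _ ?_) (fun _ _ => rfl)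
      · rw [eSg_val, ha', Units.val_mk0]
      · apply Units.ext
        rw [Units.val_pow_eq_pow_val, Units.val_mk0, Units.val_one, pow_succ', haq])
  have hηθ : ∀ x : sg (CForm.hermF K hq (k + (k + n'))), η (qh hq (k + (k + n')) x) = θ x := by
    intro x
    rw [qh_apply]
    have h7 := hη' ((eSg hq (k + (k + n'))).symm x)
    have h8 : (θ ∘ (eSg hq (k + (k + n'))).toMonoidHom) ((eSg hq (k + (k + n'))).symm x) = θ x :=
      congrArg θ ((eSg hq (k + (k + n'))).apply_symm_apply x)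
    rw [← h8, ← h7]
    rfl
  refine ⟨η, e, hη, ?_, ?_, h5, h3, ?_⟩
  · have h7 : (fun x => η (qh hq (k + (k + n')) x)) = θ := funext hηθ
    rw [h7]
    exact h0
  · rw [← he, ← hηθ 1, map_one]
  · rwa [index_sg hF hq (by omega)] at h4

/-- **divisibility of the degree** -/
theorem dvd_low (hF : Fintype.card K = q ^ 2) (hq : Nat.card K = q ^ 2) {k n' : ℕ} (hn' : n' ≤ 1) (hk : 2 ≤ k)
    {e : ℕ} (he : e ∣ dg (CForm.hermF K hq (k + (k + n'))) k)
    (ht : dg (CForm.hermF K hq (k + (k + n'))) k / e ∣ q + 1) {r i : ℕ} (hr : r.Prime)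
    (hi : i ∈ idx (k + (k + n'))) (hri : r ∣ uu q i) : r ∣ e := by
  obtain ⟨p, hpr, hp, hpq⟩ := prime_pow hF
  have : Fact p.Prime := ⟨hpr⟩
  have hq1 : 1 ≤ q := by have := LieClassical.HermBasic.two_le hF; omega
  have ht0 : 0 < dg (CForm.hermF K hq (k + (k + n'))) k / e := Nat.pos_of_dvd_of_pos ht (by omega)
  obtain ⟨a, ha⟩ : ∃ a, AA q (k + (k + n')) ∣ p ^ a * (e * (dg (CForm.hermF K hq (k + (k + n'))) k / e)) := by
    rw [Nat.mul_div_cancel' he]
    rcases (show n' = 0 ∨ n' = 1 by omega) with rfl | rfl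
    · obtain ⟨a, ha⟩ := dvd_even hq (p := p) (k := k) (by omega)
      refine ⟨a, ?_⟩
      unfold AA
      rw [if_pos ⟨k, by omega⟩]
      have h3 : k + (k + 0) - 1 = 2 * k - 1 := by omega
      rw [h3]
      exact ha
    · obtain ⟨a, ha⟩ := dvd_odd hq (p := p) (k := k) (by omega)
      refine ⟨a, ?_⟩
      unfold AA
      rw [if_neg (Nat.not_even_iff_odd.2 ⟨k, by omega⟩)]
      have h3 : k + (k + 1) - 2 = 2 * k - 1 := by omega
      have h4 : k + (k + 1) = 2 * k + 1 := by omega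
      rw [h3]
      rw [show uu q (k + (k + 1)) = uu q (2 * k + 1) from by rw [h4]]
      exact ha
  refine dvd_of_index ha ht ht0 (prime_mul_dvd_AA hq1 (by omega) hi hri) ((Nat.coprime_primes hr hpr).2 ?_)
  rintro rfl
  exact not_dvd_q hr (idx_le (by omega) hi).1 hq1 hri ((hpq _ hr).2 rfl)

end Cfsg.Agent.H328.Ext
end

-- part: H328/Ext/Psu
section
/-!
# S4832, rows `PSU_n(q)`, `n ≥ 4` (helper328)

* `ext_big` : `n ≥ 6`, `q ≥ 3`, the primes of the Levi character;
* `ext_small` : `n = 4`, `5`, `q ≥ 4`.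
-/

set_option autoImplicit false
set_option linter.unusedSectionVars false

open scoped ComplexConjugate
open Cfsg

namespace Cfsg.Agent.H328.Ext

open Cfsg.Agent.H477.HC Cfsg.Agent.H53.HC Cfsg.Agent.Characters Module Cfsg.Agent.H576.Ext Cfsg.Agent.H328.Gow
  Cfsg.Agent.H477.HC.CForm Cfsg.Agent.ClassicalGeometry.PSUAutBasic Cfsg.Agent.ClassicalGeometry.PSUAutCount
  Cfsg.Agent.LieClassical.HermBasic Cfsg.Agent.LieClassical.HermSiegel Cfsg.Agent.LieClassical.HermGen
  Cfsg.Agent.LieClassical.SUBasic Cfsg.Agent.H113.PSU.Levi Cfsg.Agent.H113.PSU.Facts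

universe u

variable {K : Type u} [Field K] [Fintype K] {q n : ℕ}

/-- **`n ≥ 6`, `q ≥ 3`** -/
theorem ext_big (hF : Fintype.card K = q ^ 2) (h3 : 3 ≤ q) {k n' : ℕ} (hk : 3 ≤ k) (hn' : n' ≤ 1) {r i : ℕ}
    (hr : r.Prime) (hi : i ∈ idx (k + (k + n'))) (hri : r ∣ uu q i) : HasExt r (PSU (k + (k + n')) K q) := by
  classical
  have hq : Nat.card K = q ^ 2 := by rw [Nat.card_eq_fintype_card, hF]
  have := finite_Om (CForm.hermF K hq (k + (k + n'))) k
  have hfi := finite_iso (CForm.hermF K hq (k + (k + n')))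
  let _ := Fintype.ofFinite ((CForm.hermF K hq (k + (k + n'))).Om k)
  let _ := Fintype.ofFinite (sg (CForm.hermF K hq (k + (k + n'))))
  obtain ⟨c, hc, hgen⟩ := Cfsg.Agent.H855.Ext.exists_cusG_herm hq h3 k hk (powHom hq) (powHom_apply hq)
  obtain ⟨η, e, hη, h0, he, he0, hed, ht⟩ := exists_low hF hq (by omega) hc (n' := n')
  refine ⟨η, hη, ?_, ?_⟩
  · rw [H670.PSing.charDegree_eq_of he]
    exact dvd_low hF hq hn' (by omega) hed ht hr hi hri
  · exact ext_hc (CForm.hermF K hq (k + (k + n'))) (by omega) (sg_semi hF hq (by omega))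
      (hasRoots_sg hq h3) (hasLevi_bot _ (hasRoots_sg hq h3) k) hc.irr hc.cusp hc.dual hc.self (hc.opp hk) hgen hc.nu
      (center_psu hF (by omega)) (qh hq _) (qh_surjective hq _) (qh_ker hF hq (by omega)) (aut_semi hF hq (by omega))
      hη h0

section Small

/-- conjugation by elements of `GU` is a homomorphism -/
theorem toAut_mul (A B : GU n K q) :
    toAut (A * B) (RingEquiv.refl K) = toAut A (RingEquiv.refl K) * toAut B (RingEquiv.refl K) := by
  apply MulEquiv.ext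
  intro x
  obtain ⟨g, rfl⟩ := pr_surjective x
  rw [MulAut.mul_apply, Cfsg.Agent.ClassicalGeometry.PSUAutMain.toAut_pr',
    Cfsg.Agent.ClassicalGeometry.PSUAutMain.toAut_pr', Cfsg.Agent.ClassicalGeometry.PSUAutMain.toAut_pr']
  congr 1
  apply ext_act
  intro v
  have h1 : ∀ (A : GU n K q) (g : SU n K q) (v : Fin n → K), act (semiConj A (RingEquiv.refl K) g) ((gm A).mulVec v) =
      (gm A).mulVec (act g v) := fun A g v => act_semiConj A (RingEquiv.refl K) g v
  have h2 : v = (gm (A * B)).mulVec ((gm (A * B)⁻¹).mulVec v) := (gm_mulVec_inv _ _).symm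
  rw [h2]
  generalize (gm (A * B)⁻¹).mulVec v = w
  rw [h1, gm_mul, ← Matrix.mulVec_mulVec, ← Matrix.mulVec_mulVec, h1, h1]

/-- `GU → Aut PSU` -/
noncomputable def toAutHom (n : ℕ) (K : Type u) [Field K] [Fintype K] (q : ℕ) : GU n K q →* MulAut (PSU n K q) :=
  MonoidHom.mk' (fun A => toAut A (RingEquiv.refl K)) toAut_mul

theorem toAutHom_apply (A : GU n K q) : toAutHom n K q A = toAut A (RingEquiv.refl K) := rfl

/-- matrices of determinant one induce inner automorphisms -/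
theorem toAutHom_det {A : GU n K q} (h : ((A : GL (Fin n) K) : Matrix (Fin n) (Fin n) K).det = 1) :
    ∃ s : PSU n K q, toAutHom n K q A = MulAut.conj s := by
  let B : SU n K q := ⟨⟨((A : GL (Fin n) K) : Matrix (Fin n) (Fin n) K), h⟩, A.2⟩
  have hB : ∀ v, act B v = (gm A).mulVec v := fun v => rfl
  refine ⟨pr n K q B, ?_⟩
  apply MulEquiv.ext
  intro x
  obtain ⟨g, rfl⟩ := pr_surjective x
  rw [toAutHom_apply, Cfsg.Agent.ClassicalGeometry.PSUAutMain.toAut_pr', MulAut.conj_apply, ← map_mul, ← map_inv,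
    ← map_mul]
  congr 1
  apply ext_act
  intro v
  have h2 : v = (gm A).mulVec ((gm A⁻¹).mulVec v) := (gm_mulVec_inv _ _).symm
  rw [h2]
  generalize (gm A⁻¹).mulVec v = w
  have h1 : act (semiConj A (RingEquiv.refl K) g) ((gm A).mulVec w) = (gm A).mulVec (act g w) :=
    act_semiConj A (RingEquiv.refl K) g w
  rw [h1, ← hB w, act_mul, act_mul]
  have h3 : act B⁻¹ (act B w) = w := by
    rw [← act_mul, inv_mul_cancel, act_one]
  rw [h3, hB]

/-- the characters of `PSU_n(q)` fixed by no field automorphism -/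
theorem ext_cyc (hF : Fintype.card K = q ^ 2) (hn : 4 ≤ n) {η : PSU n K q → ℂ} (hη : IsIrrCharacter _ η)
    (h : ∀ (A : GU n K q) (ρ : K ≃+* K), toAut A ρ ∈ stab η → ρ = RingEquiv.refl K) : ExtTo η (stab η) := by
  classical
  have hI : (MulAut.conj (G := PSU n K q)).range ≤ stab η := by
    rintro _ ⟨s, rfl⟩ x
    rw [MulAut.conj_apply]
    exact Core.isIrr_isClassFunction hη x s
  refine extTo_of_cyc (center_psu hF hn) hη hI le_rfl ?_
  let det : GU n K q →* Kˣ := Matrix.GeneralLinearGroup.det.comp (GU n K q).subtype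
  let P : Subgroup Kˣ := ((stab η).comap (toAutHom n K q)).map det
  have hP : IsCyclic P := inferInstance
  obtain ⟨⟨d, hd⟩, hgen⟩ := hP.exists_generator
  obtain ⟨A₀, hA₀, hA₀d⟩ := hd
  refine ⟨toAutHom n K q A₀, hA₀, fun α hα => ?_⟩
  obtain ⟨A, ρ, rfl⟩ := Cfsg.Agent.ClassicalGeometry.PSUAutMain.exists_toAut hF (by omega) (by omega) α
  have hρ := h A ρ hα
  subst hρ
  have h1 : det A ∈ P := ⟨A, hα, rfl⟩
  obtain ⟨k, hk⟩ := Subgroup.mem_zpowers_iff.1 (hgen ⟨det A, h1⟩)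
  have hk' : d ^ k = det A := congrArg Subtype.val hk
  obtain ⟨s, hs⟩ := toAutHom_det (A := A * (A₀ ^ k)⁻¹) (by
    have h2 : det (A * (A₀ ^ k)⁻¹) = 1 := by
      rw [map_mul, map_inv, map_zpow, hA₀d, hk', mul_inv_cancel]
    exact congrArg Units.val h2)
  refine ⟨k, s, ?_⟩
  rw [← hs, ← map_zpow, ← map_mul, inv_mul_cancel_right]
  rfl

/-- **`n = 4`, `5`, `q ≥ 4`** -/
theorem ext_small (hF : Fintype.card K = q ^ 2) (h4 : 4 ≤ q) {n' : ℕ} (hn' : n' ≤ 1) {r i : ℕ}
    (hr : r.Prime) (hi : i ∈ idx (2 + (2 + n'))) (hri : r ∣ uu q i) : HasExt r (PSU (2 + (2 + n')) K q) := by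
  classical
  have hq : Nat.card K = q ^ 2 := by rw [Nat.card_eq_fintype_card, hF]
  have := finite_Om (CForm.hermF K hq (2 + (2 + n'))) 2
  have hfi := finite_iso (CForm.hermF K hq (2 + (2 + n')))
  let _ := Fintype.ofFinite ((CForm.hermF K hq (2 + (2 + n'))).Om 2)
  let _ := Fintype.ofFinite (sg (CForm.hermF K hq (2 + (2 + n'))))
  obtain ⟨c, hc, hgen⟩ := Cfsg.Agent.H855.Ext.exists_cusG_herm_two hq h4 (powHom hq) (powHom_apply hq) (Dq K q) (fun z hz => hz)
  obtain ⟨η, e, hη, h0, he, he0, hed, ht⟩ := exists_low hF hq (by omega) hc (n' := n')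
  refine ⟨η, hη, ?_, ?_⟩
  · rw [H670.PSing.charDegree_eq_of he]
    exact dvd_low hF hq hn' le_rfl hed ht hr hi hri
  · refine ext_cyc hF (by omega) hη fun A ρ hα => ?_
    by_contra hρ
    have hex : ∃ x, ρ x ≠ x := by
      by_contra hno
      push Not at hno
      exact hρ (RingEquiv.ext hno)
    obtain ⟨h1, h2⟩ := hgen ρ hex
    have hθ : IsIrrCharacter (sg (CForm.hermF K hq (2 + (2 + n'))))
        (η ∘ (qh hq (2 + (2 + n')))) := Core.isIrr_comp (qh hq (2 + (2 + n'))) (qh_surjective hq _) hη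
    let α : sg (CForm.hermF K hq (2 + (2 + n'))) ≃* sg (CForm.hermF K hq (2 + (2 + n'))) :=
      ((eSg hq (2 + (2 + n'))).symm.trans (semiConj A ρ)).trans (eSg hq (2 + (2 + n')))
    have hα' : ∀ (g : sg (CForm.hermF K hq (2 + (2 + n')))) (v : Fin (2 + (2 + n')) → K),
        ((α g : (CForm.hermF K hq (2 + (2 + n'))).iso) : (Fin (2 + (2 + n')) → K) ≃ₗ[K] (Fin (2 + (2 + n')) → K))
          ((semi hq A ρ).γ v) = (semi hq A ρ).γ (((g : (CForm.hermF K hq (2 + (2 + n'))).iso) :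
            (Fin (2 + (2 + n')) → K) ≃ₗ[K] (Fin (2 + (2 + n')) → K)) v) := by
      intro g v
      change act (semiConj A ρ ((eSg hq (2 + (2 + n'))).symm g)) ((gm A).mulVec fun i => ρ (v i)) = _
      rw [act_semiConj, semi_apply]
      congr 1
      funext i
      rw [eSg_symm_val]
    refine _root_.Cfsg.Agent.H576.Ext.eq_one_of_fix (CForm.hermF K hq (2 + (2 + n'))) le_rfl (hasRoots_sg hq (by omega))
      (hasLevi_Dq hq (by omega) two_pos) hc.irr hc.cusp ρ h1 h2 hθ h0 (semi hq A ρ).γ (semi hq A ρ).smul ?_ ?_ α hα' ?_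
    · intro v w
      rw [(semi hq A ρ).hB]
      change (1 : K) * ρ _ = 0 ↔ _
      rw [one_mul, map_eq_zero_iff ρ ρ.injective]
    · intro v
      rw [(semi hq A ρ).hQ]
      change (1 : K) * ρ _ = 0 ↔ _
      rw [one_mul, map_eq_zero_iff ρ ρ.injective]
    · intro g
      rw [Function.comp_apply, Function.comp_apply, ← toAut_qh hq A ρ g (α g) (hα' g)]
      exact hα _

end Small

end Cfsg.Agent.H328.Ext
end

-- part: H328/Ext/PsuRow
section
/-!
# S4832, rows `PSU_n(q)`, `n ≥ 4`: assembly (helper328)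
-/

set_option autoImplicit false
set_option linter.unusedSectionVars false

open scoped ComplexConjugate
open Cfsg

namespace Cfsg.Agent.H328.Ext

open Cfsg.Agent.H576.Ext Cfsg.Agent.H113.PSU.Levi Cfsg.Agent.H113.PSU.Facts

universe u

variable {K : Type u} [Field K] [Fintype K] {q n : ℕ}

theorem sylCyc_two (hF : Fintype.card K = 2 ^ 2) (hn : 4 ≤ n) : SylCyc (PSU n K 2) := by
  apply sylCyc_of_squarefree
  rw [Cfsg.Agent.H163.PG.card_out_psu Nat.prime_two le_rfl (by norm_num) hF (by omega) (by omega)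
    (center_psu hF hn)]
  have h1 : Nat.gcd n (2 + 1) = 1 ∨ Nat.gcd n (2 + 1) = 3 := by
    have h2 := Nat.gcd_dvd_right n (2 + 1)
    exact (Nat.dvd_prime Nat.prime_three).1 h2
  rcases h1 with h1 | h1 <;> rw [h1]
  · exact Nat.prime_two.squarefree
  · norm_num
    rw [show 6 = 2 * 3 by norm_num, Nat.squarefree_mul_iff]
    exact ⟨by norm_num, Nat.prime_two.squarefree, Nat.prime_three.squarefree⟩

theorem sylCyc_five (hF : Fintype.card K = 3 ^ 2) : SylCyc (PSU 5 K 3) := by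
  apply sylCyc_of_squarefree
  rw [Cfsg.Agent.H163.PG.card_out_psu Nat.prime_three le_rfl (by norm_num) hF (by omega) (by omega)
    (center_psu hF (by omega))]
  norm_num
  exact Nat.prime_two.squarefree

/-- the rank 3 characters extend -/
def Rk3PSU (K : Type u) [Field K] [Fintype K] (q n : ℕ) : Prop :=
  (∀ f p : ℕ, p.Prime → (q ^ 2 - 1) * (q + 1) * f = q ^ 2 * uu q n * uu q (n - 3) → p ∣ f → HasExt p (PSU n K q)) ∧
  ∀ g p : ℕ, p.Prime → (q ^ 2 - 1) * (q + 1) * g = q ^ 3 * uu q (n - 1) * uu q (n - 2) → p ∣ g → HasExt p (PSU n K q)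

/-- **the rows `PSU_n(q)`, `n ≥ 4`** -/
theorem row_psu_of (hF : Fintype.card K = q ^ 2) (hn : 4 ≤ n) (hR : Rk3PSU K q n) {p : ℕ} (hp : p.Prime)
    (hpq : ¬ p ∣ q) (hd : p ∣ Nat.card (PSU n K q)) : HasExt p (PSU n K q) := by
  have hq2 := LieClassical.HermBasic.two_le hF
  have hfree : SylCyc (PSU n K q) → HasExt p (PSU n K q) := by
    intro h
    have := simple_psu hF hn
    exact hasExt_of_sylCyc (not_comm_psu hF hn) h (im hF hn hp hd)
  rcases cover hF hn hp hd with h | ⟨i, hi, hpi⟩ | ⟨h1, h2⟩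
  · exact absurd h hpq
  · by_cases h2 : q = 2
    · subst h2
      exact hfree (sylCyc_two hF hn)
    by_cases h6 : 6 ≤ n
    · rcases Nat.even_or_odd' n with ⟨k, hk | hk⟩
      · have h7 : n = k + (k + 0) := by omega
        subst h7
        exact ext_big hF (by omega) (by omega) (by omega) hp hi hpi
      · have h7 : n = k + (k + 1) := by omega
        subst h7
        exact ext_big hF (by omega) (by omega) le_rfl hp hi hpi
    · rcases (show n = 2 + (2 + 0) ∨ n = 2 + (2 + 1) by omega) with rfl | rfl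
      · by_cases h3 : q = 3
        · subst h3
          have h8 := idx_le (n := 2 + (2 + 0)) (by norm_num) hi
          have h9 : i ≠ 4 := by
            rintro rfl
            revert hi
            decide
          have h10 : i = 1 ∨ i = 2 ∨ i = 3 := by omega
          have h11 : p = 2 ∨ p = 7 := by
            rcases h10 with rfl | rfl | rfl
            · left
              have h12 : uu 3 1 = 2 ^ 2 := by decide
              rw [h12] at hpi
              exact (Nat.prime_dvd_prime_iff_eq hp Nat.prime_two).1 (hp.dvd_of_dvd_pow hpi)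
            · left
              have h12 : uu 3 2 = 2 ^ 3 := by decide
              rw [h12] at hpi
              exact (Nat.prime_dvd_prime_iff_eq hp Nat.prime_two).1 (hp.dvd_of_dvd_pow hpi)
            · have h12 : uu 3 3 = 2 ^ 2 * 7 := by decide
              rw [h12] at hpi
              rcases hp.dvd_mul.1 hpi with h13 | h13
              · exact Or.inl ((Nat.prime_dvd_prime_iff_eq hp Nat.prime_two).1 (hp.dvd_of_dvd_pow h13))
              · exact Or.inr ((Nat.prime_dvd_prime_iff_eq hp (by norm_num)).1 h13)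
          rcases h11 with rfl | rfl
          · exact hR.1 90 2 hp (by decide) (by norm_num)
          · exact hR.2 189 7 hp (by decide) (by norm_num)
        · exact ext_small hF (by omega) (by omega) hp hi hpi
      · by_cases h3 : q = 3
        · subst h3
          exact hfree (sylCyc_five hF)
        · exact ext_small hF (by omega) le_rfl hp hi hpi
  · by_cases h : Even n
    · obtain ⟨x, hx⟩ := exists_x (q := q) (by omega) h
      obtain ⟨w, hw⟩ := exists_w (q := q) (by omega) (n - 3)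
      refine hR.1 (q ^ 2 * x * w) p hp (by rw [hx, hw]; ring) ?_
      unfold exn at h2
      rw [if_pos h, hx] at h2
      exact (((hp.dvd_mul.1 h2).resolve_left h1).mul_left _).mul_right _
    · have hodd := Nat.not_even_iff_odd.1 h
      have h3 : Even (n - 1) := by
        obtain ⟨k, hk⟩ := hodd; exact ⟨k, by omega⟩
      obtain ⟨x, hx⟩ := exists_x (q := q) (by omega) h3
      obtain ⟨w, hw⟩ := exists_w (q := q) (by omega) (n - 2)
      refine hR.2 (q ^ 3 * x * w) p hp (by rw [hx, hw]; ring) ?_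
      unfold exn at h2
      rw [if_neg h, hx] at h2
      exact (((hp.dvd_mul.1 h2).resolve_left h1).mul_left _).mul_right _

end Cfsg.Agent.H328.Ext
end

-- part: H464/ExtRowsU
section
/-!
# The rank 3 characters of `PSU_n(q)`, `n ≥ 4`, extend to `Aut S` (S4832, EXT-R3, helper464)

`rk3_psu` : degrees `f`, `g` with `(q² - 1)(q + 1) f = q² uu n uu (n-3)`, `(q² - 1)(q + 1) g = q³ uu (n-1) uu (n-2)`,
`uu i = q^i - (-1)^i` (helper113's characters); `hasExt_psu_left`, `hasExt_psu_right`.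
-/

set_option autoImplicit false
set_option linter.unusedSectionVars false

open Cfsg

namespace Cfsg.Agent.H464.ExtRU

open Cfsg.Agent.H576.Ext Cfsg.Agent.H477.HC Cfsg.Agent.H477.HC.CForm
open Cfsg.Agent.LieClassical.HermBasic Cfsg.Agent.LieClassical.HermSiegel
open Cfsg.Agent.H690.Spor.RankThree Cfsg.Agent.H690.Spor.RankThree.R3
open Cfsg.Agent.H113.PSU.Points Cfsg.Agent.H113.PSU.Levi
open Cfsg.Agent.H464.ExtR3 hiding act

universe u

variable {K : Type u} [Field K] [Fintype K] {q n : ℕ}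

theorem center_smul (hF : Fintype.card K = q ^ 2) (hn : 3 ≤ n) {z : SU n K q} (hz : z ∈ Subgroup.center (SU n K q))
    (y : H113.PSU.Points.Pt n K q) : z • y = y := by
  obtain ⟨c, hc, -, hc'⟩ := Cfsg.Agent.ClassicalGeometry.PSUAutBasic.exists_scalar_of_mem_center hF hn hz
  obtain ⟨v, h0, hv, rfl⟩ := H113.PSU.Points.exists_pt y
  rw [H113.PSU.Points.smul_pt, H113.PSU.Points.pt_eq_iff]
  exact ⟨c, hc, hc' v⟩

/-- the action of `PSU` on the isotropic points -/
@[instance_reducible]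
noncomputable def actU (hF : Fintype.card K = q ^ 2) (hn : 3 ≤ n) : MulAction (PSU n K q) (H113.PSU.Points.Pt n K q) :=
  MulAction.compHom _ (QuotientGroup.lift (Subgroup.center (SU n K q))
    (MulAction.toPermHom (SU n K q) (H113.PSU.Points.Pt n K q)) (fun z hz => by
      apply Equiv.ext
      intro y
      exact center_smul hF hn hz y))

theorem actU_mk (hF : Fintype.card K = q ^ 2) (hn : 3 ≤ n) (g : SU n K q) (x : H113.PSU.Points.Pt n K q) :
    letI := actU hF hn; (QuotientGroup.mk g : PSU n K q) • x = g • x := rfl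

theorem ptS_mem {hq : Nat.card K = q ^ 2} (s : Semi (hermF K hq n)) {W : Submodule K (Fin n → K)}
    (h : ∃ v, v ≠ 0 ∧ hermForm n K q v v = 0 ∧ W = Submodule.span K {v}) :
    ∃ v, v ≠ 0 ∧ hermForm n K q v v = 0 ∧ semiMap s W = Submodule.span K {v} := by
  obtain ⟨v, h0, hv, rfl⟩ := h
  refine ⟨s.γ v, by rwa [Ne, AddEquiv.map_eq_zero_iff], ?_, semiMap_span s v⟩
  have h1 := s.hB v v
  change hermForm n K q (s.γ v) (s.γ v) = s.lam * s.τ (hermForm n K q v v) at h1
  rw [h1, hv, map_zero, mul_zero]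

/-- the permutation of the isotropic points -/
def ptS {hq : Nat.card K = q ^ 2} (s : Semi (hermF K hq n)) : Equiv.Perm (H113.PSU.Points.Pt n K q) where
  toFun x := ⟨semiMap s x.1, ptS_mem s x.2⟩
  invFun x := ⟨semiMap (symmS s) x.1, ptS_mem (symmS s) x.2⟩
  left_inv x := by
    apply Subtype.ext
    ext v
    change s.γ.symm (s.γ v) ∈ x.1 ↔ _
    rw [s.γ.symm_apply_apply]
  right_inv x := by
    apply Subtype.ext
    ext v
    change s.γ (s.γ.symm v) ∈ x.1 ↔ _
    rw [s.γ.apply_symm_apply]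

theorem ptS_val {hq : Nat.card K = q ^ 2} (s : Semi (hermF K hq n)) (x : H113.PSU.Points.Pt n K q) :
    (ptS s x).1 = semiMap s x.1 := rfl

theorem ptS_smul {hq : Nat.card K = q ^ 2} (s : Semi (hermF K hq n)) {g g' : SU n K q}
    (h : ∀ v, act g' (s.γ v) = s.γ (act g v)) (x : H113.PSU.Points.Pt n K q) : ptS s (g • x) = g' • ptS s x := by
  apply Subtype.ext
  rw [ptS_val, H113.PSU.Points.smul_val, H113.PSU.Points.smul_val, ptS_val]
  ext w
  rw [mem_semiMap]
  constructor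
  · rintro ⟨v, hv, hw⟩
    refine ⟨s.γ v, γ_mem_semiMap.2 hv, ?_⟩
    have hw' : act g v = s.γ.symm w := hw
    change act g' (s.γ v) = w
    rw [h, hw', s.γ.apply_symm_apply]
  · rintro ⟨v, hv, rfl⟩
    refine ⟨s.γ.symm v, hv, ?_⟩
    change act g (s.γ.symm v) = s.γ.symm (act g' v)
    apply s.γ.injective
    rw [← h, s.γ.apply_symm_apply, s.γ.apply_symm_apply]

theorem ptS_rel {hq : Nat.card K = q ^ 2} (s : Semi (hermF K hq n)) (x y : H113.PSU.Points.Pt n K q) :
    H113.PSU.Points.Rel (ptS s x) (ptS s y) ↔ H113.PSU.Points.Rel x y := by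
  have hB : ∀ u v, hermForm n K q (s.γ u) (s.γ v) = 0 ↔ hermForm n K q u v = 0 := fun u v => semi_B s
  unfold H113.PSU.Points.Rel
  rw [Ne, (ptS s).injective.eq_iff]
  refine and_congr Iff.rfl ⟨fun h u hu v hv => ?_, fun h u hu v hv => ?_⟩
  · exact (hB u v).1 (h _ (γ_mem_semiMap.2 hu) _ (γ_mem_semiMap.2 hv))
  · have := h _ hu _ hv
    rw [← hB, s.γ.apply_symm_apply, s.γ.apply_symm_apply] at this
    exact this

theorem exists_tw (hF : Fintype.card K = q ^ 2) (hn : 3 ≤ n) (h32 : ¬ (n = 3 ∧ q = 2)) (α : MulAut (PSU n K q)) :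
    letI := actU hF hn; ∃ σ : Equiv.Perm (H113.PSU.Points.Pt n K q), Tw α σ ∧
      ∀ x y, H113.PSU.Points.Rel (σ x) (σ y) ↔ H113.PSU.Points.Rel x y := by
  let _ := actU hF hn
  have hq : Nat.card K = q ^ 2 := by rw [Nat.card_eq_fintype_card, hF]
  obtain ⟨A, ρ, rfl⟩ := ClassicalGeometry.PSUAutMain.exists_toAut hF hn h32 α
  refine ⟨ptS (guS hq A ρ), fun t x => ?_, ptS_rel _⟩
  obtain ⟨g, rfl⟩ := QuotientGroup.mk_surjective t
  change ptS (guS hq A ρ) (g • x) =
    (QuotientGroup.mk (ClassicalGeometry.PSUAutCount.semiConj A ρ g) : PSU n K q) • ptS (guS hq A ρ) x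
  rw [actU_mk]
  exact ptS_smul _ (fun v => (by exact ClassicalGeometry.PSUAutCount.act_semiConj A ρ g v)) x

instance finite_ptU : Finite (H113.PSU.Points.Pt n K q) := by
  have : Finite (Submodule K (Fin n → K)) :=
    Finite.of_injective (fun W : Submodule K (Fin n → K) => (W : Set (Fin n → K))) SetLike.coe_injective
  exact Subtype.finite

/-- **the two characters** -/
theorem exists_chars {m : ℕ} (hF : Fintype.card K = q ^ 2) (hm : 2 ≤ m) :
    ∃ f g : ℕ, R3E (PSU (m + 2) K q) ⊤ f g ∧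
      ((q : ℤ) ^ 2 - 1) * (q + 1) * f = q ^ 2 * ((q : ℤ) ^ (m + 2) - (-1) ^ m) * (q ^ (m - 1) + (-1) ^ m) ∧
      ((q : ℤ) ^ 2 - 1) * (q + 1) * g = q ^ 3 * ((q : ℤ) ^ (m + 1) + (-1) ^ m) * (q ^ m - (-1) ^ m) := by
  classical
  have hq2 := two_le hF
  obtain ⟨b, hb0, hb, hr3', x₀, y₀, hxy, hR, hcom⟩ := H113.PSU.Points.r3 (F := K) (m := m) hF hm
  let _ := actU hF (show 3 ≤ m + 2 by omega)
  have hr3 : R3 (PSU (m + 2) K q) (H113.PSU.Points.Pt (m + 2) K q) H113.PSU.Points.Rel (q ^ 2 * b) (q ^ (2 * m + 1)) :=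
    r3_of_surj (fun g : SU (m + 2) K q => (QuotientGroup.mk g : PSU (m + 2) K q)) (fun g x => rfl)
      QuotientGroup.mk_surjective hr3'
  have := Fintype.ofFinite (H113.PSU.Points.Pt (m + 2) K q)
  obtain ⟨e, he⟩ : ∃ e : ℤ, e = (-1) ^ m := ⟨_, rfl⟩
  have hee : e * e = 1 := by rw [he, ← mul_pow]; simp
  rw [← he] at hb ⊢
  obtain ⟨Q, hQ⟩ : ∃ Q : ℤ, Q = (q : ℤ) := ⟨_, rfl⟩
  have hQ2 : 2 ≤ Q := by rw [hQ]; exact_mod_cast hq2
  obtain ⟨P, hP⟩ : ∃ P : ℤ, P = (q : ℤ) ^ (m - 1) := ⟨_, rfl⟩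
  have hP0 : 0 < P := by rw [hP]; positivity
  have hm0 : (q : ℤ) ^ m = Q * P := by
    rw [hP, hQ, ← pow_succ']; congr 1; omega
  have hm1 : (q : ℤ) ^ (m + 1) = Q ^ 2 * P := by rw [pow_succ, hm0, ← hQ]; ring
  have hm2 : (q : ℤ) ^ (m + 2) = Q ^ 3 * P := by rw [pow_succ, hm1, ← hQ]; ring
  have hl : ((q ^ (2 * m + 1) : ℕ) : ℤ) = Q ^ 3 * P ^ 2 := by
    push_cast
    have : 2 * m + 1 = m + (m + 1) := by ring
    rw [this, pow_add, hm0, hm1]; ring
  rw [hm0, ← hP, ← hQ] at hb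
  have hne : e ≠ 0 := by rintro rfl; rw [zero_mul] at hee; exact zero_ne_one hee
  have hd : (e * (Q * P) - 1) - (-(e * P) - 1) ≠ 0 := by
    have : (e * (Q * P) - 1) - (-(e * P) - 1) = e * P * (Q + 1) := by ring
    rw [this]
    exact mul_ne_zero (mul_ne_zero hne hP0.ne') (by omega)
  obtain ⟨χ₁, χ₂, f, g, hf, hg, h1, h2, h5, -⟩ := H113.PSU.Rank3.frame_exact hr3 hxy hR hcom
    (r := e * (Q * P) - 1) (s := -(e * P) - 1) (sub_ne_zero.1 hd)
    (by push_cast; rw [← hQ]; linear_combination hb - (Q * P ^ 2) * hee - hee)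
    (by
      rw [hl]; push_cast; rw [← hQ]
      linear_combination (-(Q ^ 2 * b)) * hb + (Q ^ 2 * b) * hee)
  have hkl : ((q ^ 2 * b : ℕ) : ℤ) = Q ^ 2 * b := by push_cast; rw [hQ]
  rw [hl, hkl] at h1 h2
  have hk1 : 1 < q ^ 2 * b := by nlinarith only [hq2, hb0]
  have hl1 : 1 < q ^ (2 * m + 1) := Nat.one_lt_pow (by omega) (by omega)
  have hA : ∀ α ∈ (⊤ : Subgroup (MulAut (PSU (m + 2) K q))), ∃ σ : Equiv.Perm (H113.PSU.Points.Pt (m + 2) K q),
      Tw α σ ∧ ∀ x y, H113.PSU.Points.Rel (σ x) (σ y) ↔ H113.PSU.Points.Rel x y := fun α _ =>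
    exists_tw hF (by omega) (by omega) α
  have hZ := center_psu hF (n := m + 2) (by omega) (by omega)
  refine ⟨f, g, ⟨χ₁, χ₂, hf, hg, ?_, ?_⟩, ?_, ?_⟩
  · exact ext_of_r3 hZ hr3 hk1 hl1 le_top hA χ₁.2 (fun {_} => (inner_ne h5).1)
  · exact ext_of_r3 hZ hr3 hk1 hl1 le_top hA χ₂.2 (fun {_} => (inner_ne h5).2)
  · rw [hm2, ← hP, ← hQ]
    apply mul_left_cancel₀ (mul_ne_zero hne hP0.ne')
    linear_combination (Q ^ 2 - 1) * h1 + (e * P * Q ^ 2) * hb + (P ^ 2 * (Q ^ 3 - Q ^ 5)) * hee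
  · rw [hm1, hm0, ← hQ]
    apply mul_left_cancel₀ (mul_ne_zero hne hP0.ne')
    linear_combination (Q ^ 2 - 1) * h2 + (e * P * Q ^ 3) * hb + (P ^ 2 * (Q ^ 5 - Q ^ 3)) * hee

/-- **`PSU_n(q)`, `n ≥ 4`** -/
theorem rk3_psu (hF : Fintype.card K = q ^ 2) (hn : 4 ≤ n) :
    ∃ f g : ℕ, R3E (PSU n K q) ⊤ f g ∧
      (q ^ 2 - 1) * (q + 1) * f = q ^ 2 * uu q n * uu q (n - 3) ∧
      (q ^ 2 - 1) * (q + 1) * g = q ^ 3 * uu q (n - 1) * uu q (n - 2) := by
  have hq2 := LieClassical.HermBasic.two_le hF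
  obtain ⟨m, rfl⟩ : ∃ m, n = m + 1 + 2 := ⟨n - 3, by omega⟩
  obtain ⟨f, g, h1, hf, hg⟩ := exists_chars (K := K) (q := q) (m := m + 1) hF (by omega)
  have hqq : 1 ≤ q ^ 2 := Nat.one_le_pow _ _ (by omega)
  refine ⟨f, g, h1, ?_, ?_⟩
  · have h2 : (((q ^ 2 - 1) * (q + 1) * f : ℕ) : ℤ) = ((q ^ 2 * uu q (m + 1 + 2) * uu q (m + 1 + 2 - 3) : ℕ) : ℤ) := by
      have e2 : m + 1 + 2 - 3 = m := by omega
      rw [e2]
      push_cast [Nat.cast_sub hqq]
      rw [uu_cast (by omega), uu_cast (by omega), hf]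
      have e3 : m + 1 - 1 = m := by omega
      rw [e3]
      ring
    exact_mod_cast h2
  · have h2 : (((q ^ 2 - 1) * (q + 1) * g : ℕ) : ℤ) =
        ((q ^ 3 * uu q (m + 1 + 2 - 1) * uu q (m + 1 + 2 - 2) : ℕ) : ℤ) := by
      have e1 : m + 1 + 2 - 1 = m + 1 + 1 := by omega
      have e2 : m + 1 + 2 - 2 = m + 1 := by omega
      rw [e1, e2]
      push_cast [Nat.cast_sub hqq]
      rw [uu_cast (by omega), uu_cast (by omega), hg]
      ring
    exact_mod_cast h2

theorem hasExt_psu_left (hF : Fintype.card K = q ^ 2) (hn : 4 ≤ n) {f p : ℕ}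
    (hf : (q ^ 2 - 1) * (q + 1) * f = q ^ 2 * uu q n * uu q (n - 3)) (hp : p ∣ f) : HasExt p (PSU n K q) := by
  have hq2 := LieClassical.HermBasic.two_le hF
  obtain ⟨f', g', h1, hf', -⟩ := rk3_psu hF hn
  have h4 : 4 ≤ q ^ 2 := by nlinarith only [hq2]
  have h0 : 0 < (q ^ 2 - 1) * (q + 1) := Nat.mul_pos (by omega) (by omega)
  have : f = f' := Nat.eq_of_mul_eq_mul_left h0 (hf.trans hf'.symm)
  subst this
  exact h1.hasExt_left hp

theorem hasExt_psu_right (hF : Fintype.card K = q ^ 2) (hn : 4 ≤ n) {g p : ℕ}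
    (hg : (q ^ 2 - 1) * (q + 1) * g = q ^ 3 * uu q (n - 1) * uu q (n - 2)) (hp : p ∣ g) : HasExt p (PSU n K q) := by
  have hq2 := LieClassical.HermBasic.two_le hF
  obtain ⟨f', g', h1, -, hg'⟩ := rk3_psu hF hn
  have h4 : 4 ≤ q ^ 2 := by nlinarith only [hq2]
  have h0 : 0 < (q ^ 2 - 1) * (q + 1) := Nat.mul_pos (by omega) (by omega)
  have : g = g' := Nat.eq_of_mul_eq_mul_left h0 (hg.trans hg'.symm)
  subst this
  exact h1.hasExt_right hp

end Cfsg.Agent.H464.ExtRU
end

-- part: H328/Ext/PsuFin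
section
/-!
# S4832, rows `PSU_n(q)`, `n ≥ 4` (helper328)
-/

set_option autoImplicit false

open Cfsg

namespace Cfsg.Agent.H328.Ext

open Cfsg.Agent.H576.Ext

universe u

/-- **`PSU_n(q)`, `n ≥ 4`** -/
theorem row_psu {K : Type u} [Field K] [Fintype K] {q n : ℕ} (hF : Fintype.card K = q ^ 2) (hn : 4 ≤ n) {p : ℕ}
    (hp : p.Prime) (hpq : ¬ p ∣ Fintype.card K) (hd : p ∣ Nat.card (PSU n K q)) : HasExt p (PSU n K q) :=
  row_psu_of hF hn ⟨fun _ _ _ hf hpf => H464.ExtRU.hasExt_psu_left hF hn hf hpf,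
    fun _ _ _ hg hpg => H464.ExtRU.hasExt_psu_right hF hn hg hpg⟩ hp
    (fun h => hpq (by rw [hF]; exact h.trans (dvd_pow_self q two_ne_zero))) hd

end Cfsg.Agent.H328.Ext
end
end

-- part: H980/ExtPsl2_mg
section
prune_inst 0x440203004088000000000000050005e2698000000000b800000800a0002018e020d00862004000102000200000005000000000030000000000000040000000100008004041001a000020086000080400000000000000000000000000000000000000000000
set_option linter.all false
open scoped Cfsg.Agent.FastGrp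

-- part: H980/ExtBase
section
/-!
# S4832: characters which extend to their stabilizer in the automorphism group (helper980)

* `ExtStab θ` : `θ` extends to its stabilizer in `Aut S` (as in S4832);
* `ExtStab.of_extAut`, `ExtStab.of_gen` (`T / Inn S` cyclic), `ExtStab.of_equiv`;
* `RowE p S` : some `θ` with `p ∣ θ(1)` and `ExtStab θ`; `RowE.of_equiv`.
-/

set_option autoImplicit false
set_option linter.unusedSectionVars false

namespace Cfsg.Agent.H980.Ext

open Cfsg Cfsg.Agent.Characters.Core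

/-- `θ` extends to its stabilizer in `Aut S` -/
def ExtStab {S : Type*} [Group S] (θ : IrrCharacter S) : Prop :=
  ∀ T : Subgroup (MulAut S), (∀ α : MulAut S, α ∈ T ↔ ∀ s : S, (θ : S → ℂ) (α s) = (θ : S → ℂ) s) →
    ∃ ψ : IrrCharacter T, ∀ (s : S) (hs : MulAut.conj s ∈ T), (ψ : T → ℂ) ⟨MulAut.conj s, hs⟩ = (θ : S → ℂ) s

/-- some `θ` of degree divisible by `p` extends to its stabilizer -/
def RowE (p : ℕ) (S : Type*) [Group S] : Prop :=
  ∃ θ : IrrCharacter S, p ∣ charDegree (θ : S → ℂ) ∧ ExtStab θ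

section

variable {S : Type*} [Group S] [Finite S]

theorem conj_mem_of {θ : IrrCharacter S} {T : Subgroup (MulAut S)}
    (hT : ∀ α : MulAut S, α ∈ T ↔ ∀ s : S, (θ : S → ℂ) (α s) = (θ : S → ℂ) s) (s : S) : MulAut.conj s ∈ T := by
  rw [hT]
  intro r
  exact isIrr_isClassFunction θ.2 r s

theorem ExtStab.of_extAut {θ : IrrCharacter S}
    (h : ∃ ψ : IrrCharacter (MulAut S), ∀ s : S, (ψ : MulAut S → ℂ) (MulAut.conj s) = (θ : S → ℂ) s) : ExtStab θ := by
  obtain ⟨ψ, hψ⟩ := h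
  intro T hT
  have htop : T = ⊤ := by
    rw [Subgroup.eq_top_iff']
    intro α
    rw [hT]
    intro s
    have h1 : MulAut.conj (α s) = α * MulAut.conj s * α⁻¹ := by
      ext x
      simp only [MulAut.conj_apply, _root_.MulAut.mul_apply, _root_.MulAut.inv_apply, _root_.map_mul, _root_.MulEquiv.apply_symm_apply, _root_.map_inv]
    rw [← hψ, ← hψ, h1]
    exact isIrr_isClassFunction ψ.2 _ _
  have hfin : Finite (MulAut S) := inferInstance
  refine ⟨⟨(ψ : MulAut S → ℂ) ∘ T.subtype, isIrr_comp T.subtype (fun α => ⟨⟨α, ?_⟩, rfl⟩) ψ.2⟩, fun s hs => hψ s⟩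
  rw [htop]
  exact Subgroup.mem_top _

/-- **`T / Inn S` cyclic** -/
theorem ext_of_gen [IsSimpleGroup S] (hna : ¬ IsMulCommutative S) (θ : IrrCharacter S) (T : Subgroup (MulAut S))
    (hT : ∀ α : MulAut S, α ∈ T ↔ ∀ s : S, (θ : S → ℂ) (α s) = (θ : S → ℂ) s)
    (hgen : ∃ a ∈ T, ∀ b ∈ T, ∃ (k : ℤ) (s : S), b = MulAut.conj s * a ^ k) :
    ∃ ψ : IrrCharacter T, ∀ (s : S) (hs : MulAut.conj s ∈ T), (ψ : T → ℂ) ⟨MulAut.conj s, hs⟩ = (θ : S → ℂ) s := by
  obtain ⟨a, ha, hgen⟩ := hgen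
  have hfin : Finite (MulAut S) := inferInstance
  have hmem := conj_mem_of hT
  let f : S →* T := (MulAut.conj : S →* MulAut S).codRestrict T hmem
  have hf : Function.Injective f := fun x y h =>
    Cfsg.Agent.H235.ExtOut.conj_injective hna (congrArg Subtype.val h)
  have hnorm : f.range.Normal := ⟨by
    rintro _ ⟨s, rfl⟩ g
    refine ⟨(g : MulAut S) s, ?_⟩
    apply Subtype.ext
    show MulAut.conj ((g : MulAut S) s) = (g : MulAut S) * MulAut.conj s * (g : MulAut S)⁻¹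
    ext x
    simp only [MulAut.conj_apply, _root_.MulAut.mul_apply, _root_.MulAut.inv_apply, _root_.map_mul, _root_.MulEquiv.apply_symm_apply, _root_.map_inv]⟩
  have hcyc : IsCyclic (T ⧸ f.range) := by
    refine ⟨⟨QuotientGroup.mk' f.range ⟨a, ha⟩, fun q => ?_⟩⟩
    obtain ⟨b, rfl⟩ := QuotientGroup.mk'_surjective f.range q
    obtain ⟨k, s, hks⟩ := hgen b b.2
    refine Subgroup.mem_zpowers_iff.2 ⟨k, ?_⟩
    have h1 : b = f s * ⟨a, ha⟩ ^ k := Subtype.ext hks
    have h2 : QuotientGroup.mk' f.range (f s) = 1 := (QuotientGroup.eq_one_iff _).2 ⟨s, rfl⟩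
    rw [h1, map_mul, h2, one_mul, map_zpow]
  let e : S ≃* f.range := MonoidHom.ofInjective hf
  have he : ∀ s : S, ((e s : f.range) : T) = f s := fun s => rfl
  obtain ⟨χ, hχ, hres⟩ := S0886.result (G := T) f.range hcyc ((θ : S → ℂ) ∘ e.symm)
    (isIrr_comp (e.symm : f.range →* S) e.symm.surjective θ.2) (by
      intro g n
      obtain ⟨s, rfl⟩ := e.surjective n
      have h1 : (⟨g * (e s : f.range) * g⁻¹, hnorm.conj_mem _ (e s).2 g⟩ : f.range) = e ((g : MulAut S) s) := by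
        apply Subtype.ext
        apply Subtype.ext
        show (g : MulAut S) * MulAut.conj s * (g : MulAut S)⁻¹ = MulAut.conj ((g : MulAut S) s)
        ext x
        simp only [MulAut.conj_apply, _root_.MulAut.mul_apply, _root_.MulAut.inv_apply, _root_.map_mul, _root_.MulEquiv.apply_symm_apply, _root_.map_inv]
      rw [h1]
      show (θ : S → ℂ) (e.symm (e ((g : MulAut S) s))) = (θ : S → ℂ) (e.symm (e s))
      rw [e.symm_apply_apply, e.symm_apply_apply]
      exact (hT g).1 g.2 s)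
  refine ⟨⟨χ, hχ⟩, fun s hs => ?_⟩
  have h1 := hres (e s)
  rw [he] at h1
  show χ (f s) = _
  rw [h1]
  show (θ : S → ℂ) (e.symm (e s)) = _
  rw [e.symm_apply_apply]

theorem ExtStab.of_equiv {S' : Type*} [Group S'] (e : S ≃* S') {θ' : IrrCharacter S'} {θ : IrrCharacter S}
    (hθ : ∀ s, (θ : S → ℂ) s = (θ' : S' → ℂ) (e s)) (h : ExtStab θ') : ExtStab θ := by
  have hfin' : Finite S' := Finite.of_equiv S e.toEquiv
  intro T hT
  let E : MulAut S ≃* MulAut S' := MulAut.congr e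
  have hE : ∀ (α : MulAut S) (x : S'), E α x = e (α (e.symm x)) := fun α x => rfl
  obtain ⟨ψ, hψ⟩ := h (T.map E.toMonoidHom) (by
    intro α
    constructor
    · rintro ⟨β, hβ, rfl⟩ s
      have h1 := (hT β).1 hβ (e.symm s)
      rw [hθ, hθ, e.apply_symm_apply] at h1
      exact h1
    · intro hα
      refine ⟨E.symm α, (hT _).2 fun s => ?_, E.apply_symm_apply α⟩
      have h1 := hα (e s)
      have h2 : e ((E.symm α) s) = α (e s) := by
        have h3 : E (E.symm α) (e s) = α (e s) := by rw [E.apply_symm_apply]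
        rw [hE, e.symm_apply_apply] at h3
        exact h3
      rw [hθ, hθ, h2, h1])
  let ε : T ≃* T.map E.toMonoidHom := T.equivMapOfInjective E.toMonoidHom E.injective
  have hfinA : Finite (MulAut S) := inferInstance
  have hfinA' : Finite (MulAut S') := inferInstance
  refine ⟨⟨(ψ : T.map E.toMonoidHom → ℂ) ∘ ε, isIrr_comp (ε : T →* T.map E.toMonoidHom) ε.surjective ψ.2⟩,
    fun s hs => ?_⟩
  have h1 : E (MulAut.conj s) = MulAut.conj (e s) := by
    ext x
    rw [hE, MulAut.conj_apply, MulAut.conj_apply, map_mul, map_mul, e.apply_symm_apply, map_inv]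
  have hs' : MulAut.conj (e s) ∈ T.map E.toMonoidHom := ⟨_, hs, h1⟩
  have h2 : ε ⟨MulAut.conj s, hs⟩ = ⟨MulAut.conj (e s), hs'⟩ := Subtype.ext h1
  show (ψ : T.map E.toMonoidHom → ℂ) (ε ⟨MulAut.conj s, hs⟩) = _
  rw [h2, hψ, ← hθ]

theorem RowE.of_equiv {S' : Type*} [Group S'] (e : S ≃* S') {p : ℕ} (h : RowE p S') : RowE p S := by
  obtain ⟨θ', hp, h'⟩ := h
  let θ : IrrCharacter S := ⟨(θ' : S' → ℂ) ∘ e, isIrr_comp (e : S →* S') e.surjective θ'.2⟩
  refine ⟨θ, ?_, ExtStab.of_equiv e (fun s => rfl) h'⟩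
  have h1 : charDegree (θ : S → ℂ) = charDegree (θ' : S' → ℂ) := by
    apply Cfsg.Agent.Blocks.Basic.charDegree_of_eq
    show (θ' : S' → ℂ) (e 1) = _
    rw [map_one]
    have hfin' : Finite S' := Finite.of_equiv S e.toEquiv
    exact Cfsg.Agent.Blocks.Basic.irr_one_eq_charDegree θ'.2
  rw [h1]
  exact hp

end

end Cfsg.Agent.H980.Ext
end

-- part: H980/ExtPsl2
section
/-!
# S4832: the row `PSL₂(q)`, `p` different from the characteristic (helper980)

`row_psl2`.
-/

set_option autoImplicit false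
set_option linter.unusedSectionVars false

namespace Cfsg.Agent.H980.Ext.PslTwo

open Matrix Cfsg Cfsg.Agent.Characters.Core Cfsg.Agent.H597.L2Aut
open Cfsg.Agent.Blocks.Basic (charDegree_of_eq irr_one_eq_charDegree charDegree_pos)
open Cfsg.Agent.ClassicalGeometry.AutPSL.Root (pr pr_surjective pr_eq_one_iff)
open Cfsg.Agent.ClassicalGeometry.AutPSL.Auto (cj fld lift lift_pr coe_cj coe_fld_apply)

section

variable {F : Type*} [Field F] [Fintype F]

local notation "PSL" => Matrix.ProjectiveSpecialLinearGroup (Fin 2) F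
local notation "SL" => Matrix.SpecialLinearGroup (Fin 2) F
local notation "M₂" => Matrix (Fin 2) (Fin 2) F

theorem inner_of_sq {A : GL (Fin 2) F} (h : IsSquare (A : M₂).det) :
    ∃ s : PSL, (lift (cj A) : MulAut PSL) = MulAut.conj s := by
  obtain ⟨B, hB⟩ := exists_inner A h
  exact ⟨pr B, by rw [hB, lift_conj]⟩

theorem form_one {b : MulAut PSL} (h : fp b = 1) : ∃ A : GL (Fin 2) F, b = lift (cj A) := by
  obtain ⟨A, hA⟩ := exists_form b
  rw [h, map_one, mul_one] at hA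
  exact ⟨A, hA⟩

/-- `T` without diagonal automorphisms: `T / Inn` is cyclic -/
theorem gen_field (T : Subgroup (MulAut PSL))
    (hd : ∀ A : GL (Fin 2) F, (lift (cj A) : MulAut PSL) ∈ T → IsSquare (A : M₂).det) :
    ∃ a ∈ T, ∀ b ∈ T, ∃ (k : ℤ) (s : PSL), b = MulAut.conj s * a ^ k := by
  have hcyc : IsCyclic (F ≃+* F) := isCyclic_ringEquiv F
  have hcyc' : IsCyclic ((fp (F := F)).comp T.subtype).range := inferInstance
  obtain ⟨g, hg⟩ := hcyc'.exists_generator
  obtain ⟨_, ⟨a, rfl⟩⟩ := g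
  refine ⟨a, a.2, fun b hb => ?_⟩
  obtain ⟨k, hk⟩ := Subgroup.mem_zpowers_iff.1 (hg ⟨_, ⟨⟨b, hb⟩, rfl⟩⟩)
  have h1 : fp (a : MulAut PSL) ^ k = fp b := congrArg Subtype.val hk
  have h2 : fp (b * ((a : MulAut PSL) ^ k)⁻¹) = 1 := by
    rw [map_mul, map_inv, map_zpow, h1, mul_inv_cancel]
  obtain ⟨A, hA⟩ := form_one h2
  have h3 : (lift (cj A) : MulAut PSL) ∈ T := by
    rw [← hA]
    exact T.mul_mem hb (T.inv_mem (T.zpow_mem a.2 k))
  obtain ⟨s, hs⟩ := inner_of_sq (hd A h3)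
  refine ⟨k, s, ?_⟩
  rw [← hs, ← hA, inv_mul_cancel_right]

theorem det_ne (A : GL (Fin 2) F) : (A : M₂).det ≠ 0 := by
  have := (Matrix.isUnit_iff_isUnit_det (A : M₂)).1 A.isUnit
  exact this.ne_zero

/-- `T` without field automorphisms: `T / Inn` has order at most two -/
theorem gen_diag (T : Subgroup (MulAut PSL)) (hf : ∀ b ∈ T, fp b = 1) :
    ∃ a ∈ T, ∀ b ∈ T, ∃ (k : ℤ) (s : PSL), b = MulAut.conj s * a ^ k := by
  classical
  by_cases hd : ∀ A : GL (Fin 2) F, (lift (cj A) : MulAut PSL) ∈ T → IsSquare (A : M₂).det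
  · exact gen_field T hd
  push Not at hd
  obtain ⟨A, hA, hAsq⟩ := hd
  refine ⟨_, hA, fun b hb => ?_⟩
  obtain ⟨B, rfl⟩ := form_one (hf b hb)
  by_cases hB : IsSquare (B : M₂).det
  · obtain ⟨s, hs⟩ := inner_of_sq hB
    exact ⟨0, s, by rw [zpow_zero, mul_one, hs]⟩
  · have h1 : IsSquare ((B * A⁻¹ : GL (Fin 2) F) : M₂).det := by
      have h2 : ((B * A⁻¹ : GL (Fin 2) F) : M₂).det = (B : M₂).det * ((A : M₂).det)⁻¹ := by
        have h3 : (B * A⁻¹ : GL (Fin 2) F) * A = B := inv_mul_cancel_right B A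
        have h4 := congrArg (fun C : GL (Fin 2) F => (C : M₂).det) h3
        simp only [Units.val_mul, Matrix.det_mul] at h4 ⊢
        exact (eq_mul_inv_iff_mul_eq₀ (det_ne A)).2 h4
      rw [h2]
      have h5 : ¬ IsSquare ((A : M₂).det)⁻¹ := by rwa [isSquare_inv]
      rw [← quadraticChar_neg_one_iff_not_isSquare] at hB h5
      have h6 : quadraticChar F ((B : M₂).det * ((A : M₂).det)⁻¹) = 1 := by
        rw [map_mul, hB, h5]; norm_num
      exact (quadraticChar_one_iff_isSquare (mul_ne_zero (det_ne B) (inv_ne_zero (det_ne A)))).1 h6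
    obtain ⟨s, hs⟩ := inner_of_sq h1
    refine ⟨1, s, ?_⟩
    rw [zpow_one, ← hs, ← map_mul, ← map_mul, inv_mul_cancel_right]

theorem simple (h4 : 4 ≤ Fintype.card F) : IsSimpleGroup PSL :=
  Matrix.ProjectiveSpecialLinearGroup.rank_two_simple (by rwa [Nat.card_eq_fintype_card])

theorem not_comm (h4 : 4 ≤ Fintype.card F) : ¬ IsMulCommutative PSL := by
  intro h
  apply Cfsg.Agent.ClassicalGeometry.PSL2Solvable.not_isSolvable_psl F h4
  exact Group.isSolvable_of_comm fun a b => h.is_comm.comm a b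

/-- field parts of the stabilizer -/
theorem fp_eq_one {q₀ a m : ℕ} [Fact q₀.Prime] [CharP F q₀] (ha : Fintype.card F = q₀ ^ a) (hq : Fintype.card F = 2 * m + 1)
    {M : ℕ} (hM : 2 * m + 4 < 3 * M) {T : Subgroup (MulAut PSL)}
    (h : ∀ (A : GL (Fin 2) F) (σ : F ≃+* F) (i : ℕ), (∀ a, σ a = a ^ q₀ ^ i) → (lift (cj A * fld σ) : MulAut PSL) ∈ T →
      M ∣ q₀ ^ i - 1 ∨ M ∣ q₀ ^ i + 1) : ∀ b ∈ T, fp b = 1 := by
  intro b hb
  obtain ⟨A, hA⟩ := exists_form b
  obtain ⟨i, hi, hσ⟩ := exists_frob ha (fp b)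
  rw [hA] at hb
  have hp3 : 3 ≤ q₀ := by
    have h2 := (Fact.out : q₀.Prime).two_le
    rcases Nat.lt_or_ge q₀ 3 with h3 | h3
    · exfalso
      have h5 : q₀ = 2 := by omega
      have ha0 : a ≠ 0 := by
        rintro rfl
        have := Fintype.one_lt_card (α := F)
        rw [ha, pow_zero] at this
        omega
      have h6 : 2 ∣ q₀ ^ a := by rw [h5]; exact dvd_pow_self 2 ha0
      omega
    · exact h3
  have h5 : q₀ ^ a = q₀ ^ (a - i) * q₀ ^ i := by rw [← pow_add]; congr 1; omega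
  have h6 : 3 * q₀ ^ i ≤ q₀ ^ a := by
    rw [h5]
    apply Nat.mul_le_mul_right
    calc 3 ≤ q₀ := hp3
      _ = q₀ ^ 1 := (pow_one q₀).symm
      _ ≤ q₀ ^ (a - i) := Nat.pow_le_pow_right (by omega) (by omega)
  have h7 : 0 < q₀ ^ i := pow_pos (Fact.out : q₀.Prime).pos _
  have h8 : q₀ ^ i = 1 := by
    rcases h A (fp b) i hσ hb with h9 | h9
    · rcases Nat.eq_zero_or_pos (q₀ ^ i - 1) with h10 | h10
      · omega
      · have := Nat.le_of_dvd h10 h9
        omega
    · have := Nat.le_of_dvd (by omega) h9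
      omega
  ext x
  rw [hσ, h8, pow_one]
  rfl

/-- **the row `PSL₂(q)`, `q` even** -/
theorem row_even (h4 : 4 ≤ Fintype.card F) (he : Even (Fintype.card F)) {p : ℕ} [hp : Fact p.Prime]
    (hd : p ∣ Nat.card PSL) : RowE p PSL := by
  have := simple h4
  obtain ⟨χ, hχ⟩ := Cfsg.Agent.H664.R1.PSLTwo.im_psl h4 hp.out hd
  refine ⟨χ, hχ, fun T hT => ext_of_gen (not_comm h4) χ T hT (gen_field T fun A _ => ?_)⟩
  have h2 : ringChar F = 2 := FiniteField.even_card_iff_char_two.2 (Nat.even_iff.1 he)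
  exact FiniteField.isSquare_of_char_two h2 _

/-- **the row `PSL₂(q)`, `q` odd, `p` different from the characteristic** -/
theorem row_odd (h4 : 4 ≤ Fintype.card F) (ho : Odd (Fintype.card F)) {p : ℕ} [hp : Fact p.Prime]
    (hd : p ∣ Nat.card PSL) (hpF : ¬ p ∣ Fintype.card F) : RowE p PSL := by
  classical
  have := simple h4
  obtain ⟨m, hq⟩ := ho
  obtain ⟨q₀, hq₀⟩ := CharP.exists F
  have hq₀p : Fact q₀.Prime := ⟨CharP.char_is_prime F q₀⟩
  obtain ⟨⟨a, ha0⟩, -, ha⟩ := FiniteField.card F q₀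
  have ha : Fintype.card F = q₀ ^ a := ha
  have hfac : p ∣ 2 * m ∨ p ∣ 2 * m + 2 := by
    have h1 : p ∣ Fintype.card F * (Fintype.card F ^ 2 - 1) := by
      rw [← SmallSimple.PSLTwoPart.card_psl_two_odd (by rw [hq]; exact ⟨m, rfl⟩)]
      exact hd.mul_left _
    have h2 : Fintype.card F ^ 2 - 1 = (2 * m + 2) * (2 * m) := by
      have := Nat.sq_sub_sq (Fintype.card F) 1
      rw [one_pow] at this
      rw [this, hq]
      rfl
    rw [h2] at h1
    rcases hp.out.dvd_mul.1 h1 with h | h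
    · exact absurd h hpF
    · exact (hp.out.dvd_mul.1 h).symm
  by_cases h1 : p ∣ 2 * m
  · obtain ⟨θ, hθ, hdeg, hst⟩ := Cfsg.Agent.H597.L2Char.exists_X (F := F) (p := q₀) (m := m) (by omega) hq
    refine ⟨⟨θ, hθ⟩, by show p ∣ charDegree θ; rw [hdeg]; exact h1, fun T hT => ext_of_gen (not_comm h4) _ T hT
      (gen_diag T (fp_eq_one ha hq (M := m + 1) (by omega) fun A σ i hσ hb => hst A σ i hσ ((hT _).1 hb)))⟩
  have h2 : p ∣ 2 * m + 2 := hfac.resolve_left h1
  have hp2 : p ≠ 2 := by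
    rintro rfl
    exact h1 (dvd_mul_right 2 m)
  have h3 : p ∣ m + 1 := by
    have h4 : p ∣ 2 * (m + 1) := h2
    rcases hp.out.dvd_mul.1 h4 with h | h
    · exact absurd ((Nat.prime_dvd_prime_iff_eq hp.out Nat.prime_two).1 h) hp2
    · exact h
  rcases Nat.lt_or_ge 4 m with hm | hm
  · obtain ⟨θ, hθ, hdeg, hst⟩ := Cfsg.Agent.H597.L2Char.exists_R (F := F) (p := q₀) (m := m) (by omega) hq
    refine ⟨⟨θ, hθ⟩, by show p ∣ charDegree θ; rw [hdeg]; exact h2, fun T hT => ext_of_gen (not_comm h4) _ T hT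
      (gen_diag T (fp_eq_one ha hq (M := m) (by omega) fun A σ i hσ hb => hst A σ i hσ ((hT _).1 hb)))⟩
  · have hm2 : 2 ≤ m := by omega
    have hodd : Odd (m + 1) := by
      interval_cases m
      · decide
      · exfalso
        have h5 : p ∣ 2 ^ 2 := h3
        exact hp2 ((Nat.prime_dvd_prime_iff_eq hp.out Nat.prime_two).1 (hp.out.dvd_of_dvd_pow h5))
      · decide
    obtain ⟨θ, hθ, hdeg⟩ := Cfsg.Agent.H597.L2Char.exists_half (F := F) hq (by omega) (Or.inr rfl) hodd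
    refine ⟨⟨θ, hθ⟩, by show p ∣ charDegree θ; rw [hdeg]; exact h3, fun T hT => ext_of_gen (not_comm h4) _ T hT
      (gen_field T fun A hA => ?_)⟩
    by_contra hsq
    exact Cfsg.Agent.H597.L2Char.not_inv_of_not_square hq (by omega) hθ (Or.inr hdeg) hsq ((hT _).1 hA)

/-- **the row `PSL₂(q)`, `p` different from the characteristic** -/
theorem row_psl2 (h4 : 4 ≤ Fintype.card F) {p : ℕ} [hp : Fact p.Prime]
    (hd : p ∣ Nat.card PSL) (hpF : ¬ p ∣ Fintype.card F) : RowE p PSL := by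
  rcases Nat.even_or_odd (Fintype.card F) with h | h
  · exact row_even h4 h hd
  · exact row_odd h4 h hd hpF

end

end Cfsg.Agent.H980.Ext.PslTwo
end

-- part: H809/D4/Levi
section
/-!
# S4832, POmega8+(q): Levi elements of square determinant (helper809)
-/

set_option autoImplicit false

open scoped ComplexConjugate commutatorElement
open Cfsg

namespace Cfsg.Agent.H809.D4

open Cfsg.Agent.H576.Ext Cfsg.Agent.H477.HC Cfsg.Agent.H477.HC.CForm Cfsg.Agent.H53.HC Cfsg.Agent.Characters Module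

universe u v

variable {K : Type u} [Field K] {V : Type v} [AddCommGroup V] [Module K V] {F : CForm K V}

/-- isometries from dual bases of opposite subspaces -/
theorem exists_of_frames [FiniteDimensional K V] {k : ℕ} {W W' : Submodule K V} (hW : W ∈ F.Om k) (hW' : W' ∈ F.Om k)
    (h0 : W ⊓ F.perp W' = ⊥) (b : Basis (Fin k) K W) (b' : Basis (Fin k) K W')
    (hb : ∀ i j, F.B (b i) (b' j) = if i = j then 1 else 0) (x y : Fin k → V) (hx : ∀ i, x i ∈ W ⊔ W')
    (hy : ∀ i, y i ∈ W ⊔ W') (hxx : ∀ i j, F.B (x i) (x j) = 0) (hyy : ∀ i j, F.B (y i) (y j) = 0)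
    (hxQ : ∀ i, F.Q (x i) = 0) (hyQ : ∀ i, F.Q (y i) = 0) (hxy : ∀ i j, F.B (x i) (y j) = if i = j then 1 else 0) :
    ∃ g : F.iso, (∀ i, (g : V ≃ₗ[K] V) (b i) = x i) ∧ (∀ i, (g : V ≃ₗ[K] V) (b' i) = y i) ∧
      ∀ v, (∀ w ∈ W, F.B v w = 0) → (∀ w ∈ W', F.B v w = 0) → (g : V ≃ₗ[K] V) v = v := by
  classical
  have h0' := opp_symm hW.2 hW'.2 h0
  have tx := F.TS_span hxx hxQ
  have ty := F.TS_span hyy hyQ
  let f₁ : W →ₗ[K] V := b.constr K x
  let f₂ : W' →ₗ[K] V := b'.constr K y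
  have e1 : ∀ w : W, f₁ w = ∑ i, b.repr w i • x i := fun w => Basis.constr_apply_fintype _ _ _ _
  have e2 : ∀ w : W', f₂ w = ∑ i, b'.repr w i • y i := fun w => Basis.constr_apply_fintype _ _ _ _
  have m1 : ∀ w, f₁ w ∈ Submodule.span K (Set.range x) := fun w => by
    rw [e1]; exact (Submodule.mem_span_range_iff_exists_fun K).2 ⟨_, rfl⟩
  have m2 : ∀ w, f₂ w ∈ Submodule.span K (Set.range y) := fun w => by
    rw [e2]; exact (Submodule.mem_span_range_iff_exists_fun K).2 ⟨_, rfl⟩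
  have lx : Submodule.span K (Set.range x) ≤ W ⊔ W' := by
    rw [Submodule.span_le]; rintro _ ⟨i, rfl⟩; exact hx i
  have ly : Submodule.span K (Set.range y) ≤ W ⊔ W' := by
    rw [Submodule.span_le]; rintro _ ⟨i, rfl⟩; exact hy i
  have e0 : ∀ w : W, (w : V) = ∑ i, b.repr w i • (b i : V) := by
    intro w
    conv_lhs => rw [← b.sum_repr w, Submodule.coe_sum]
    rfl
  have e0' : ∀ w : W', (w : V) = ∑ i, b'.repr w i • (b' i : V) := by
    intro w
    conv_lhs => rw [← b'.sum_repr w, Submodule.coe_sum]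
    rfl
  obtain ⟨g, hg1, hg2, hg3⟩ := F.exists_ext hW.1 hW'.1
    (fun w hw hw' => by
      have : w ∈ W ⊓ F.perp W' := ⟨hw, hw'⟩
      rw [h0] at this
      exact (Submodule.mem_bot K).1 this)
    (fun w hw hw' => by
      have : w ∈ W' ⊓ F.perp W := ⟨hw, fun w' hw'' => F.B_eq_zero (hw' w' hw'')⟩
      rw [h0'] at this
      exact (Submodule.mem_bot K).1 this)
    f₁ f₂ (fun w => lx (m1 w)) (fun w => ly (m2 w)) (fun w => tx.1 _ (m1 w)) (fun w => ty.1 _ (m2 w))
    (fun w w' => tx.2 _ (m1 w) _ (m1 w')) (fun w w' => ty.2 _ (m2 w) _ (m2 w')) (fun w w' => by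
      rw [e1, e2, B_sum_left]
      conv_rhs => rw [e0 w, e0' w', B_sum_left]
      refine Finset.sum_congr rfl fun i _ => ?_
      rw [B_sum_right, B_sum_right]
      congr 1
      refine Finset.sum_congr rfl fun j _ => ?_
      rw [hxy, hb])
  refine ⟨g, fun i => ?_, fun i => ?_, hg3⟩
  · rw [hg1]; exact b.constr_basis K x i
  · rw [hg2]; exact b'.constr_basis K y i

/-- an element acting on `W`, `W'` and fixing the complement is in `TT W` -/
theorem mem_TT_of_fix [FiniteDimensional K V] {W W' : Submodule K V} {k : ℕ} (hW : W ∈ F.Om k) (hW' : W' ∈ F.Om k)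
    (h0 : W ⊓ F.perp W' = ⊥) {g : F.iso} (h1 : ∀ w ∈ W, (g : V ≃ₗ[K] V) w ∈ W)
    (h2 : ∀ v, (∀ w ∈ W, F.B v w = 0) → (∀ w ∈ W', F.B v w = 0) → (g : V ≃ₗ[K] V) v = v) : g ∈ F.TT W := by
  have h0' := opp_symm hW.2 hW'.2 h0
  obtain ⟨P, hP⟩ := F.exists_proj (W₀ := W) (W' := W')
    (fun w hw hw' => by
      have : w ∈ W ⊓ F.perp W' := ⟨hw, hw'⟩
      rw [h0] at this
      exact (Submodule.mem_bot K).1 this)
    (fun w hw hw' => by
      have : w ∈ W' ⊓ F.perp W := ⟨hw, fun w' hw'' => F.B_eq_zero (hw' w' hw'')⟩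
      rw [h0'] at this
      exact (Submodule.mem_bot K).1 this)
  refine F.mem_TT_of hW.1 fun v hv => ?_
  have e1 : (g : V ≃ₗ[K] V) (v - P v) = v - P v := h2 _
    (fun w hw => by rw [F.B_sub_left, hv w hw, hW.1.2 _ (P v).2 w hw, sub_zero])
    (fun w hw => by rw [F.B_sub_left, ← hP v w hw, sub_self])
  have e2 : (g : V ≃ₗ[K] V) v - v = (g : V ≃ₗ[K] V) (P v) - P v := by
    rw [map_sub] at e1
    rw [← sub_eq_zero] at e1 ⊢
    rw [← e1]
    abel
  rw [e2]
  exact W.sub_mem (h1 _ (P v).2) (P v).2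

/-- the scalar Levi element is a commutator -/
theorem exists_scalar_levi [FiniteDimensional K V] (hσ : ∀ a, F.σ a = a) {W W' : Submodule K V}
    (hW : W ∈ F.Om 2) (hW' : W' ∈ F.Om 2) (h0 : W ⊓ F.perp W' = ⊥) (t : Kˣ) :
    ∃ g ∈ commutator F.iso, g ∈ F.TT W ∧ g ∈ F.TT W' ∧ (∀ w ∈ W, (g : V ≃ₗ[K] V) w = (t : K) • w) ∧
      ∀ v, (∀ w ∈ W, F.B v w = 0) → (∀ w ∈ W', F.B v w = 0) → (g : V ≃ₗ[K] V) v = v := by
  classical
  obtain ⟨b, b', hb⟩ := exists_dual_basis hW.2 hW'.2 h0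
  have h0' := opp_symm hW.2 hW'.2 h0
  have hBb' : ∀ i j, F.B (b' i) (b j) = if i = j then F.ε else 0 := by
    intro i j
    rw [F.B_symm, hb]
    by_cases hij : i = j
    · rw [if_pos hij, if_pos hij.symm, map_one, mul_one]
    · rw [if_neg hij, if_neg (Ne.symm hij), map_zero, mul_zero]
  have hbb : ∀ i j, F.B (b i) (b j) = 0 := fun i j => hW.1.2 _ (b i).2 _ (b j).2
  have hbb' : ∀ i j, F.B (b' i) (b' j) = 0 := fun i j => hW'.1.2 _ (b' i).2 _ (b' j).2
  have hbQ : ∀ i, F.Q (b i) = 0 := fun i => hW.1.1 _ (b i).2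
  have hbQ' : ∀ i, F.Q (b' i) = 0 := fun i => hW'.1.1 _ (b' i).2
  have mb : ∀ i, (b i : V) ∈ W ⊔ W' := fun i => (le_sup_left : W ≤ W ⊔ W') (b i).2
  have mb' : ∀ i, (b' i : V) ∈ W ⊔ W' := fun i => (le_sup_right : W' ≤ W ⊔ W') (b' i).2
  have ht : (t : K) ≠ 0 := t.ne_zero
  have hε := F.ε_ne
  have hεσ : F.ε * F.ε = 1 := by have := F.hε; rwa [hσ] at this
  obtain ⟨u, hu1, hu2, hu3⟩ := exists_of_frames hW hW' h0 b b' hb
    (![(t : K) • (b 0 : V), b 1]) (![(t : K)⁻¹ • (b' 0 : V), b' 1])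
    (by
      intro i; fin_cases i
      · exact Submodule.smul_mem _ _ (mb 0)
      · exact mb 1)
    (by
      intro i; fin_cases i
      · exact Submodule.smul_mem _ _ (mb' 0)
      · exact mb' 1)
    (by
      intro i j
      (revert i j; simp only [F.B_smul_left, F.B_smul_right, hbb, _root_.Fin.forall_fin_succ, Fin.isValue, _root_.Matrix.cons_val_zero, _root_.mul_eq_zero, _root_.map_eq_zero, _root_.Units.ne_zero, _root_.false_or, _root_.Matrix.cons_val_succ, _root_.Matrix.cons_val_fin_one, _root_.forall_const, _root_.MulZeroClass.mul_zero, _root_.and_self, _root_.implies_true]))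
    (by
      intro i j
      (revert i j; simp only [F.B_smul_left, F.B_smul_right, hbb', _root_.Fin.forall_fin_succ, Fin.isValue, _root_.Matrix.cons_val_zero, _root_.map_inv₀, _root_.mul_eq_zero, _root_.inv_eq_zero, _root_.map_eq_zero, _root_.Units.ne_zero, _root_.false_or, _root_.Matrix.cons_val_succ, _root_.Matrix.cons_val_fin_one, _root_.forall_const, _root_.MulZeroClass.mul_zero, _root_.and_self, _root_.implies_true]))
    (by
      intro i
      (revert i; simp only [F.Q_smul, hbQ, _root_.Fin.forall_fin_succ, Fin.isValue, _root_.Matrix.cons_val_zero, _root_.MulZeroClass.mul_zero, _root_.Matrix.cons_val_succ, _root_.Matrix.cons_val_fin_one, _root_.implies_true, _root_.and_self]))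
    (by
      intro i
      (revert i; simp only [F.Q_smul, hbQ', _root_.Fin.forall_fin_succ, Fin.isValue, _root_.Matrix.cons_val_zero, _root_.map_inv₀, _root_.MulZeroClass.mul_zero, _root_.Matrix.cons_val_succ, _root_.Matrix.cons_val_fin_one, _root_.implies_true, _root_.and_self]))
    (by
      intro i j
      (revert i j; simp only [F.B_smul_left, F.B_smul_right, hb, hσ, ht, _root_.Fin.forall_fin_succ, Fin.isValue, _root_.Matrix.cons_val_zero, _root_.Matrix.cons_val_succ, _root_.Matrix.cons_val_fin_one, _root_.Fin.succ_zero_eq_one, _root_.IsEmpty.forall_iff, _root_.and_true, ↓reduceIte, _root_.mul_one, _root_.ne_eq, _root_.not_false_eq_true, _root_.inv_mul_cancel₀, _root_.zero_ne_one, _root_.MulZeroClass.mul_zero, _root_.and_self, _root_.one_ne_zero, _root_.Fin.succ_ne_zero, _root_.left_eq_ite_iff, _root_.imp_false, _root_.Decidable.not_not, _root_.true_and]))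
  obtain ⟨s, hs1, hs2, hs3⟩ := exists_of_frames hW hW' h0 b b' hb
    (![(b' 1 : V), b 0]) (![F.ε • (b 1 : V), b' 0])
    (by
      intro i; fin_cases i
      · exact mb' 1
      · exact mb 0)
    (by
      intro i; fin_cases i
      · exact Submodule.smul_mem _ _ (mb 1)
      · exact mb' 0)
    (by
      intro i j
      (revert i j; simp only [hbb, hbb', hb, hBb', _root_.Fin.forall_fin_succ, Fin.isValue, _root_.Matrix.cons_val_zero, _root_.Matrix.cons_val_succ, _root_.Matrix.cons_val_fin_one, _root_.forall_const, _root_.one_ne_zero, ↓reduceIte, _root_.and_self, _root_.zero_ne_one, _root_.implies_true]))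
    (by
      intro i j
      (revert i j; simp only [F.B_smul_left, F.B_smul_right, hbb, hbb', hb, hBb', _root_.Fin.forall_fin_succ, Fin.isValue, _root_.Matrix.cons_val_zero, _root_.mul_eq_zero, _root_.map_eq_zero, _root_.Matrix.cons_val_succ, _root_.Matrix.cons_val_fin_one, _root_.forall_const, _root_.MulZeroClass.mul_zero, _root_.or_true, _root_.one_ne_zero, ↓reduceIte, _root_.and_self, _root_.zero_ne_one, _root_.implies_true]))
    (by
      intro i
      (revert i; simp only [hbQ, hbQ', _root_.Fin.forall_fin_succ, Fin.isValue, _root_.Matrix.cons_val_zero, _root_.Matrix.cons_val_succ, _root_.Matrix.cons_val_fin_one, _root_.implies_true, _root_.and_self]))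
    (by
      intro i
      (revert i; simp only [F.Q_smul, hbQ, hbQ', _root_.Fin.forall_fin_succ, Fin.isValue, _root_.Matrix.cons_val_zero, _root_.MulZeroClass.mul_zero, _root_.Matrix.cons_val_succ, _root_.Matrix.cons_val_fin_one, _root_.implies_true, _root_.and_self]))
    (by
      intro i j
      (revert i j; simp only [F.B_smul_right, hb, hbb, hbb', hBb', hσ, hεσ, _root_.Fin.forall_fin_succ, Fin.isValue, _root_.Matrix.cons_val_zero, _root_.Matrix.cons_val_succ, _root_.Matrix.cons_val_fin_one, _root_.Fin.succ_zero_eq_one, _root_.IsEmpty.forall_iff, _root_.and_true, ↓reduceIte, _root_.zero_ne_one, _root_.and_self, _root_.MulZeroClass.mul_zero, _root_.Fin.succ_ne_zero, _root_.left_eq_ite_iff, _root_.one_ne_zero, _root_.imp_false, _root_.Decidable.not_not, _root_.true_and]))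
  have u0 : (u : V ≃ₗ[K] V) (b 0) = (t : K) • (b 0 : V) := hu1 0
  have u1 : (u : V ≃ₗ[K] V) (b 1) = b 1 := hu1 1
  have u0' : (u : V ≃ₗ[K] V) (b' 0) = (t : K)⁻¹ • (b' 0 : V) := hu2 0
  have u1' : (u : V ≃ₗ[K] V) (b' 1) = b' 1 := hu2 1
  have s0 : (s : V ≃ₗ[K] V) (b 0) = b' 1 := hs1 0
  have s1 : (s : V ≃ₗ[K] V) (b 1) = b 0 := hs1 1
  have s0' : (s : V ≃ₗ[K] V) (b' 0) = F.ε • (b 1 : V) := hs2 0
  have s1' : (s : V ≃ₗ[K] V) (b' 1) = b' 0 := hs2 1
  -- the inverses
  have ui0 : ((u⁻¹ : F.iso) : V ≃ₗ[K] V) (b 0) = (t : K)⁻¹ • (b 0 : V) := by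
    have := inv_apply' u (b 0)
    rw [u0, map_smul] at this
    rw [← this, smul_smul, inv_mul_cancel₀ ht, one_smul, this]
  have ui1 : ((u⁻¹ : F.iso) : V ≃ₗ[K] V) (b 1) = b 1 := by
    have := inv_apply' u (b 1)
    rwa [u1] at this
  have ui0' : ((u⁻¹ : F.iso) : V ≃ₗ[K] V) (b' 0) = (t : K) • (b' 0 : V) := by
    have := inv_apply' u (b' 0)
    rw [u0', map_smul] at this
    rw [← this, smul_smul, mul_inv_cancel₀ ht, one_smul, this]
  have ui1' : ((u⁻¹ : F.iso) : V ≃ₗ[K] V) (b' 1) = b' 1 := by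
    have := inv_apply' u (b' 1)
    rwa [u1'] at this
  have si0 : ((s⁻¹ : F.iso) : V ≃ₗ[K] V) (b 0) = b 1 := by
    have := inv_apply' s (b 1)
    rwa [s1] at this
  have si1 : ((s⁻¹ : F.iso) : V ≃ₗ[K] V) (b 1) = F.ε⁻¹ • (b' 0 : V) := by
    have := inv_apply' s (b' 0)
    rw [s0', map_smul] at this
    rw [← this, smul_smul, inv_mul_cancel₀ hε, one_smul]
  have si0' : ((s⁻¹ : F.iso) : V ≃ₗ[K] V) (b' 0) = b' 1 := by
    have := inv_apply' s (b' 1)
    rwa [s1'] at this
  have si1' : ((s⁻¹ : F.iso) : V ≃ₗ[K] V) (b' 1) = b 0 := by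
    have := inv_apply' s (b 0)
    rwa [s0] at this
  let g : F.iso := s * u⁻¹ * s⁻¹ * u
  have hg : ∀ v, (g : V ≃ₗ[K] V) v = (s : V ≃ₗ[K] V) (((u⁻¹ : F.iso) : V ≃ₗ[K] V)
    (((s⁻¹ : F.iso) : V ≃ₗ[K] V) ((u : V ≃ₗ[K] V) v))) := fun v => rfl
  have g0 : (g : V ≃ₗ[K] V) (b 0) = (t : K) • (b 0 : V) := by
    rw [hg, u0, map_smul, si0, map_smul, ui1, map_smul, s1]
  have g1 : (g : V ≃ₗ[K] V) (b 1) = (t : K) • (b 1 : V) := by
    rw [hg, u1, si1, map_smul, ui0', map_smul, map_smul, s0', smul_smul, smul_smul]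
    congr 1
    field_simp
  have g0' : (g : V ≃ₗ[K] V) (b' 0) = (t : K)⁻¹ • (b' 0 : V) := by
    rw [hg, u0', map_smul, si0', map_smul, ui1', map_smul, s1']
  have g1' : (g : V ≃ₗ[K] V) (b' 1) = (t : K)⁻¹ • (b' 1 : V) := by
    rw [hg, u1', si1', ui0, map_smul, s0]
  have g3 : ∀ v, (∀ w ∈ W, F.B v w = 0) → (∀ w ∈ W', F.B v w = 0) → (g : V ≃ₗ[K] V) v = v := by
    intro v hv hv'
    have a1 := hu3 v hv hv'
    have a2 : ((u⁻¹ : F.iso) : V ≃ₗ[K] V) v = v := by
      have := inv_apply' u v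
      rwa [a1] at this
    have a3 := hs3 v hv hv'
    have a4 : ((s⁻¹ : F.iso) : V ≃ₗ[K] V) v = v := by
      have := inv_apply' s v
      rwa [a3] at this
    rw [hg, a1, a4, a2, a3]
  have gW : ∀ w ∈ W, (g : V ≃ₗ[K] V) w = (t : K) • w := by
    intro w hw
    have e0 : w = b.repr ⟨w, hw⟩ 0 • (b 0 : V) + b.repr ⟨w, hw⟩ 1 • (b 1 : V) := by
      have := congrArg Subtype.val (b.sum_repr ⟨w, hw⟩)
      rw [Fin.sum_univ_two] at this
      exact this.symm
    conv_lhs => rw [e0]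
    conv_rhs => rw [e0]
    rw [map_add, map_smul, map_smul, g0, g1, smul_add, smul_comm, smul_comm (t : K) _ (b 1 : V)]
  have gW' : ∀ w ∈ W', (g : V ≃ₗ[K] V) w = (t : K)⁻¹ • w := by
    intro w hw
    have e0 : w = b'.repr ⟨w, hw⟩ 0 • (b' 0 : V) + b'.repr ⟨w, hw⟩ 1 • (b' 1 : V) := by
      have := congrArg Subtype.val (b'.sum_repr ⟨w, hw⟩)
      rw [Fin.sum_univ_two] at this
      exact this.symm
    conv_lhs => rw [e0]
    conv_rhs => rw [e0]
    rw [map_add, map_smul, map_smul, g0', g1', smul_add, smul_comm, smul_comm (t : K)⁻¹ _ (b' 1 : V)]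
  refine ⟨g, ?_, mem_TT_of_fix hW hW' h0 (fun w hw => by rw [gW w hw]; exact W.smul_mem _ hw) g3,
    mem_TT_of_fix hW' hW h0' (fun w hw => by rw [gW' w hw]; exact W'.smul_mem _ hw) fun v hv hv' => g3 v hv' hv,
    gW, g3⟩
  have : g = ⁅s, u⁻¹⁆ := by
    rw [commutatorElement_def, inv_inv]
  rw [this, commutator_def]
  exact Subgroup.commutator_mem_commutator trivial trivial

/-- **the Levi elements of square determinant** -/
theorem hasLevi_sq [FiniteDimensional K V] (hσ : ∀ a, F.σ a = a) {N : Subgroup F.iso} (hcomm : commutator F.iso ≤ N)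
    (hN : HasRoots F N) : HasLevi F N ((powMonoidHom 2 : Kˣ →* Kˣ).range) 2 := by
  intro W hW W' hW' h0 g hg hg' h hdet h3
  obtain ⟨t, ht⟩ := hdet
  obtain ⟨x, hx, hxT, hxT', hxW, hx3⟩ := exists_scalar_levi hσ hW hW' h0 t
  have hmem : g * x⁻¹ ∈ N := by
    have hi : W.map (F.iso.subtype (g * x⁻¹) : V →ₗ[K] V) = W := (F.TT W).mul_mem hg ((F.TT W).inv_mem hxT) |>.1
    refine hasLevi_bot F hN 2 W hW W' hW' h0 (g * x⁻¹) ((F.TT W).mul_mem hg ((F.TT W).inv_mem hxT))
      ((F.TT W').mul_mem hg' ((F.TT W').inv_mem hxT')) hi ?_ fun v hv hv' => ?_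
    · rw [Subgroup.mem_bot]
      have e1 : res (F.iso.subtype (g * x⁻¹)) W hi * res (F.iso.subtype x) W hxT.1 = res (F.iso.subtype g) W h := by
        ext w
        show ((g * x⁻¹ : F.iso) : V ≃ₗ[K] V) ((x : V ≃ₗ[K] V) w) = (g : V ≃ₗ[K] V) w
        rw [mul_apply', inv_apply']
      have e2 : LinearEquiv.det (res (F.iso.subtype x) W hxT.1) = t ^ 2 := by
        have : res (F.iso.subtype x) W hxT.1 = LinearEquiv.smulOfUnit t := by
          ext w
          show (x : V ≃ₗ[K] V) w = _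
          rw [hxW w w.2]
          rfl
        rw [this]
        apply Units.ext
        rw [LinearEquiv.coe_det]
        have e3 : ((LinearEquiv.smulOfUnit t : W ≃ₗ[K] W) : W →ₗ[K] W) = (t : K) • LinearMap.id := by
          ext w
          rfl
        rw [e3, LinearMap.det_smul, LinearMap.det_id, mul_one, hW.2, Units.val_pow_eq_pow_val]
      have e3 := congrArg LinearEquiv.det e1
      rw [map_mul, e2, ← ht] at e3
      have e4 : (powMonoidHom 2 : Kˣ →* Kˣ) t = t ^ 2 := rfl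
      rw [e4] at e3
      exact mul_eq_right.1 e3
    · have a1 := hx3 v hv hv'
      have a2 : ((x⁻¹ : F.iso) : V ≃ₗ[K] V) v = v := by
        have := inv_apply' x v
        rwa [a1] at this
      rw [mul_apply', a2, h3 v hv hv']
  have := N.mul_mem hmem (hcomm hx)
  rwa [inv_mul_cancel_right] at this

end Cfsg.Agent.H809.D4
end

-- part: H809/D4/Trans
section
/-!
# S4832, POmega8+(q): transitivity of the commutator group on totally singular subspaces (helper809)
-/

set_option autoImplicit false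

open scoped ComplexConjugate commutatorElement
open Cfsg

namespace Cfsg.Agent.H809.D4

open Cfsg.Agent.H576.Ext Cfsg.Agent.H477.HC Cfsg.Agent.H477.HC.CForm Cfsg.Agent.H53.HC Cfsg.Agent.Characters Module
  QuadraticMap Cfsg.Agent.LieClassical.OrthCore Cfsg.Agent.LieClassical.OrthTrans
  Cfsg.Agent.LieClassical.OrthSimple Cfsg.Agent.ClassicalGeometry.OrthSemi Cfsg.Agent.ClassicalGeometry.OrthAut1
  Cfsg.Agent.H624.ExtO

universe u v

variable {K : Type u} [Field K] {V : Type v} [AddCommGroup V] [Module K V]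

/-- `O = E · (pointwise stabiliser of W)` if every value is taken on the orthogonal space of `W` -/
theorem exists_mul_fix [FiniteDimensional K V] {Q : QuadraticForm K V} (hG : Good Q) (W : Submodule K V)
    (hval : ∀ c : K, c ≠ 0 → ∃ v : V, Q v = c ∧ ∀ w ∈ W, polar Q v w = 0) {g : V ≃ₗ[K] V} (hg : g ∈ O Q) :
    ∃ n ∈ E Q, ∃ s ∈ O Q, (∀ w ∈ W, s w = w) ∧ g = n * s := by
  rw [O_eq_closure hG.nondeg] at hg
  induction hg using Subgroup.closure_induction with
  | mem x hx =>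
    rcases hx with ⟨v, hv, rfl⟩ | hx
    · obtain ⟨v', hv', hW⟩ := hval (Q v) hv
      have hv0 : Q v' ≠ 0 := by rw [hv']; exact hv
      refine ⟨refl Q v hv * refl Q v' hv0, hG.refl_mul_refl_mem hv0 hv hv', refl Q v' hv0, refl_mem_O hv0,
        fun w hw => ?_, ?_⟩
      · rw [refl_apply, hW w hw]
        simp
      · rw [mul_assoc, refl_mul_self, mul_one]
    · exact ⟨x, Subgroup.subset_closure hx, 1, one_mem _, fun w _ => rfl, (mul_one x).symm⟩
  | one => exact ⟨1, one_mem _, 1, one_mem _, fun w _ => rfl, (mul_one 1).symm⟩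
  | mul x y _ _ hx hy =>
    obtain ⟨n, hn, s, hs, hsW, rfl⟩ := hx
    obtain ⟨n', hn', s', hs', hsW', rfl⟩ := hy
    refine ⟨n * (s * n' * s⁻¹), (E Q).mul_mem hn (conj_mem_E hs hn'), s * s', (O Q).mul_mem hs hs', fun w hw => ?_,
      by group⟩
    rw [LinearEquiv.mul_apply, hsW' w hw, hsW w hw]
  | inv x _ hx =>
    obtain ⟨n, hn, s, hs, hsW, rfl⟩ := hx
    have hi : ∀ w ∈ W, s⁻¹ w = w := fun w hw => by
      have : s⁻¹ (s w) = w := s.symm_apply_apply w
      rwa [hsW w hw] at this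
    refine ⟨s⁻¹ * n⁻¹ * s⁻¹⁻¹, conj_mem_E ((O Q).inv_mem hs) ((E Q).inv_mem hn), s⁻¹, (O Q).inv_mem hs, hi, ?_⟩
    group

/-- transitivity on `F.Om k` -/
theorem trans_comm [FiniteDimensional K V] {F : CForm K V} (h : IsQuad F) (hG : Good (quadOf F h)) {k : ℕ}
    {W₀ W : Submodule K V} (hW₀ : W₀ ∈ F.Om k) (hW : W ∈ F.Om k)
    (hval : ∀ c : K, c ≠ 0 → ∃ v : V, F.Q v = c ∧ ∀ w ∈ W₀, F.B v w = 0) :
    ∃ g ∈ commutator F.iso, W₀.map (F.iso.subtype g : V →ₗ[K] V) = W := by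
  obtain ⟨g, hg⟩ := F.trans_Om hW₀ hW
  have hgO : (g : V ≃ₗ[K] V) ∈ O (quadOf F h) := by rw [← iso_eq h]; exact g.2
  obtain ⟨n, hn, s, hs, hsW, e⟩ := exists_mul_fix hG W₀ (fun c hc => by
    obtain ⟨v, hv, hv'⟩ := hval c hc
    exact ⟨v, hv, fun w hw => by rw [polar_quadOf h]; exact hv' w hw⟩) hgO
  obtain ⟨n', hn'⟩ := toE_surjective h hG ⟨n, hn⟩
  refine ⟨n', n'.2, ?_⟩
  rw [← hg]
  have h1 : ∀ w ∈ W₀, ((n' : F.iso) : V ≃ₗ[K] V) w = (g : V ≃ₗ[K] V) w := by
    intro w hw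
    rw [← toE_apply h hG, hn', e, LinearEquiv.mul_apply, hsW w hw]
  apply le_antisymm
  · rintro _ ⟨w, hw, rfl⟩
    exact ⟨w, hw, (h1 w hw).symm⟩
  · rintro _ ⟨w, hw, rfl⟩
    exact ⟨w, hw, h1 w hw⟩

/-- all values are taken on the orthogonal space of `W` -/
theorem exists_val [FiniteDimensional K V] {F : CForm K V} (h : IsQuad F) {k : ℕ} {W W₁ : Submodule K V}
    (hW : W ∈ F.Om k) (hW₁ : W₁ ∈ F.Om k) {x y : V} (hx : F.Q x = 0) (hy : F.Q y = 0) (hxy : F.B x y = 1)
    (hxW : ∀ w ∈ W₁, F.B x w = 0) (hyW : ∀ w ∈ W₁, F.B y w = 0) (c : K) :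
    ∃ v : V, F.Q v = c ∧ ∀ w ∈ W, F.B v w = 0 := by
  obtain ⟨g, hg⟩ := F.trans_Om hW₁ hW
  refine ⟨(g : V ≃ₗ[K] V) (x + c • y), ?_, fun w hw => ?_⟩
  · rw [F.iso_Q]
    have h1 := h.B x (c • y)
    rw [F.B_smul_right, h.σ, hxy, mul_one, F.Q_smul, hx, hy, mul_zero, sub_zero, sub_zero] at h1
    exact h1.symm
  · rw [← hg] at hw
    obtain ⟨w', hw', rfl⟩ := hw
    refine (F.iso_B g (x + c • y) w').trans ?_
    rw [F.B_add_left, F.B_smul_left, hxW w' hw', hyW w' hw', mul_zero, add_zero]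

end Cfsg.Agent.H809.D4
end

-- part: H809/D4/Par
section
/-!
# S4832, POmega8+(q): the parameter (helper809)

* `isIrr_of_comp` : a character with an irreducible restriction is irreducible;
* `DOrth.mono`, `DIrr.mono`;
* `exists_par` : the cuspidal parameter of `GL_2(q)`, orthogonal to its dual on the matrices of square determinant.
-/

set_option autoImplicit false

open scoped ComplexConjugate commutatorElement
open Cfsg

namespace Cfsg.Agent.H809.D4

open Cfsg.Agent.H576.Ext Cfsg.Agent.H477.HC Cfsg.Agent.H53.HC Cfsg.Agent.Characters Module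
  Cfsg.Agent.OddOrderCharacters.Clifford

universe u v

theorem eq_zero_of_one {G : Type*} [Group G] {α : G → ℂ} (hα : IsCharacter G α) (h : α 1 = 0) : α = 0 := by
  obtain ⟨n, ρ, rfl⟩ := hα
  have h1 : (n : ℂ) = 0 := by
    have := h
    rw [show ρ.character 1 = (Module.finrank ℂ (Fin n → ℂ) : ℂ) from Representation.char_one ρ] at this
    rwa [Module.finrank_fin_fun] at this
  have h2 : n = 0 := by exact_mod_cast h1
  subst h2
  funext g
  show LinearMap.trace ℂ _ (ρ g) = 0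
  have : ρ g = 0 := Subsingleton.elim _ _
  rw [this, map_zero]

/-- a character whose pullback is irreducible is irreducible -/
theorem isIrr_of_comp {D L : Type*} [Group D] [Finite D] [Group L] [Finite L] (f : L →* D) {α : D → ℂ}
    (hα : IsCharacter D α) (h : IsIrrCharacter L (α ∘ f)) : IsIrrCharacter D α := by
  classical
  let _ : Fintype D := Fintype.ofFinite D
  let _ : Fintype L := Fintype.ofFinite L
  have h1 : α 1 ≠ 0 := by
    have := Core.isIrr_apply_one_ne_zero h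
    rwa [Function.comp_apply, map_one] at this
  obtain ⟨θ, hθ, hθ'⟩ := exists_constituent hα h1
  have ha := isCharacter_sub_irr hα hθ hθ'
  have hc : IsCharacter L (θ ∘ f) := Core.isCharacter_comp f (Core.isIrr_isCharacter hθ)
  have ha' : IsCharacter L ((α - θ) ∘ f) := Core.isCharacter_comp f ha
  have e1 : α ∘ f = θ ∘ f + (α - θ) ∘ f := by ext x; simp
  have h2 := Core.classInner_irr_self h
  rw [e1, Core.classInner_add_left, Core.classInner_add_right, Core.classInner_add_right] at h2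
  obtain ⟨a, ea⟩ := Core.classInner_isNat hc hc
  obtain ⟨b, eb⟩ := Core.classInner_isNat hc ha'
  obtain ⟨c, ec⟩ := Core.classInner_isNat ha' hc
  obtain ⟨d, ed⟩ := Core.classInner_isNat ha' ha'
  rw [ea, eb, ec, ed] at h2
  have h3 : a + b + (c + d) = 1 := by exact_mod_cast h2
  have h4 : a ≠ 0 := by
    rintro rfl
    rw [Nat.cast_zero] at ea
    have h5 := Core.classInner_self_eq_zero ea
    have h6 := congrFun h5 1
    simp only [Function.comp_apply, map_one, Pi.zero_apply] at h6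
    exact Core.isIrr_apply_one_ne_zero hθ h6
  have h5 : d = 0 := by omega
  rw [h5, Nat.cast_zero] at ed
  have h6 := congrFun (Core.classInner_self_eq_zero ed) 1
  simp only [Function.comp_apply, map_one, Pi.zero_apply] at h6
  have h7 := eq_zero_of_one ha h6
  rw [sub_eq_zero] at h7
  rw [h7]
  exact hθ

variable {K : Type u} [Field K] {k : ℕ}

/-- inclusion of the matrix groups -/
theorem DL_mono {D D' : Subgroup Kˣ} (h : D ≤ D') : DL D k ≤ DL D' k := Subgroup.comap_mono h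

variable [Finite K]

theorem DOrth.mono {D D' : Subgroup Kˣ} (h : D ≤ D') {c c' : GL (Fin k) K → ℂ} (hc : IsIrrCharacter _ c)
    (hc' : IsIrrCharacter _ c') (h0 : DOrth D c c') : DOrth D' c c' := by
  classical
  intro inst
  have : Finite (Matrix (Fin k) (Fin k) K) := inferInstance
  have : Finite (GL (Fin k) K) := inferInstance
  let _ : Fintype (DL D k) := Fintype.ofFinite _
  have h1 := classInner_eq_zero_of_comp (Subgroup.inclusion (DL_mono (k := k) h))
    (Core.isCharacter_comp (DL D' k).subtype (Core.isIrr_isCharacter hc))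
    (Core.isCharacter_comp (DL D' k).subtype (Core.isIrr_isCharacter hc')) (by
      rw [Core.classInner_def]
      have : ∑ A : DL D k, ((c ∘ (DL D' k).subtype) ∘ (Subgroup.inclusion (DL_mono (k := k) h))) A *
          conj (((c' ∘ (DL D' k).subtype) ∘ (Subgroup.inclusion (DL_mono (k := k) h))) A) = 0 := h0
      rw [this, mul_zero])
  rw [Core.classInner_def] at h1
  exact (mul_eq_zero.1 h1).resolve_left (inv_ne_zero Core.card_ne_zero_complex)

theorem DIrr.mono {D D' : Subgroup Kˣ} (h : D ≤ D') {c : GL (Fin k) K → ℂ} (hc : IsIrrCharacter _ c)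
    (h0 : DIrr D c) : DIrr D' c := by
  have : Finite (Matrix (Fin k) (Fin k) K) := inferInstance
  have : Finite (GL (Fin k) K) := inferInstance
  exact isIrr_of_comp (Subgroup.inclusion (DL_mono (k := k) h))
    (Core.isCharacter_comp (DL D' k).subtype (Core.isIrr_isCharacter hc)) h0

/-- the dual is irreducible -/
theorem isIrr_dualc (σ : K →+* K) (hσ : ∀ a, σ a = a) {c : GL (Fin k) K → ℂ} (hc : IsIrrCharacter _ c) :
    IsIrrCharacter _ (dualc σ c) := by
  have : Finite (Matrix (Fin k) (Fin k) K) := inferInstance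
  have : Finite (GL (Fin k) K) := inferInstance
  have e : σ = RingHom.id K := RingHom.ext hσ
  subst e
  refine Core.isIrr_comp _ ?_ hc
  intro A
  exact ⟨invT k A, invT_invT A⟩

theorem isIrr_fmap (τ : K ≃+* K) {c : GL (Fin k) K → ℂ} (hc : IsIrrCharacter _ c) :
    IsIrrCharacter _ (fmap (τ : K →+* K) c) := by
  have : Finite (Matrix (Fin k) (Fin k) K) := inferInstance
  have : Finite (GL (Fin k) K) := inferInstance
  refine Core.isIrr_comp _ ?_ hc
  intro A
  refine ⟨Matrix.GeneralLinearGroup.map (τ.symm : K →+* K) A, ?_⟩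
  ext i j
  show τ (τ.symm (A i j)) = A i j
  rw [τ.apply_symm_apply]

/-- **the parameter** -/
theorem exists_par (hq : 4 ≤ Nat.card K) (h5 : Nat.card K ≠ 5) :
    ∃ c : GL (Fin 2) K → ℂ, CusG K 2 (RingHom.id K) c ∧
      DIrr ((powMonoidHom 2 : Kˣ →* Kˣ).range) c ∧
      DOrth ((powMonoidHom 2 : Kˣ →* Kˣ).range) c (dualc (RingHom.id K) c) ∧
      ∀ τ : K ≃+* K, (∃ x, τ x ≠ x) → GenAt K 2 (RingHom.id K) ((powMonoidHom 2 : Kˣ →* Kˣ).range) τ c := by
  classical
  have key : ∃ c : GL (Fin 2) K → ℂ, CusG K 2 (RingHom.id K) c ∧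
      DOrth ((powMonoidHom 2 : Kˣ →* Kˣ).range) c (dualc (RingHom.id K) c) ∧
      ∀ τ : K ≃+* K, (∃ x, τ x ≠ x) → GenAt K 2 (RingHom.id K) ⊥ τ c := by
    rcases Nat.even_or_odd (Nat.card K) with he | ho
    · obtain ⟨c, hc, hgen⟩ := exists_cusG (K := K) rfl 2 le_rfl (by omega) (by omega)
      refine ⟨c, hc, ?_, hgen⟩
      -- the squares are everything
      have htop : (powMonoidHom 2 : Kˣ →* Kˣ).range = ⊤ := by
        rw [MonoidHom.range_eq_top]
        apply Finite.surjective_of_injective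
        rw [injective_iff_map_eq_one]
        intro a ha
        have ha' : a ^ 2 = 1 := ha
        have h1 := orderOf_dvd_of_pow_eq_one ha'
        have h2 : orderOf a ∣ Nat.card Kˣ := orderOf_dvd_natCard a
        rw [Nat.card_units] at h2
        have h3 : ¬ 2 ∣ Nat.card K - 1 := by
          obtain ⟨m, hm⟩ := he
          omega
        rcases (Nat.dvd_prime Nat.prime_two).1 h1 with h | h
        · exact orderOf_eq_one_iff.1 h
        · rw [h] at h2; exact absurd h2 h3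
      rw [htop]
      intro inst
      have : Finite (Matrix (Fin 2) (Fin 2) K) := inferInstance
      have : Finite (GL (Fin 2) K) := inferInstance
      let _ : Fintype (GL (Fin 2) K) := Fintype.ofFinite _
      have h1 := Core.classInner_irr_ne hc.irr (isIrr_dualc (RingHom.id K) (fun _ => rfl) hc.irr)
        (fun h => hc.dual h.symm)
      rw [Core.classInner_def] at h1
      have h2 := (mul_eq_zero.1 h1).resolve_left (inv_ne_zero Core.card_ne_zero_complex)
      rw [← h2]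
      have e : DL (⊤ : Subgroup Kˣ) 2 = ⊤ := Subgroup.comap_top _
      refine Fintype.sum_equiv ((MulEquiv.subgroupCongr e).trans Subgroup.topEquiv).toEquiv _ _ fun A => rfl
    · obtain ⟨c, hc, hgen, h⟩ := exists_cusG_two (K := K) rfl ho (by
        obtain ⟨m, hm⟩ := ho
        omega)
      exact ⟨c, hc, h, hgen⟩
  obtain ⟨c, hc, hdual, hgen⟩ := key
  refine ⟨c, hc, DIrr.mono bot_le hc.irr hc.self, hdual, fun τ hτ => ⟨?_, ?_⟩⟩
  · exact DOrth.mono bot_le hc.irr (isIrr_fmap τ hc.irr) (hgen τ hτ).1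
  · exact DOrth.mono bot_le hc.irr (isIrr_dualc _ (fun _ => rfl) (isIrr_fmap τ hc.irr)) (hgen τ hτ).2

end Cfsg.Agent.H809.D4
end

-- part: H809/D4/Abs
section
/-!
# S4832, POmega8+(q): the Sylow argument (helper809)
-/

set_option autoImplicit false

open scoped ComplexConjugate
open Cfsg

namespace Cfsg.Agent.H809.D4

open Cfsg.Agent.H576.Ext Cfsg.Agent.Characters Subgroup

universe u

variable {S : Type u} [Group S] [Finite S]

omit [Finite S] in
theorem inn_le_stab {θ : S → ℂ} (hθ : IsIrrCharacter S θ) : (MulAut.conj (G := S)).range ≤ stab θ := by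
  rintro _ ⟨x, rfl⟩ s
  exact Core.isIrr_isClassFunction hθ s x

/-- the orbit of the trivial coset -/
theorem relIndex_three {G : Type*} [Group G] {A T : Subgroup G} (hA : A.index = 3) {ρ κ t : G} (hρ : ρ ∉ A)
    (hρ3 : ρ ^ 3 = 1) (hκA : κ ∈ A) (hκT : κ ∈ T) (hκρ : κ * ρ * κ⁻¹ = ρ⁻¹) (ht : t ∈ T) (htA : t ∉ A) :
    A.relIndex T = 3 := by
  classical
  have hcard : Nat.card (G ⧸ A) = 3 := by rw [← index_eq_card, hA]
  have hfin : Finite (G ⧸ A) := Nat.finite_of_card_ne_zero (by rw [hcard]; norm_num)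
  have hstab : MulAction.stabilizer T ((1 : G) : G ⧸ A) = A.subgroupOf T := by
    ext x
    rw [MulAction.mem_stabilizer_iff, mem_subgroupOf]
    show (((x : G) * 1 : G) : G ⧸ A) = _ ↔ _
    rw [mul_one, eq_comm, QuotientGroup.eq, inv_one, one_mul]
  have h1 : A.relIndex T = Nat.card (MulAction.orbit T ((1 : G) : G ⧸ A)) := by
    rw [relIndex, ← hstab, MulAction.index_stabilizer]
    rfl
  -- the cosets
  have hd1 : ((1 : G) : G ⧸ A) ≠ (ρ : G ⧸ A) := by
    intro h
    have := QuotientGroup.eq.1 h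
    rw [inv_one, one_mul] at this
    exact hρ this
  have hd2 : ((1 : G) : G ⧸ A) ≠ ((ρ⁻¹ : G) : G ⧸ A) := by
    intro h
    have := QuotientGroup.eq.1 h
    rw [inv_one, one_mul] at this
    exact hρ (A.inv_mem_iff.1 this)
  have hd3 : (ρ : G ⧸ A) ≠ ((ρ⁻¹ : G) : G ⧸ A) := by
    intro h
    have := QuotientGroup.eq.1 h
    have e : ρ⁻¹ * ρ⁻¹ = ρ := by
      rw [← mul_inv_rev, inv_eq_iff_mul_eq_one, ← hρ3, pow_succ, pow_two]
    rw [e] at this
    exact hρ this
  have hall : ∀ x : G ⧸ A, x = ((1 : G) : G ⧸ A) ∨ x = (ρ : G ⧸ A) ∨ x = ((ρ⁻¹ : G) : G ⧸ A) := by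
    have := Fintype.ofFinite (G ⧸ A)
    have h8 : ({((1 : G) : G ⧸ A), (ρ : G ⧸ A), ((ρ⁻¹ : G) : G ⧸ A)} : Finset (G ⧸ A)) = Finset.univ := by
      apply Finset.eq_univ_of_card
      rw [← Nat.card_eq_fintype_card, hcard, Finset.card_insert_of_notMem, Finset.card_insert_of_notMem,
        Finset.card_singleton]
      · rw [Finset.mem_singleton]; exact hd3
      · rw [Finset.mem_insert, Finset.mem_singleton]; exact not_or.2 ⟨hd1, hd2⟩
    intro x
    have : x ∈ ({((1 : G) : G ⧸ A), (ρ : G ⧸ A), ((ρ⁻¹ : G) : G ⧸ A)} : Finset (G ⧸ A)) := by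
      rw [h8]; exact Finset.mem_univ _
    simpa only [Finset.mem_insert, Finset.mem_singleton] using this
  have hκ1 : (⟨κ, hκT⟩ : T) • (ρ : G ⧸ A) = ((ρ⁻¹ : G) : G ⧸ A) := by
    show ((κ * ρ : G) : G ⧸ A) = _
    have : κ * ρ = ρ⁻¹ * κ := by rw [← hκρ]; group
    rw [this, QuotientGroup.eq, mul_inv_rev, inv_inv, mul_assoc, mul_inv_cancel, mul_one]
    exact A.inv_mem hκA
  have hκ2 : (⟨κ, hκT⟩ : T) • ((ρ⁻¹ : G) : G ⧸ A) = (ρ : G ⧸ A) := by
    show ((κ * ρ⁻¹ : G) : G ⧸ A) = _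
    have : κ * ρ⁻¹ = ρ * κ := by
      have h2 : κ * ρ⁻¹ * κ⁻¹ = ρ := by
        have := congrArg (·⁻¹) hκρ
        simp only [mul_inv_rev, inv_inv] at this
        rw [← mul_assoc] at this
        exact this
      exact mul_inv_eq_iff_eq_mul.1 h2
    rw [this, QuotientGroup.eq, mul_inv_rev, mul_assoc, inv_mul_cancel, mul_one]
    exact A.inv_mem hκA
  have htop : MulAction.orbit T ((1 : G) : G ⧸ A) = Set.univ := by
    rw [Set.eq_univ_iff_forall]
    have m1 : ((1 : G) : G ⧸ A) ∈ MulAction.orbit T ((1 : G) : G ⧸ A) := MulAction.mem_orbit_self _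
    have m2 : (t : G ⧸ A) ∈ MulAction.orbit T ((1 : G) : G ⧸ A) := ⟨⟨t, ht⟩, by
      show ((t * 1 : G) : G ⧸ A) = _
      rw [mul_one]⟩
    have m3 : ∀ (x : G ⧸ A), x ∈ MulAction.orbit T ((1 : G) : G ⧸ A) →
        (⟨κ, hκT⟩ : T) • x ∈ MulAction.orbit T ((1 : G) : G ⧸ A) := fun x hx =>
      MulAction.mem_orbit_of_mem_orbit _ hx
    have ht1 : (t : G ⧸ A) ≠ ((1 : G) : G ⧸ A) := by
      intro h
      have := QuotientGroup.eq.1 h.symm
      rw [inv_one, one_mul] at this
      exact htA this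
    intro x
    rcases hall (t : G ⧸ A) with h | h | h
    · exact absurd h ht1
    · have m4 := m3 _ m2
      rw [h, hκ1] at m4
      rw [h] at m2
      rcases hall x with rfl | rfl | rfl
      · exact m1
      · exact m2
      · exact m4
    · have m4 := m3 _ m2
      rw [h, hκ2] at m4
      rw [h] at m2
      rcases hall x with rfl | rfl | rfl
      · exact m1
      · exact m4
      · exact m2
  rw [h1, htop, ← hcard]
  exact Nat.card_congr (Equiv.Set.univ _)

/-- the Sylow `ℓ`-part, if `T / Inn` has cyclic Sylow `ℓ`-subgroups of order at most `ℓ` -/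
theorem exists_sylow_part {θ : S → ℂ} (hZ : Subgroup.center S = ⊥) (hθ : IsIrrCharacter S θ) {ℓ : ℕ} (hℓ : ℓ.Prime)
    {T : Subgroup (MulAut S)} (hI : (MulAut.conj (G := S)).range ≤ T) (hT : T ≤ stab θ)
    (h : ¬ ℓ ^ 2 ∣ (MulAut.conj (G := S)).range.relIndex T) :
    ∃ P : Subgroup (MulAut S), (MulAut.conj (G := S)).range ≤ P ∧ P ≤ T ∧
      ¬ ℓ ∣ P.relIndex T ∧ ExtTo θ P := by
  classical
  have : Fact ℓ.Prime := ⟨hℓ⟩
  set I := (MulAut.conj (G := S)).range with hIdef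
  have hIn : I.Normal := by
    constructor
    rintro _ ⟨x, rfl⟩ g
    refine ⟨g x, ?_⟩
    ext y
    simp only [_root_.MulAut.conj_apply, _root_.MulAut.mul_apply, _root_.MulAut.inv_apply, _root_.map_mul, _root_.MulEquiv.apply_symm_apply, _root_.map_inv]
  have hn : (I.subgroupOf T).Normal := hIn.subgroupOf T
  let T' := T ⧸ (I.subgroupOf T)
  obtain ⟨R⟩ : Nonempty (Sylow ℓ T') := inferInstance
  let π : T →* T' := QuotientGroup.mk' (I.subgroupOf T)
  have hπ : Function.Surjective π := QuotientGroup.mk'_surjective _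
  let P0 : Subgroup T := ((R : Subgroup T').comap π :)
  have hcardT' : Nat.card T' = I.relIndex T := rfl
  have hR : Nat.card R = 1 ∨ Nat.card R = ℓ := by
    obtain ⟨k, hk⟩ := (IsPGroup.iff_card (p := ℓ)).1 R.isPGroup'
    have h1 : Nat.card R ∣ I.relIndex T := hcardT' ▸ (card_subgroup_dvd_card (R : Subgroup T') :)
    have h2 : k < 2 := by
      by_contra hcon
      apply h
      exact (pow_dvd_pow ℓ (not_lt.1 hcon)).trans (hk ▸ h1)
    rw [hk]
    interval_cases k
    · left; rfl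
    · right; exact pow_one ℓ
  have hcyc : IsCyclic (R : Subgroup T') := by
    rcases hR with h1 | h1
    · have : Subsingleton (R : Subgroup T') := (Nat.card_eq_one_iff_unique.1 h1).1
      infer_instance
    · exact isCyclic_of_prime_card h1
  have hle : I ≤ P0.map T.subtype := by
    intro x hx
    refine ⟨⟨x, hI hx⟩, ?_, rfl⟩
    show π ⟨x, hI hx⟩ ∈ (R : Subgroup T')
    have : π ⟨x, hI hx⟩ = 1 := (QuotientGroup.eq_one_iff _).2 hx
    rw [this]
    exact one_mem _
  refine ⟨P0.map T.subtype, hle, ?_, ?_, ?_⟩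
  · rintro _ ⟨x, -, rfl⟩
    exact x.2
  · have h1 : (P0.map T.subtype).relIndex T = (R : Subgroup T').index := by
      have h2 : (P0.map T.subtype).subgroupOf T = P0 := by
        rw [subgroupOf, comap_map_eq_self_of_injective T.subtype_injective]
      rw [relIndex, h2]
      exact index_comap_of_surjective _ hπ
    rw [h1]
    exact R.not_dvd_index
  · apply extTo_of_cyc hZ hθ hle
    · rintro _ ⟨x, -, rfl⟩
      exact hT x.2
    obtain ⟨r, hr⟩ := hcyc.exists_generator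
    obtain ⟨γ, hγ⟩ := hπ r.1
    refine ⟨γ.1, ⟨γ, ?_, rfl⟩, ?_⟩
    · show π γ ∈ (R : Subgroup T')
      rw [hγ]
      exact r.2
    · rintro _ ⟨α, hα, rfl⟩
      obtain ⟨k, hk⟩ := mem_zpowers_iff.1 (hr ⟨π α, hα⟩)
      have hk' : r.1 ^ k = π α := congrArg Subtype.val hk
      have h3 : π (α * (γ ^ k)⁻¹) = 1 := by
        rw [map_mul, map_inv, map_zpow, hγ, hk', mul_inv_cancel]
      have h4 : (α * (γ ^ k)⁻¹ : T) ∈ I.subgroupOf T := (QuotientGroup.eq_one_iff _).1 h3
      obtain ⟨s, hs⟩ := h4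
      refine ⟨k, s, ?_⟩
      rw [hs]
      show (α : MulAut S) = ((α * (γ ^ k)⁻¹ : T) : MulAut S) * (γ : MulAut S) ^ k
      rw [coe_mul, coe_inv, coe_zpow, inv_mul_cancel_right]

theorem ext_index_three (hZ : Subgroup.center S = ⊥) {θ : S → ℂ} (hθ : IsIrrCharacter S θ)
    (A : Subgroup (MulAut S)) (hA : A.index = 3) (hI : (MulAut.conj (G := S)).range ≤ A)
    (hext : ExtTo θ (A ⊓ stab θ)) (h3 : ¬ 3 ∣ (MulAut.conj (G := S)).range.relIndex (A ⊓ stab θ))
    {ρ κ : MulAut S} (hρ : ρ ∉ A) (hρ3 : ρ ^ 3 = 1) (hκA : κ ∈ A) (hκθ : κ ∈ stab θ)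
    (hκρ : κ * ρ * κ⁻¹ = ρ⁻¹) : ExtTo θ (stab θ) := by
  by_cases hle : stab θ ≤ A
  · rwa [inf_eq_right.2 hle] at hext
  obtain ⟨t, ht, htA⟩ := SetLike.not_le_iff_exists.1 hle
  have h1 := relIndex_three hA hρ hρ3 hκA hκθ hκρ ht htA
  have hIs := inn_le_stab hθ
  apply extTo_of_sylow hZ hθ hIs le_rfl
  intro ℓ hℓ
  by_cases h : ℓ = 3
  · subst h
    apply exists_sylow_part hZ hθ hℓ hIs le_rfl
    have h4 := relIndex_mul_relIndex _ _ _ (le_inf hI hIs) (inf_le_right : A ⊓ stab θ ≤ stab θ)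
    rw [inf_relIndex_right, h1] at h4
    rw [← h4]
    intro hd
    apply h3
    have : 3 * 3 ∣ 3 * (MulAut.conj (G := S)).range.relIndex (A ⊓ stab θ) := by
      rw [mul_comm 3 (relIndex _ _), ← pow_two]
      exact hd
    exact Nat.dvd_of_mul_dvd_mul_left (by norm_num) this
  · refine ⟨A ⊓ stab θ, le_inf hI hIs, inf_le_right, ?_, hext⟩
    rw [inf_relIndex_right, h1]
    intro hd
    exact h ((Nat.prime_dvd_prime_iff_eq hℓ Nat.prime_three).1 hd)

end Cfsg.Agent.H809.D4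
end

-- part: H809/D4/Gen
section
/-!
# S4832, POmega8+(q), q ≥ 4, q ≠ 5: the generic character (helper809)
-/

set_option autoImplicit false

open scoped ComplexConjugate commutatorElement
open Cfsg

namespace Cfsg.Agent.H809.D4

open Cfsg.Agent.H576.Ext Cfsg.Agent.H477.HC Cfsg.Agent.H477.HC.CForm Cfsg.Agent.H53.HC Cfsg.Agent.Characters Module
  QuadraticMap Cfsg.Agent.LieClassical.OrthCore Cfsg.Agent.LieClassical.OrthTrans
  Cfsg.Agent.LieClassical.OrthSimple Cfsg.Agent.ClassicalGeometry.OrthSemi Cfsg.Agent.ClassicalGeometry.OrthAut1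
  Cfsg.Agent.H624.ExtO Cfsg.Agent.H989.OutOrth.Basic

universe u v

variable {K : Type u} [Field K] {V : Type v} [AddCommGroup V] [Module K V] {F : CForm K V}

/-- the automorphism induced by an isometry fixes `θ` if `θ` is the restriction of a class function -/
theorem psi_ofO_mem_stab (h : IsQuad F) (hG : Good (quadOf F h)) {θ : P (quadOf F h) → ℂ} {χ : F.iso → ℂ}
    (hχ : IsClassFunction F.iso χ) (hθχ : ∀ n : commutator F.iso, θ (qE h hG n) = χ n) (r : O (quadOf F h)) :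
    Psi (quadOf F h) (ofO (quadOf F h) r) ∈ _root_.Cfsg.Agent.H576.Ext.stab θ := by
  intro s
  obtain ⟨n, rfl⟩ := qE_surjective h hG s
  have hr : (r : V ≃ₗ[K] V) ∈ F.iso := by rw [iso_eq h]; exact r.2
  let r' : F.iso := ⟨r, hr⟩
  let n' : commutator F.iso := ⟨r' * n * r'⁻¹, (inferInstance : (commutator F.iso).Normal).conj_mem _ n.2 r'⟩
  have e1 : Psi (quadOf F h) (ofO (quadOf F h) r) (qE h hG n) = qE h hG n' := by
    ((conv => enter [@2, @6]; rw [qE_apply]); (conv => enter [@3]; rw [qE_apply]); (conv => enter [@2]; rw [Psi_mk]))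
    rfl
  rw [e1, hθχ, hθχ]
  exact hχ n r'

/-- the automorphisms of `A` fixing `θ` are induced by similitudes -/
theorem sg_eq_one [Finite K] [FiniteDimensional K V] [Finite V] (h : IsQuad F) (hG : Good (quadOf F h)) [Fintype (F.Om 2)]
    [Fintype (commutator F.iso)]
    {c : GL (Fin 2) K → ℂ} (hc : CusG K 2 (RingHom.id K) c) {D : Subgroup Kˣ}
    (hN : HasRoots F (commutator F.iso)) (hD : HasLevi F (commutator F.iso) D 2)
    (hgen : ∀ τ : K ≃+* K, (∃ x, τ x ≠ x) → GenAt K 2 (RingHom.id K) D τ c) {θ : P (quadOf F h) → ℂ}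
    (hθ : IsIrrCharacter _ θ)
    (h0 : classInner (fun n : commutator F.iso => F.hc c (fun _ _ => 1) n) (fun n => θ (qE h hG n)) ≠ 0)
    {M : Gam (quadOf F h)} (hM : Psi (quadOf F h) M ∈ _root_.Cfsg.Agent.H576.Ext.stab θ) : sg hG M = 1 := by
  have hfi := finite_iso F
  obtain ⟨M, τ, lam, hS⟩ := M
  have hsg := sg_eq hG (M := ⟨M, τ, lam, hS⟩) hS
  rw [hsg]
  by_contra hne
  have hτ : ∃ x, τ x ≠ x := by
    by_contra hcon
    push Not at hcon
    exact hne (RingEquiv.ext hcon)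
  have hσ : F.σ = RingHom.id K := RingHom.ext h.σ
  obtain ⟨g1, g2⟩ := hgen τ hτ
  let γ : V ≃+ V := { M with map_add' := hS.add }
  let s : Semi F := ⟨τ, lam, hS.ne, γ, hS.smul, fun v w => by
    rw [← polar_quadOf h, ← polar_quadOf h]
    exact hS.polar v w, hS.form⟩
  -- the automorphism of `N`
  choose α hα using fun n : commutator F.iso => semi_comm s n
  have hα1 : ∀ n, ((α n : commutator F.iso) : F.iso) = s.conj n := fun n => s.eq_conj (hα n)
  let αe : commutator F.iso →* commutator F.iso :=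
    { toFun := α
      map_one' := Subtype.ext (by rw [hα1]; exact map_one _)
      map_mul' := fun x y => Subtype.ext (by rw [hα1, Subgroup.coe_mul, Subgroup.coe_mul, hα1, hα1, map_mul]) }
  have hinj : Function.Injective αe := by
    intro x y hxy
    have hxy' : α x = α y := hxy
    apply Subtype.ext
    apply Subtype.ext
    ext v
    have h1 := hα x v
    have h2 := hα y v
    rw [hxy'] at h1
    exact s.γ.injective (h1.symm.trans h2)
  let αE : commutator F.iso ≃* commutator F.iso :=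
    MulEquiv.ofBijective αe (Finite.injective_iff_bijective.1 hinj)
  refine eq_one_of_fix F le_rfl hN hD hc.irr hc.cusp τ g1 (by rw [hσ]; exact g2)
    (θ := fun n => θ (qE h hG n)) (Core.isIrr_comp (qE h hG) (qE_surjective h hG) hθ) h0 γ hS.smul
    (fun v w => ?_) (fun v => ?_) αE (fun n v => hα n v) (fun n => ?_)
  · have h1 := s.hB v w
    constructor
    · intro h2
      rw [show F.B (γ v) (γ w) = lam * τ (F.B v w) from h1] at h2
      exact (map_eq_zero τ).1 ((mul_eq_zero.1 h2).resolve_left hS.ne)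
    · intro h2
      rw [show F.B (γ v) (γ w) = lam * τ (F.B v w) from h1, h2, map_zero, mul_zero]
  · have h1 := s.hQ v
    constructor
    · intro h2
      rw [show F.Q (γ v) = lam * τ (F.Q v) from h1] at h2
      exact (map_eq_zero τ).1 ((mul_eq_zero.1 h2).resolve_left hS.ne)
    · intro h2
      rw [show F.Q (γ v) = lam * τ (F.Q v) from h1, h2, map_zero, mul_zero]
  · rw [← hM (qE h hG n)]
    congr 1
    show qE h hG (α n) = _
    ((conv => enter [@2]; rw [qE_apply]); (conv => enter [@3, @6]; rw [qE_apply]); (conv => enter [@3]; rw [Psi_mk]))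
    congr 1
    apply Subtype.ext
    rw [coe_conjE]
    ext v
    obtain ⟨w, rfl⟩ := M.surjective v
    rw [toE_apply]
    exact (hα n w).trans (conjLin_apply' (Q := quadOf F h) ⟨M, τ, lam, hS⟩ (toE h hG n).1 w).symm

/-- the index of the inner automorphisms in a group of automorphisms induced by similitudes -/
theorem relIndex_dvd [Finite V] {Q : QuadraticForm K V} (hG : Good Q) {B : Subgroup (MulAut (P Q))}
    (hB : ∀ α ∈ B, ∃ M : Gam Q, Psi Q M = α ∧ sg hG M = 1) :
    (MulAut.conj (G := P Q)).range.relIndex B ∣ Nat.card (D hG) := by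
  have hfinE : Finite (V ≃ₗ[K] V) := Finite.of_injective (fun g => g.toEquiv)
    fun g h e => LinearEquiv.toEquiv_injective e
  have hfin : Finite (P Q) := inferInstance
  have hfin2 : Finite (MulAut (P Q)) := inferInstance
  let f : B →* Cfsg.Out (P Q) := (QuotientGroup.mk' (Cfsg.Inn (P Q))).comp B.subtype
  have h1 : (MulAut.conj (G := P Q)).range.relIndex B = Nat.card f.range := by
    rw [Subgroup.relIndex, ← Subgroup.index_ker]
    congr 1
    rw [← MonoidHom.comap_ker, QuotientGroup.ker_mk']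
    rfl
  rw [h1]
  apply Subgroup.card_dvd_of_le
  rintro _ ⟨⟨α, hα⟩, rfl⟩
  obtain ⟨M, rfl, hM⟩ := hB α hα
  exact mem_D.2 ⟨M, hM, rfl⟩

/-- the facts on triality -/
structure Tri {V : Type v} [AddCommGroup V] [Module K V] (Q : QuadraticForm K V) (hG : Good Q) : Prop where
  index : (Psi Q).range.index = 3
  rho : ∃ (ρ : MulAut (P Q)) (r : O Q), ρ ∉ (Psi Q).range ∧ ρ ^ 3 = 1 ∧
    Psi Q (ofO Q r) * ρ * (Psi Q (ofO Q r))⁻¹ = ρ⁻¹
  card : ¬ 3 ∣ Nat.card (D hG)

theorem tri_four [Finite K] (hG : Good (Cfsg.Agent.LieClassical.QuadForms.plusForm 4 K)) : Tri _ hG := by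
  have := Fintype.ofFinite K
  refine ⟨?_, ?_, ?_⟩
  · have h2 := Cfsg.Agent.AutOrth.Final.index_plus_four (F := K)
    rw [Cfsg.Agent.AutOrth.Main.plusForm_eq] at h2
    exact h2
  · obtain ⟨ρ, hρ⟩ := Cfsg.Agent.H989.OutOrth.Tri.exists_rho hG
    refine ⟨ρ, ⟨_, Cfsg.Agent.ClassicalGeometry.Triality.kap_mem⟩, hρ.not_mem_range hG, hρ.cube hG, ?_⟩
    have h1 := hρ.kap_inv hG
    have h2 : (Psi _ (Cfsg.Agent.H989.OutOrth.Tri.kapG K))⁻¹ = Psi _ (Cfsg.Agent.H989.OutOrth.Tri.kapG K) := by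
      simp only [inv_eq_iff_mul_eq_one, ← map_mul, Cfsg.Agent.H989.OutOrth.Tri.kapG_mul_kapG, map_one]
    show Psi _ (Cfsg.Agent.H989.OutOrth.Tri.kapG K) * ρ * (Psi _ (Cfsg.Agent.H989.OutOrth.Tri.kapG K))⁻¹ = ρ⁻¹
    simp only [h2]
    exact h1
  · obtain ⟨p, hp⟩ := CharP.exists K
    have hpp : p.Prime := CharP.char_is_prime K p
    have : Fact p.Prime := ⟨hpp⟩
    obtain ⟨f, hf⟩ := FiniteField.card K p
    have hcard := Cfsg.Agent.H989.OutOrth.Four.card_Psi (F := K) f.pos hf.2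
    have hD := Cfsg.Agent.H989.OutOrth.Forms.card_D_eq f.pos hf.2 hG (Cfsg.Agent.H989.OutOrth.Four.sg_surj4 hG) hcard
    rw [hD]
    split_ifs <;> norm_num

end Cfsg.Agent.H809.D4
end

-- part: H809/D4/GenMain
section
/-!
# S4832, POmega8+(q), q ≥ 4, q ≠ 5 (helper809)
-/

set_option autoImplicit false

open scoped ComplexConjugate commutatorElement
open Cfsg

namespace Cfsg.Agent.H809.D4

open Cfsg.Agent.H576.Ext Cfsg.Agent.H477.HC Cfsg.Agent.H477.HC.CForm Cfsg.Agent.H53.HC Cfsg.Agent.Characters Module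
  QuadraticMap Cfsg.Agent.LieClassical.OrthCore Cfsg.Agent.LieClassical.OrthTrans
  Cfsg.Agent.LieClassical.OrthSimple Cfsg.Agent.ClassicalGeometry.OrthSemi Cfsg.Agent.ClassicalGeometry.OrthAut1
  Cfsg.Agent.H624.ExtO Cfsg.Agent.H989.OutOrth.Basic

universe u v

/-- **the generic character**, `k = 2` -/
theorem exists_gen {K : Type u} [Field K] [Finite K] {V : Type v} [AddCommGroup V] [Module K V]
    [FiniteDimensional K V] [Finite V] {F : CForm K V} (h : IsQuad F) (hG : Good (quadOf F h))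
    (hT : Tri (quadOf F h) hG) (hq : 4 ≤ Nat.card K) (h5 : Nat.card K ≠ 5)
    {W₀ : Submodule K V} (hW₀ : W₀ ∈ F.Om 2)
    (hval : ∀ c : K, c ≠ 0 → ∃ v : V, F.Q v = c ∧ ∀ w ∈ W₀, F.B v w = 0) :
    ∃ θ : P (quadOf F h) → ℂ, IsIrrCharacter _ θ ∧ θ 1 = dg F 2 ∧ ExtTo θ (_root_.Cfsg.Agent.H576.Ext.stab θ) := by
  classical
  have hfi := finite_iso F
  have hfo := finite_Om F 2
  let _ := Fintype.ofFinite (F.Om 2)
  let _ := Fintype.ofFinite F.iso
  let _ := Fintype.ofFinite (commutator F.iso)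
  have hfE : Finite ↥(E (quadOf F h)) := Finite.of_surjective _ (toE_surjective h hG)
  have hfP : Finite (P (quadOf F h)) := inferInstance
  have hσ : F.σ = RingHom.id K := RingHom.ext h.σ
  obtain ⟨c, hc, hself, hopp, hgen⟩ := exists_par (K := K) hq h5
  have hN : HasRoots F (commutator F.iso) := hasRoots_of_comm F le_rfl (by
    have := Fintype.ofFinite K
    rw [Nat.card_eq_fintype_card] at hq
    by_contra hcon
    push Not at hcon
    have h1 : (Finset.univ : Finset K) ⊆ {0, 1} := by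
      intro t _
      by_cases h0 : t = 0
      · simp only [h0, _root_.Finset.mem_insert, _root_.Finset.mem_singleton, _root_.zero_ne_one, _root_.or_false]
      · simp only [hcon t h0, _root_.Finset.mem_insert, _root_.one_ne_zero, _root_.Finset.mem_singleton, _root_.or_true]
    have h2 := Finset.card_le_card h1
    rw [Finset.card_univ] at h2
    have h4 := Finset.card_le_two (a := (0 : K)) (b := 1)
    omega)
  have hD := hasLevi_sq h.σ le_rfl hN
  have hcl := Core.isIrr_isClassFunction hc.irr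
  have hc' : CusG K 2 F.σ c := by rw [hσ]; exact hc
  obtain ⟨θ, e, hθ, he, he1, he2, he0, h0⟩ := exists_below (qE h hG) (qE_surjective h hG)
    (fun n hn => (qE_ker h hG n).1 hn) (by norm_num) hW₀ hc'
  have hχ := F.isIrr_hc_one hc.irr hc.cusp hc'.dual hW₀
  have hopp' : DOrth ((powMonoidHom 2 : Kˣ →* Kˣ).range) c (c ∘ F.iota 2) := by
    have : c ∘ F.iota 2 = dualc (RingHom.id K) c := by rw [← hσ]; rfl
    rw [this]
    exact @hopp
  have hirr := isIrr_hc_sub F le_rfl hN hD hc.irr hc.cusp hself (@hopp') hW₀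
    fun W hW => trans_comm h hG hW₀ hW hval
  -- `θ ∘ q` is the restriction of `hc`
  have hθq : IsIrrCharacter (commutator F.iso) (fun n => θ (qE h hG n)) :=
    Core.isIrr_comp (qE h hG) (qE_surjective h hG) hθ
  have heq : (fun n : commutator F.iso => F.hc c (fun _ _ => 1) n) = fun n => θ (qE h hG n) := by
    by_contra hne
    exact h0 (Core.classInner_irr_ne hirr hθq hne)
  have hθχ : ∀ n : commutator F.iso, θ (qE h hG n) = F.hc c (fun _ _ => 1) n := fun n => (congrFun heq n).symm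
  have hχ1 : F.hc c (fun _ _ => 1) 1 = (dg F 2 : ℂ) := by
    rw [F.hc_one hcl (fun _ _ => 1) (d := 1) (fun _ _ => rfl), hc.deg, mul_one]
    unfold dg
    rw [Nat.cast_mul]
  have hZ := center_P h hG
  refine ⟨θ, hθ, ?_, ?_⟩
  · rw [← hχ1, ← map_one (qE h hG), hθχ]
    rfl
  obtain ⟨ρ, r, hρ, hρ3, hκρ⟩ := hT.rho
  have hI : (MulAut.conj (G := P (quadOf F h))).range ≤ (Psi (quadOf F h)).range := Inn_le_range
  refine ext_index_three hZ hθ (Psi (quadOf F h)).range hT.index hI ?_ ?_ hρ hρ3 ⟨_, rfl⟩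
    (psi_ofO_mem_stab h hG (Core.isIrr_isClassFunction hχ) hθχ r) hκρ
  · refine ext_hc_sub F le_rfl (hNn h hG) hN hD hc.irr hc.cusp hc'.dual hself (by rw [hσ]; exact @hopp)
      (fun τ hτ => by rw [hσ]; exact hgen τ hτ) hc'.nu hZ (qE h hG) (qE_surjective h hG) (qE_ker h hG)
      (Psi (quadOf F h)).range hI (fun α hα => aut_of_range h hG hα) hθ ?_
    exact h0
  · intro h3
    refine hT.card (h3.trans (relIndex_dvd hG ?_))
    rintro α ⟨⟨M, rfl⟩, hα⟩
    exact ⟨M, rfl, sg_eq_one h hG hc hN hD hgen hθ h0 hα⟩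

end Cfsg.Agent.H809.D4
end

-- part: H809/D4/RowGen
section
/-!
# S4832, POmega8+(q): the rows q ≥ 4, q ≠ 5, and q = 2 (helper809)
-/

set_option autoImplicit false

open scoped ComplexConjugate commutatorElement
open Cfsg

namespace Cfsg.Agent.H809.D4

open Cfsg.Agent.H576.Ext Cfsg.Agent.H477.HC Cfsg.Agent.H477.HC.CForm Cfsg.Agent.H53.HC Cfsg.Agent.Characters Module
  QuadraticMap Cfsg.Agent.LieClassical.OrthCore Cfsg.Agent.LieClassical.OrthTrans
  Cfsg.Agent.LieClassical.OrthSimple Cfsg.Agent.ClassicalGeometry.OrthSemi Cfsg.Agent.ClassicalGeometry.OrthAut1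
  Cfsg.Agent.H624.ExtO Cfsg.Agent.H989.OutOrth.Basic

universe u v

section

variable (K : Type u) [Field K]

theorem isQuad_plus (m : ℕ) : IsQuad (CForm.plusF K m) := ⟨fun _ => rfl, plus_hB K m⟩

theorem quadOf_plus (m : ℕ) :
    quadOf (CForm.plusF K m) (isQuad_plus K m) = Cfsg.Agent.LieClassical.QuadForms.plusForm m K := by
  rw [← Cfsg.Agent.AutOrth.Main.plusForm_eq]
  apply DFunLike.coe_injective
  rw [LieClassical.OrthForms.coe_plusForm]
  rfl

variable [Finite K]

theorem good_plusF {m : ℕ} (hm : 3 ≤ m) : Good (quadOf (CForm.plusF K m) (isQuad_plus K m)) := by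
  have := Fintype.ofFinite K
  rw [quadOf_plus, ← Cfsg.Agent.AutOrth.Main.plusForm_eq]
  exact Cfsg.Agent.ClassicalGeometry.OrthSemiForms.good_plus hm

omit [Finite K] in
/-- transport of a statement on `plusForm 4` -/
theorem transport {p : ∀ Q : QuadraticForm K (Fin 4 ⊕ Fin 4 → K), Good Q → Prop}
    (h : ∀ hG, p (Cfsg.Agent.LieClassical.QuadForms.plusForm 4 K) hG) (hG) :
    p (quadOf (CForm.plusF K 4) (isQuad_plus K 4)) hG := by
  have key : ∀ Q : QuadraticForm K (Fin 4 ⊕ Fin 4 → K), Q = Cfsg.Agent.LieClassical.QuadForms.plusForm 4 K →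
      ∀ hG : Good Q, p Q hG := by
    rintro Q rfl hG
    exact h hG
  exact key _ (quadOf_plus K 4) hG

theorem pomega_equiv : Nonempty (POmega K (quadFormPlus 4 K) ≃* P (quadOf (CForm.plusF K 4) (isQuad_plus K 4))) :=
  ⟨(Cfsg.Agent.ClassicalGeometry.OrthSemiForms.pomegaEquiv (Q := quadOf (CForm.plusF K 4) (isQuad_plus K 4))
    (good_plusF K (by norm_num)) :)⟩

theorem hasExt_pomega {r : ℕ} (h : HasExt r (P (quadOf (CForm.plusF K 4) (isQuad_plus K 4)))) :
    HasExt r (POmega K (quadFormPlus 4 K)) := by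
  have hfi := finite_iso (CForm.plusF K 4)
  have hfE : Finite ↥(E (quadOf (CForm.plusF K 4) (isQuad_plus K 4))) :=
    Finite.of_surjective _ (toE_surjective _ (good_plusF K (by norm_num)))
  obtain ⟨e⟩ := pomega_equiv K
  have : Finite (POmega K (quadFormPlus 4 K)) := Finite.of_equiv _ e.toEquiv.symm
  exact HasExt.of_equiv e h

/-- the degree -/
theorem dvd_dg {p : ℕ} [Fact p.Prime] [CharP K p] :
    ∃ e, (Nat.card K ^ 2 + 1) * (Nat.card K ^ 2 + 1) * (Nat.card K ^ 6 - 1) ∣ p ^ e * dg (CForm.plusF K 4) 2 := by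
  refine key_div (by norm_num) ?_
  obtain ⟨e, he⟩ := plus_dvd K (p := p) (k := 2) (n := 2) (by norm_num) (by norm_num)
  refine ⟨e, (dvd_of_eq ?_).trans he⟩
  have h1 : Nat.card K ^ (2 + 2) - 1 = (Nat.card K ^ 2 + 1) * (Nat.card K ^ 2 - 1) := sq_sub _ 2
  have h2 : ∏ i ∈ Finset.Ico 2 (2 + 2 - 1), (Nat.card K ^ (2 * (i + 1)) - 1) = Nat.card K ^ 6 - 1 := by
    rw [show (2 + 2 - 1) = 2 + 1 from rfl, Finset.prod_Ico_succ_top (le_refl 2), Finset.Ico_self, Finset.prod_empty,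
      one_mul]
  rw [h1, h2]
  ring

/-- the prime divisors of the order, other than the characteristic -/
theorem dvd_key {r : ℕ} (hr : r.Prime) (hrq : ¬ r ∣ Nat.card K)
    (hd : r ∣ Nat.card (POmega K (quadFormPlus 4 K))) :
    r ∣ (Nat.card K ^ 2 + 1) * (Nat.card K ^ 2 + 1) * (Nat.card K ^ 6 - 1) := by
  have hq1 : 1 ≤ Nat.card K := Nat.card_pos
  have h6 : r ∣ Nat.card K ^ 2 - 1 → r ∣ Nat.card K ^ 6 - 1 := by
    intro h
    have := Nat.sub_dvd_pow_sub_pow (Nat.card K ^ 2) 1 3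
    rw [one_pow, ← pow_mul] at this
    exact h.trans this
  have h4 : r ∣ Nat.card K ^ 4 - 1 → r ∣ (Nat.card K ^ 2 + 1) * (Nat.card K ^ 2 + 1) * (Nat.card K ^ 6 - 1) := by
    intro h
    have h1 : Nat.card K ^ 4 - 1 = (Nat.card K ^ 2 + 1) * (Nat.card K ^ 2 - 1) := sq_sub _ 2
    rw [h1] at h
    rcases hr.dvd_mul.1 h with h | h
    · exact Dvd.dvd.mul_right (Dvd.dvd.mul_right h _) _
    · exact Dvd.dvd.mul_left (h6 h) _
  by_cases h2r : r = 2
  · -- `q` is odd
    subst h2r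
    have ho : Odd (Nat.card K) := by
      rw [← Nat.not_even_iff_odd, even_iff_two_dvd]
      exact hrq
    exact h4 (Nat.Odd.sub_odd (ho.pow) odd_one).two_dvd
  have hd1 : r ∣ Nat.card (isometryGroup K (quadFormPlus 4 K)) :=
    hd.trans ((Subgroup.card_quotient_dvd_card _).trans (Subgroup.card_subgroup_dvd_card _))
  have hd2 : r ∣ Nat.card (CForm.plusF K 4).iso := by
    rwa [← Nat.card_congr (isoQuad (CForm.plusF K 4) (plus_hB K 4)).toEquiv]
  rw [card_plusF K (by omega)] at hd2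
  rcases hr.dvd_mul.1 hd2 with h | h
  · rcases hr.dvd_mul.1 h with h | h
    · rcases hr.dvd_mul.1 h with h | h
      · exact absurd ((Nat.prime_dvd_prime_iff_eq hr Nat.prime_two).1 h) h2r
      · exact absurd (hr.dvd_of_dvd_pow h) hrq
    · exact h4 h
  · have h' : r ∣ (Nat.card K ^ 2 - 1) * (Nat.card K ^ 4 - 1) * (Nat.card K ^ 6 - 1) := by
      have : ∏ i ∈ Finset.range (4 - 1), (Nat.card K ^ (2 * (i + 1)) - 1) =
          (Nat.card K ^ 2 - 1) * (Nat.card K ^ 4 - 1) * (Nat.card K ^ 6 - 1) := by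
        rw [show (4 - 1) = 3 from rfl, Finset.prod_range_succ, Finset.prod_range_succ, Finset.prod_range_one]
      rwa [this] at h
    rcases hr.dvd_mul.1 h' with h | h
    · rcases hr.dvd_mul.1 h with h | h
      · exact Dvd.dvd.mul_left (h6 h) _
      · exact h4 h
    · exact Dvd.dvd.mul_left h _

/-- every prime divisor of the order, not the characteristic, divides the degree -/
theorem dvd_dg_of {p : ℕ} [Fact p.Prime] [CharP K p] {r : ℕ} (hr : r.Prime) (hrp : r ≠ p)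
    (hrq : ¬ r ∣ Nat.card K)
    (hd : r ∣ Nat.card (POmega K (quadFormPlus 4 K))) : r ∣ dg (CForm.plusF K 4) 2 := by
  have hp : p.Prime := Fact.out
  obtain ⟨e, he⟩ := dvd_dg K (p := p)
  have := prime_pow_dvd (t := 1) hr hp hrp (by rw [pow_one]; exact (dvd_key K hr hrq hd).trans he)
  rwa [pow_one] at this

/-- **the rows `q ≥ 4`, `q ≠ 5`** -/
theorem row_gen (hq : 4 ≤ Nat.card K) (h5 : Nat.card K ≠ 5) {r : ℕ} (hr : r.Prime) (hrq : ¬ r ∣ Nat.card K)
    (hd : r ∣ Nat.card (POmega K (quadFormPlus 4 K))) : HasExt r (POmega K (quadFormPlus 4 K)) := by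
  have := Fintype.ofFinite K
  obtain ⟨p, hp⟩ := CharP.exists K
  have hpp : p.Prime := CharP.char_is_prime K p
  have : Fact p.Prime := ⟨hpp⟩
  have hrp : r ≠ p := by
    rintro rfl
    obtain ⟨s, hs⟩ := card_pow K r
    apply hrq
    rw [hs]
    apply dvd_pow_self
    rintro rfl
    rw [pow_zero] at hs
    omega
  have hG := good_plusF K (m := 4) (by norm_num)
  obtain ⟨e, f, j, hfr⟩ := frm_plus (K := K) (k := 2) (n := 2) (m := 4) rfl
  obtain ⟨e', f', j', hfr'⟩ := frm_plus (K := K) (k := 1) (n := 1) (m := 2) rfl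
  have hW₀ := (CForm.plusF K 4).frame_mem_Om hfr.hee hfr.hef hfr.hQe
  have hperp : ∀ x, ∀ w ∈ Submodule.span K (Set.range e), (CForm.plusF K 4).B (j x) w = 0 := by
    intro x w hw
    obtain ⟨g, rfl⟩ := (Submodule.mem_span_range_iff_exists_fun K).1 hw
    rw [B_sum_right]
    exact Finset.sum_eq_zero fun i _ => by rw [hfr.hje, mul_zero]
  obtain ⟨θ, hθ, hθ1, hext⟩ := exists_gen (isQuad_plus K 4) hG (transport K (fun hG => tri_four hG) hG) hq h5 hW₀
    (fun c _ => exists_val (isQuad_plus K 4) hW₀ hW₀ (x := j (e' 0)) (y := j (f' 0))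
      (by rw [hfr.hjQ]; exact hfr'.hQe 0) (by rw [hfr.hjQ]; exact hfr'.hQf 0)
      (by rw [hfr.hjB, hfr'.hef, if_pos rfl]) (hperp _) (hperp _) c)
  refine hasExt_pomega K ⟨θ, hθ, ?_, hext⟩
  rw [H670.PSing.charDegree_eq_of hθ1]
  exact dvd_dg_of K hr hrp hrq hd

end

end Cfsg.Agent.H809.D4
end

-- part: H809/D4/Small
section
/-!
# S4832, POmega8+(q): the rows q = 2, 3, 5 (helper809)
-/

set_option autoImplicit false

open scoped ComplexConjugate commutatorElement
open Cfsg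

namespace Cfsg.Agent.H809.D4

open Cfsg.Agent.H576.Ext Cfsg.Agent.H477.HC Cfsg.Agent.H477.HC.CForm Cfsg.Agent.H53.HC Cfsg.Agent.Characters Module
  QuadraticMap Cfsg.Agent.LieClassical.OrthCore Cfsg.Agent.LieClassical.OrthTrans
  Cfsg.Agent.LieClassical.OrthSimple Cfsg.Agent.ClassicalGeometry.OrthSemi Cfsg.Agent.ClassicalGeometry.OrthAut1
  Cfsg.Agent.H624.ExtO Cfsg.Agent.H989.OutOrth.Basic

universe u v

/-- characters fixed by the subgroup of index three -/
theorem ext_of_le {S : Type u} [Group S] [Finite S] (hZ : Subgroup.center S = ⊥) {θ : S → ℂ}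
    (hθ : IsIrrCharacter S θ) (A : Subgroup (MulAut S)) (hA : A.index = 3)
    (hext : ExtTo θ A) (hI : (MulAut.conj (G := S)).range ≤ A) (hle : A ≤ _root_.Cfsg.Agent.H576.Ext.stab θ)
    (h9 : ¬ 3 ^ 2 ∣ Nat.card (Cfsg.Out S)) : ExtTo θ (_root_.Cfsg.Agent.H576.Ext.stab θ) := by
  have hIs := hI.trans hle
  apply extTo_of_sylow hZ hθ hIs le_rfl
  intro ℓ hℓ
  by_cases h : ℓ = 3
  · subst h
    apply exists_sylow_part hZ hθ hℓ hIs le_rfl
    intro hd
    apply h9
    have h1 := Subgroup.relIndex_mul_index hIs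
    have h2 : (MulAut.conj (G := S)).range.index = Nat.card (Cfsg.Out S) := rfl
    rw [← h2, ← h1]
    exact Dvd.dvd.mul_right hd _
  · refine ⟨A, hI, hle, fun hd => ?_, hext⟩
    have h1 := Subgroup.relIndex_mul_index hle
    rw [hA] at h1
    have h2 : ℓ ∣ 3 := by rw [← h1]; exact Dvd.dvd.mul_right hd _
    exact h ((Nat.prime_dvd_prime_iff_eq hℓ Nat.prime_three).1 h2)

section

variable (K : Type u) [Field K] [Finite K]

/-- the order of `Out` for a prime field -/
theorem card_out_prime {p : ℕ} [Fact p.Prime] (hp : Nat.card K = p) :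
    Nat.card (Cfsg.Out (P (quadOf (CForm.plusF K 4) (isQuad_plus K 4)))) = 3 * (if p = 2 then 2 else 8) := by
  have := Fintype.ofFinite K
  have h1 := Cfsg.Agent.H989.OutOrth.Four.card_Out4 (F := K) (p := p) (f := 1) le_rfl (by
    rw [pow_one, ← hp, Nat.card_eq_fintype_card])
  rw [mul_one] at h1
  exact transport K (p := fun Q _ => Nat.card (Cfsg.Out (P Q)) = 3 * (if p = 2 then 2 else 8)) (fun _ => h1)
    (good_plusF K (by norm_num))

/-- **the row `q = 2`** -/
theorem row_two (hq : Nat.card K = 2) {r : ℕ} (hr : r.Prime) (hrq : ¬ r ∣ Nat.card K)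
    (hd : r ∣ Nat.card (POmega K (quadFormPlus 4 K))) : HasExt r (POmega K (quadFormPlus 4 K)) := by
  have : Fact (Nat.Prime 2) := ⟨Nat.prime_two⟩
  have hchar : CharP K 2 := by
    obtain ⟨p, hp⟩ := CharP.exists K
    have hpp : p.Prime := CharP.char_is_prime K p
    have : Fact p.Prime := ⟨hpp⟩
    obtain ⟨s, hs⟩ := card_pow K p
    have h2 : p ∣ 2 := by
      rw [← hq, hs]
      apply dvd_pow_self
      rintro rfl
      rw [hs] at hq
      norm_num at hq
    have : p = 2 := (Nat.prime_dvd_prime_iff_eq hpp Nat.prime_two).1 h2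
    rwa [this] at hp
  obtain ⟨χ, hχ⟩ := im_plus_main K (p := 2) (m := 4) (by norm_num) hr (by
    rintro rfl
    rw [hq] at hrq
    exact hrq dvd_rfl) hd
  obtain ⟨e⟩ := pomega_equiv K
  have hfi := finite_iso (CForm.plusF K 4)
  have hfE : Finite ↥(E (quadOf (CForm.plusF K 4) (isQuad_plus K 4))) :=
    Finite.of_surjective _ (toE_surjective _ (good_plusF K (by norm_num)))
  have : Finite (POmega K (quadFormPlus 4 K)) := Finite.of_equiv _ e.toEquiv.symm
  have hsq : Squarefree (Nat.card (Cfsg.Out (P (quadOf (CForm.plusF K 4) (isQuad_plus K 4))))) := by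
    rw [card_out_prime K hq, if_pos rfl]
    rw [Nat.squarefree_mul (by norm_num)]
    exact ⟨Nat.prime_three.prime.squarefree, Nat.prime_two.prime.squarefree⟩
  have hcyc : SylCyc (POmega K (quadFormPlus 4 K)) := SylCyc.of_equiv e (sylCyc_of_squarefree hsq)
  refine ⟨χ, χ.2, hχ, extTo_of_sylCyc ?_ χ.2 (range_le_stab (Core.isIrr_isClassFunction χ.2)) le_rfl
    (SylCycIn.mono le_top hcyc)⟩
  exact Cfsg.Agent.H464.ExtR3.center_plus (by norm_num)

end

end Cfsg.Agent.H809.D4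
end

-- part: H809/D4/Row
section
/-!
# S4832, POmega8+(q): the row (helper809)
-/

set_option autoImplicit false

open Cfsg

namespace Cfsg.Agent.H809.D4

open Cfsg.Agent.H576.Ext Cfsg.Agent.H477.HC Cfsg.Agent.H477.HC.CForm Cfsg.Agent.H53.HC
  Cfsg.Agent.LieClassical.OrthCore Cfsg.Agent.LieClassical.OrthTrans
  Cfsg.Agent.LieClassical.OrthSimple Cfsg.Agent.H624.ExtO Cfsg.Agent.ClassicalGeometry.OrthSemi
  Cfsg.Agent.ClassicalGeometry.OrthAut1

universe u

variable (K : Type u) [Field K] [Finite K]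

/-- **the rows `q = 3`, `5`** -/
theorem row_three_five {p : ℕ} (hp : p = 3 ∨ p = 5) (hq : Nat.card K = p) {r : ℕ} (hr : r.Prime)
    (hrq : ¬ r ∣ Nat.card K) (hd : r ∣ Nat.card (POmega K (quadFormPlus 4 K))) :
    HasExt r (POmega K (quadFormPlus 4 K)) := by
  have hpp : p.Prime := by rcases hp with rfl | rfl <;> norm_num
  have : Fact p.Prime := ⟨hpp⟩
  have hG := good_plusF K (m := 4) (by norm_num)
  have hfi := finite_iso (CForm.plusF K 4)
  have hfE : Finite ↥(E (quadOf (CForm.plusF K 4) (isQuad_plus K 4))) :=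
    Finite.of_surjective _ (toE_surjective _ hG)
  have hfP : Finite (P (quadOf (CForm.plusF K 4) (isQuad_plus K 4))) := inferInstance
  obtain ⟨e⟩ := pomega_equiv K
  have hfS : Finite (POmega K (quadFormPlus 4 K)) := Finite.of_equiv _ e.toEquiv.symm
  have key := dvd_key K hr hrq hd
  have h9 : ¬ 3 ^ 2 ∣ Nat.card (Cfsg.Out (POmega K (quadFormPlus 4 K))) := by
    rw [Cfsg.Agent.H934.OutB.card_out_congr e, card_out_prime K hq]
    rcases hp with rfl | rfl <;> norm_num
  obtain ⟨D, hD, χ₁, χ₂, h1, h2, h3, h4⟩ := Cfsg.Agent.H464.ExtR3.rk3_plus_four K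
  have hZ : Subgroup.center (POmega K (quadFormPlus 4 K)) = ⊥ := Cfsg.Agent.H464.ExtR3.center_plus (by norm_num)
  have f1 : r ∣ Nat.card K * (Nat.card K ^ 2 + 1) ^ 2 → HasExt r (POmega K (quadFormPlus 4 K)) := fun hdvd =>
    ⟨χ₁, χ₁.2, by rw [Cfsg.Agent.H464.ExtR3.charDegree_eq h1]; exact hdvd,
      ext_of_le hZ χ₁.2 _ hD h3.2 (Cfsg.Agent.H464.ExtR3.inn_le D) h3.1 h9⟩
  have f2 : r ∣ Nat.card K ^ 2 * (Nat.card K ^ 4 + Nat.card K ^ 2 + 1) → HasExt r (POmega K (quadFormPlus 4 K)) :=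
    fun hdvd => ⟨χ₂, χ₂.2, by rw [Cfsg.Agent.H464.ExtR3.charDegree_eq h2]; exact hdvd,
      ext_of_le hZ χ₂.2 _ hD h4.2 (Cfsg.Agent.H464.ExtR3.inn_le D) h4.1 h9⟩
  have hab : r ∣ Nat.card K * (Nat.card K ^ 2 + 1) ^ 2 ∨ r ∣ Nat.card K ^ 2 * (Nat.card K ^ 4 + Nat.card K ^ 2 + 1) := by
    rw [hq] at key hrq ⊢
    rcases hp with rfl | rfl
    · have h1 : r ∣ 2 ^ 5 * 5 ^ 2 * 7 * 13 := by norm_num at key ⊢; exact key
      rcases hr.dvd_mul.1 h1 with h | h
      · rcases hr.dvd_mul.1 h with h | h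
        · rcases hr.dvd_mul.1 h with h | h
          · have := hr.dvd_of_dvd_pow h
            exact Or.inl (this.trans (by norm_num))
          · have := hr.dvd_of_dvd_pow h
            exact Or.inl (this.trans (by norm_num))
        · exact Or.inr (h.trans (by norm_num))
      · exact Or.inr (h.trans (by norm_num))
    · have h1 : r ∣ 2 ^ 5 * 13 ^ 2 * 3 ^ 2 * 7 * 31 := by norm_num at key ⊢; exact key
      rcases hr.dvd_mul.1 h1 with h | h
      · rcases hr.dvd_mul.1 h with h | h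
        · rcases hr.dvd_mul.1 h with h | h
          · rcases hr.dvd_mul.1 h with h | h
            · have := hr.dvd_of_dvd_pow h
              exact Or.inl (this.trans (by norm_num))
            · have := hr.dvd_of_dvd_pow h
              exact Or.inl (this.trans (by norm_num))
          · have := hr.dvd_of_dvd_pow h
            exact Or.inr (this.trans (by norm_num))
        · exact Or.inr (h.trans (by norm_num))
      · exact Or.inr (h.trans (by norm_num))
  exact hab.elim f1 f2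

/-- **`POmega8+(q)`, all `q`**: every prime divisor other than the characteristic -/
theorem row_omega_plus_four {r : ℕ} (hr : r.Prime) (hrq : ¬ r ∣ Nat.card K)
    (hd : r ∣ Nat.card (POmega K (quadFormPlus 4 K))) : HasExt r (POmega K (quadFormPlus 4 K)) := by
  have h2 : 2 ≤ Nat.card K := Finite.one_lt_card
  by_cases e2 : Nat.card K = 2
  · exact row_two K e2 hr hrq hd
  by_cases e3 : Nat.card K = 3
  · exact row_three_five K (Or.inl rfl) e3 hr hrq hd
  by_cases e5 : Nat.card K = 5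
  · exact row_three_five K (Or.inr rfl) e5 hr hrq hd
  exact row_gen K (by omega) e5 hr hrq hd

end Cfsg.Agent.H809.D4
end
end
end
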